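import Groth.Agent.S8406
import Groth.Agent.H1.Classical.TorusTransporter
import Groth.Prelude.Def_SGA3x

/-!
# Points of the transporter and conjugation; conjugacy on geometric fibres
-/

set_option autoImplicit false
set_option linter.style.haveILetI false

universe u

open CategoryTheory CategoryTheory.Limits AlgebraicGeometry MonoidalCategory CartesianMonoidalCategory
open CategoryTheory.MonObj CategoryTheory.GrpObj
open Groth.Agent.Lib
open Groth.Agent.Lib.RedPts

namespace Groth.Agent.Lib.SmWeil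

variable {S : Scheme.{u}} {G T₁ T₂ : Over S} [GrpObj G]

/-- `g` transports `i₁` onto `i₂`. -/
def Transports (i₁ : T₁ ⟶ G) (i₂ : T₂ ⟶ G) {X : Over S} (g : X ⟶ G) : Prop :=
  ∀ (X' : Over S) (x : X' ⟶ X),
    (∀ a : X' ⟶ T₁, ∃ b : X' ⟶ T₂, (x ≫ g) * (a ≫ i₁) * (x ≫ g)⁻¹ = b ≫ i₂) ∧
    (∀ b : X' ⟶ T₂, ∃ a : X' ⟶ T₁, (x ≫ g)⁻¹ * (b ≫ i₂) * (x ≫ g) = a ≫ i₁)

variable {S' : Scheme.{u}} (f : S' ⟶ S) {i₁ : T₁ ⟶ G} {i₂ : T₂ ⟶ G}

/-- The unit object of `Over S'`, seen over `S`. -/
noncomputable def unitIso : (Over.map f).obj (𝟙_ (Over S')) ≅ Over.mk f :=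
  Over.isoMk (Iso.refl _) (by simp)

/-- The point of the base change given by a point. -/
noncomputable def ptUp (g : Over.mk f ⟶ G) : 𝟙_ (Over S') ⟶ Red.bc f G := BC.up f ((unitIso f).hom ≫ g)

theorem down_toUnit_ptUp (g : Over.mk f ⟶ G) (Y : Over S') :
    BC.down f (toUnit Y ≫ ptUp f g) = (Over.map f).map (toUnit Y) ≫ (unitIso f).hom ≫ g := by
  rw [BC.down_comp, ptUp, BC.down_up]

theorem conjBy_of_transports [Mono i₁] [Mono i₂] (g : Over.mk f ⟶ G) (hg : Transports i₁ i₂ g) :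
    SGA3x.ConjBy ((Over.pullback f).map i₁) ((Over.pullback f).map i₂) (ptUp f g) := by
  obtain ⟨b, hb⟩ := (hg _ ((Over.map f).map (toUnit (Red.bc f T₁)) ≫ (unitIso f).hom)).1
    (BC.down f (𝟙 (Red.bc f T₁)))
  obtain ⟨a, ha⟩ := (hg _ ((Over.map f).map (toUnit (Red.bc f T₂)) ≫ (unitIso f).hom)).2
    (BC.down f (𝟙 (Red.bc f T₂)))
  simp only [Category.assoc] at hb ha
  let φ : Red.bc f T₁ ⟶ Red.bc f T₂ := BC.up f b
  let ψ : Red.bc f T₂ ⟶ Red.bc f T₁ := BC.up f a
  have hφ : φ ≫ (Over.pullback f).map i₂ = (toUnit _ ≫ ptUp f g) * (Over.pullback f).map i₁ *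
      (toUnit _ ≫ ptUp f g)⁻¹ := BC.down_injective (by
    rw [BC.down_mul, BC.down_mul, BC.down_inv, down_toUnit_ptUp, BC.down_map,
      ← Category.id_comp ((Over.pullback f).map i₁), BC.down_map, BC.down_up]
    exact hb.symm)
  have hψ : ψ ≫ (Over.pullback f).map i₁ = (toUnit _ ≫ ptUp f g)⁻¹ * (Over.pullback f).map i₂ *
      (toUnit _ ≫ ptUp f g) := BC.down_injective (by
    rw [BC.down_mul, BC.down_mul, BC.down_inv, down_toUnit_ptUp, BC.down_map,
      ← Category.id_comp ((Over.pullback f).map i₂), BC.down_map, BC.down_up]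
    exact ha.symm)
  refine ⟨⟨φ, ψ, ?_, ?_⟩, hφ.symm⟩
  · rw [← cancel_mono ((Over.pullback f).map i₁), Category.assoc, hψ, MonObj.comp_mul, MonObj.comp_mul,
      GrpObj.comp_inv, ← Category.assoc, toUnit_unique (φ ≫ toUnit _) (toUnit _), hφ, Category.id_comp]
    group
  · rw [← cancel_mono ((Over.pullback f).map i₂), Category.assoc, hφ, MonObj.comp_mul, MonObj.comp_mul,
      GrpObj.comp_inv, ← Category.assoc, toUnit_unique (ψ ≫ toUnit _) (toUnit _), hψ, Category.id_comp]
    group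

theorem transports_of_conjBy (g : 𝟙_ (Over S') ⟶ Red.bc f G)
    (hg : SGA3x.ConjBy ((Over.pullback f).map i₁) ((Over.pullback f).map i₂) g) :
    Transports i₁ i₂ ((unitIso f).inv ≫ BC.down f g) := by
  obtain ⟨φ, hφ⟩ := hg
  intro X' x
  let Y : Over S' := Over.mk x.left
  let ε : (Over.map f).obj Y ≅ X' := Over.isoMk (Iso.refl _) (by simpa [Y] using (Over.w x).symm)
  have hx : BC.down f (toUnit Y ≫ g) = ε.hom ≫ x ≫ (unitIso f).inv ≫ BC.down f g := by
    rw [BC.down_comp]
    simp only [← Category.assoc]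
    congr 1
  have key : ∀ a : Y ⟶ Red.bc f T₁, BC.down f (a ≫ φ.hom) ≫ i₂ =
      BC.down f (toUnit Y ≫ g) * (BC.down f a ≫ i₁) * (BC.down f (toUnit Y ≫ g))⁻¹ := fun a => by
    rw [← BC.down_map, Category.assoc, ← hφ, MonObj.comp_mul, MonObj.comp_mul, GrpObj.comp_inv, BC.down_mul,
      BC.down_mul, BC.down_inv, BC.down_map, ← Category.assoc a, toUnit_unique (a ≫ toUnit _) (toUnit Y)]
  refine ⟨fun a => ⟨ε.inv ≫ BC.down f (BC.up f (ε.hom ≫ a) ≫ φ.hom), ?_⟩,
    fun b => ⟨ε.inv ≫ BC.down f (BC.up f (ε.hom ≫ b) ≫ φ.inv), ?_⟩⟩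
  · rw [Category.assoc ε.inv, key, BC.down_up, hx]
    simp [MonObj.comp_mul, GrpObj.comp_inv]
  · have h := congrArg (ε.inv ≫ ·) (key (BC.up f (ε.hom ≫ b) ≫ φ.inv))
    simp only [Category.assoc, Iso.inv_hom_id, Category.comp_id, BC.down_up, Iso.inv_hom_id_assoc, hx,
      MonObj.comp_mul, GrpObj.comp_inv] at h
    rw [h]
    simp only [Category.assoc]
    group

section Field

open Groth.Agent.H63.GrpConnected Groth.Agent.H63.GrpIdentity Groth.Agent.H63.GrpComponent Groth.Agent.H63.GrpIrred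

/-- Maximal tori of a smooth group over an algebraically closed field are conjugate. -/
theorem exists_conjBy {K : Type u} [Field K] [IsAlgClosed K] {G T₁ T₂ : Over (Spec (CommRingCat.of K))}
    [GrpObj G] [GrpObj T₁] [GrpObj T₂] [Smooth G.hom] [QuasiCompact G.hom] {i₁ : T₁ ⟶ G} {i₂ : T₂ ⟶ G}
    (h₁ : Red.IsMaximalTorus i₁) (h₂ : Red.IsMaximalTorus i₂) :
    ∃ g : 𝟙_ (Over (Spec (CommRingCat.of K))) ⟶ G, SGA3x.ConjBy i₁ i₂ g := by
  haveI := GrpSch.isSeparated_of_field G
  letI := idGrp G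
  haveI := isMonHom_idHom G
  haveI : IsClosedImmersion (idHom G).left := isClosedImmersion_idIncl G
  haveI : Flat (idHom G).left := flat_idIncl G
  haveI : IsLocallyNoetherian G.left := LocallyOfFiniteType.isLocallyNoetherian G.hom
  haveI : IsOpenImmersion (idHom G).left := IsOpenImmersion.of_flat_of_mono _
  haveI : Smooth (idObj G).hom := by rw [← Over.w (idHom G)]; infer_instance
  haveI : QuasiCompact (idObj G).hom := by rw [← Over.w (idHom G)]; infer_instance
  haveI : ConnectedSpace (idObj G).left := by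
    have h : _root_.IsPreconnected (Set.range (idHom G).left) := by
      show _root_.IsPreconnected (Set.range (idIncl G))
      rw [range_idIncl, ← connectedComponent_unit]
      exact isPreconnected_connectedComponent
    haveI : PreconnectedSpace (idObj G).left := by
      refine ⟨?_⟩
      rw [← Set.image_univ] at h
      exact ((idHom G).left.isClosedEmbedding.isInducing.isPreconnected_image).mp h
    exact { toNonempty := ⟨η[idObj G].left (IsLocalRing.closedPoint K)⟩ }
  have lift : ∀ {U : Over (Spec (CommRingCat.of K))} [GrpObj U] (i : U ⟶ G), Red.IsMaximalTorus i →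
      ∃ i₀ : U ⟶ idObj G, i₀ ≫ idHom G = i ∧ Red.IsMaximalTorus i₀ := by
    intro U _ i hi
    haveI := hi.1
    haveI := hi.2.1
    obtain ⟨r, ⟨e⟩⟩ := H87.TorusIn.exists_split U hi.2.2.1
    haveI := H87.GmFibre.connectedSpace_ds K r
    let eo := Tori.BaseChange.overIso e
    haveI : IsIso eo.inv.left := inferInstanceAs (IsIso ((Over.forget _).map eo.inv))
    haveI : ConnectedSpace U.left :=
      eo.inv.left.homeomorph.surjective.connectedSpace eo.inv.left.homeomorph.continuous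
    obtain ⟨i₀, hi₀⟩ := exists_lift G i fun t => by
      rw [← connectedComponent_unit]
      have hsub : Set.range i.left ⊆ connectedComponent (unitPt G) :=
        (isPreconnected_range i.left.continuous).subset_connectedComponent
          ⟨η[U].left (IsLocalRing.closedPoint K), by
            rw [← Scheme.Hom.comp_apply, ← Over.comp_left, IsMonHom.one_hom (f := i)]⟩
      exact hsub ⟨t, rfl⟩
    refine ⟨i₀, hi₀, ?_⟩
    haveI : IsMonHom (i₀ ≫ idHom G) := hi₀.symm ▸ inferInstance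
    haveI : IsMonHom i₀ := H1.Classical.CentralizerBorel.isMonHom_of_mono_comp i₀ (idHom G)
    haveI : Mono i₀ := mono_of_mono_fac hi₀
    exact isMaximalTorus_of_maximal i₀ hi.2.2.1 fun T'' _ j _ _ f hT'' hf =>
      maximal_of_isMaximalTorus hi (j ≫ idHom G) f hT'' (by rw [← Category.assoc, hf, hi₀])
  obtain ⟨a, ha, hA⟩ := lift i₁ h₁
  obtain ⟨b, hb, hB⟩ := lift i₂ h₂
  obtain ⟨g, φ, hφ⟩ := S8406.result K (idObj G) T₁ T₂ a b hA hB
  refine ⟨g ≫ idHom G, φ, ?_⟩
  have h := congrArg (· ≫ idHom G) hφ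
  simpa only [MonObj.mul_comp, GrpObj.inv_comp, Category.assoc, ha, hb] using h

end Field

end Groth.Agent.Lib.SmWeil
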