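import Groth.Agent.Lib.SmWeil.CartanAux
import Groth.Agent.Lib.SmWeil.TorusConjEtale
import Groth.Agent.H87.MultLift
import Groth.Agent.Lib.EtaleSection.Sections

/-!
# A Cartan subgroup contains a maximal torus, étale locally, and is its centralizer
-/

set_option autoImplicit false
set_option linter.style.haveILetI false

universe u

open CategoryTheory CategoryTheory.Limits AlgebraicGeometry MonoidalCategory CartesianMonoidalCategory
open CategoryTheory.MonObj CategoryTheory.GrpObj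
open Groth.Agent.Lib Groth.Agent.Lib.RedPts Groth.Agent.Lib.Tori Groth.Agent.H87 Groth.Agent.H87.HomDS

namespace Groth.Agent.Lib.SmWeil.CartanTorus

theorem isCentralizerOf_field {K : Type u} [Field K] [IsAlgClosed K] {G C T : Over (Spec (CommRingCat.of K))}
    [GrpObj G] [GrpObj C] [GrpObj T] [LocallyOfFiniteType G.hom] {c : C ⟶ G} (hc : SGA3x.IsCartanOver K c)
    {i : T ⟶ G} (hT : Red.IsMaximalTorus i) (a : T ⟶ C) (ha : a ≫ c = i) : Red.IsCentralizerOf i c := by
  obtain ⟨-, -, U, _, u, hu, hcu⟩ := hc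
  haveI := hu.1
  haveI := hu.2.1
  haveI := hT.1
  haveI := hT.2.1
  obtain ⟨w, hw⟩ := TorusIn.exists_fac_field i u hT.2.2.1 hu.2.2.1
    (fun T' _ j' _ _ f h e => maximal_of_isMaximalTorus hT j' f h e)
    (fun X t r => (hcu.2.2 _ i).1 ⟨a, ha⟩ X t r)
  haveI : IsMonHom (w ≫ i) := hw.symm ▸ inferInstance
  haveI : IsMonHom w := MaxTorusBC.isMonHom_of_mono_comp w i
  haveI := maximal_of_isMaximalTorus hu i w hT.2.2.1 hw
  exact CartanAux.isCentralizerOf_congr (Iso.refl G) (asIso w) (Iso.refl C) (inferInstanceAs (IsMonHom (𝟙 G)))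
    (inferInstanceAs (IsMonHom (𝟙 C))) ((Category.comp_id u).trans hw.symm)
    ((Category.comp_id c).trans (Category.id_comp c).symm) hcu

variable {S : Scheme.{u}} {G C T : Over S} [GrpObj G] [GrpObj C] [GrpObj T]

theorem geomFibre_isMaximalTorus {i : T ⟶ G} (hT : Red.IsMaximalTorus i) (s : S) :
    Red.IsMaximalTorus ((Over.pullback (Red.geomPt s)).map i) := by
  obtain ⟨hm, hmono, hTt, hmax⟩ := hT
  haveI := hm
  haveI := hmono
  exact isMaximalTorus_of_maximal _ (Basic.isTorus_bc hTt _) (hmax s)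

theorem isIso_of_split {X Y : Over S} (f : X ⟶ Y) [Mono f] (r : Y ⟶ X) (h : r ≫ f = 𝟙 Y) : IsIso f :=
  ⟨r, by rw [← cancel_mono f, Category.assoc, h, Category.comp_id, Category.id_comp], h⟩

/-- **A Cartan subgroup containing a maximal torus is its centralizer.** -/
theorem isCentralizerOf_of_le [Smooth G.hom] [IsSeparated G.hom] {c : C ⟶ G} (hc : SGA3x.IsCartan c)
    {i : T ⟶ G} (hT : Red.IsMaximalTorus i) (a : T ⟶ C) (ha : a ≫ c = i) : Red.IsCentralizerOf i c := by
  have hcs := hc.2.2.2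
  haveI := hc.1
  haveI := hc.2.1
  haveI := hc.2.2.1
  haveI := hT.1
  haveI := hT.2.1
  haveI : IsMonHom (a ≫ c) := ha.symm ▸ inferInstance
  haveI : IsMonHom a := MaxTorusBC.isMonHom_of_mono_comp a c
  haveI : Mono a := mono_of_mono_fac ha
  have hfib : ∀ s : S, Red.IsCentralizerOf ((Over.pullback (Red.geomPt s)).map i)
      ((Over.pullback (Red.geomPt s)).map c) := fun s => by
    haveI : LocallyOfFiniteType (Red.bc (Red.geomPt s) G).hom :=
      MorphismProperty.pullback_snd (P := @LocallyOfFiniteType) _ _ inferInstance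
    exact isCentralizerOf_field (hcs s) (geomFibre_isMaximalTorus hT s) ((Over.pullback (Red.geomPt s)).map a)
      (by rw [← Functor.map_comp, ha])
  -- `C` commutes with `T`
  obtain ⟨W, _, z, hW, -, hWsm⟩ := exists_centralizer_torus hT.2.2.1 a
  haveI := hW.1
  haveI := hW.2.1
  haveI := hWsm
  haveI : IsIso z := CartanAux.isIso_of_geom_fibres z fun s => by
    have hWs := H1.Classical.FieldDescent.isCentralizerOf_bc (Red.geomPt s) hW
    haveI := hWs.2.1
    obtain ⟨r, hr⟩ := (hWs.2.2 _ (𝟙 _)).2 fun X' x h => by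
      rw [Category.comp_id, ← cancel_mono ((Over.pullback (Red.geomPt s)).map c), MonObj.mul_comp, MonObj.mul_comp,
        Category.assoc, ← Functor.map_comp, ha]
      exact ((hfib s).2.2 _ ((Over.pullback (Red.geomPt s)).map c)).1 ⟨𝟙 _, Category.id_comp _⟩ X' x h
    exact isIso_of_split _ r hr
  have hcomm : ∀ (X' : Over S) (x : X' ⟶ C) (h : X' ⟶ T), (x ≫ c) * (h ≫ i) = (h ≫ i) * (x ≫ c) := by
    intro X' x h
    have e := congrArg (· ≫ c) ((hW.2.2 C (𝟙 C)).1 ⟨CategoryTheory.inv z, IsIso.inv_hom_id z⟩ X' x h)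
    simp only [Category.comp_id, MonObj.mul_comp, Category.assoc, ha] at e
    exact e
  obtain ⟨C₂, _, c₂, hC₂, -, hC₂sm⟩ := exists_centralizer_torus hT.2.2.1 i
  haveI := hC₂.1
  haveI := hC₂.2.1
  haveI := hC₂sm
  obtain ⟨u, hu⟩ := (hC₂.2.2 C c).2 hcomm
  haveI : Mono u := mono_of_mono_fac hu
  haveI : IsMonHom (u ≫ c₂) := hu.symm ▸ inferInstance
  haveI : IsMonHom u := MaxTorusBC.isMonHom_of_mono_comp u c₂
  haveI : IsIso u := CartanAux.isIso_of_geom_fibres u fun s => by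
    have h2 := H1.Classical.FieldDescent.isCentralizerOf_bc (Red.geomPt s) hC₂
    haveI := h2.2.1
    obtain ⟨v, hv⟩ := ((hfib s).2.2 _ ((Over.pullback (Red.geomPt s)).map c₂)).2
      ((h2.2.2 _ _).1 ⟨𝟙 _, Category.id_comp _⟩)
    refine isIso_of_split _ v ?_
    rw [← cancel_mono ((Over.pullback (Red.geomPt s)).map c₂), Category.assoc, ← Functor.map_comp, hu, hv,
      Category.id_comp]
  refine CartanAux.isCentralizerOf_congr (Iso.refl G) (Iso.refl T) (asIso u).symm (inferInstanceAs (IsMonHom (𝟙 G)))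
    (CartanAux.isMonHom_inv (asIso u) inferInstance) ((Category.comp_id i).trans (Category.id_comp i).symm) ?_ hC₂
  show c₂ ≫ 𝟙 G = CategoryTheory.inv u ≫ c
  rw [Category.comp_id, IsIso.eq_inv_comp, hu]

/-- Conjugation by a point, as an automorphism. -/
noncomputable def conjIso (g : 𝟙_ (Over S) ⟶ G) : G ≅ G where
  hom := (toUnit G ≫ g) * 𝟙 G * (toUnit G ≫ g)⁻¹
  inv := (toUnit G ≫ g)⁻¹ * 𝟙 G * (toUnit G ≫ g)
  hom_inv_id := by
    rw [MonObj.comp_mul, MonObj.comp_mul, GrpObj.comp_inv, Category.comp_id, ← Category.assoc,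
      toUnit_unique (_ ≫ toUnit G) (toUnit G)]
    group
  inv_hom_id := by
    rw [MonObj.comp_mul, MonObj.comp_mul, GrpObj.comp_inv, Category.comp_id, ← Category.assoc,
      toUnit_unique (_ ≫ toUnit G) (toUnit G)]
    group

theorem comp_conjIso {X : Over S} (x : X ⟶ G) (g : 𝟙_ (Over S) ⟶ G) :
    x ≫ (conjIso g).hom = (toUnit X ≫ g) * x * (toUnit X ≫ g)⁻¹ := by
  show x ≫ ((toUnit G ≫ g) * 𝟙 G * (toUnit G ≫ g)⁻¹) = _
  rw [MonObj.comp_mul, MonObj.comp_mul, GrpObj.comp_inv, Category.comp_id, ← Category.assoc,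
    toUnit_unique (x ≫ toUnit G) (toUnit X)]

theorem isMonHom_conjIso (g : 𝟙_ (Over S) ⟶ G) : IsMonHom (conjIso g).hom :=
  HomDS.isMonHom_of_points _ fun X a b => by
    rw [comp_conjIso, comp_conjIso, comp_conjIso]
    group

/-- **The transporter of a maximal torus into a smooth subgroup is smooth, and meets the fibres containing a maximal torus.** -/
theorem exists_transporter_of_fac [Smooth G.hom] [IsSeparated G.hom] [QuasiCompact G.hom] (c : C ⟶ G) [IsMonHom c] [Mono c]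
    [Smooth C.hom] {i : T ⟶ G} (hT : Red.IsMaximalTorus i) :
    ∃ (X : Over S) (x : X ⟶ G), Smooth X.hom ∧
      (∀ s : S, (∃ (U : Over (Spec (CommRingCat.of (AlgebraicClosure (S.residueField s))))) (_ : GrpObj U)
          (u : U ⟶ Red.bc (Red.geomPt s) G), Red.IsMaximalTorus u ∧ ∃ au, au ≫ (Over.pullback (Red.geomPt s)).map c = u) →
        ∃ p : X.left, X.hom p = s) ∧
      ∀ (Y : Over S) (y : Y ⟶ X) (h : Y ⟶ T), ∃ κ : Y ⟶ C,
        (y ≫ x) * (h ≫ i) * (y ≫ x)⁻¹ = κ ≫ c := by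
  haveI := hT.1
  haveI := hT.2.1
  have hTt := hT.2.2.1
  haveI := Tori.Basic.smooth_of_isTorus hTt
  haveI := Tori.Basic.isAffineHom_of_isTorus hTt
  haveI := geometricallyConnected_of_isTorus hTt
  haveI : LocallyOfFinitePresentation c.left := lfp_left c
  obtain ⟨C₁, c₁, hc₁, hc₁fp, hC₁⟩ := exists_transporter_mono i c
  haveI := hc₁
  haveI := hc₁fp
  haveI : LocallyOfFinitePresentation C₁.hom := by rw [← Over.w c₁]; infer_instance
  refine ⟨C₁, c₁, ?_, fun s hcs => ?_, fun Y y h => ?_⟩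
  · refine GrpSch.smooth_of_liftings C₁.hom fun A J hJ t c₀ hc₀ => ?_
    let z₀ : test t (MultAvg.mkA J) ⟶ C₁ := Over.homMk c₀ hc₀
    let q := Bridge.mq (R := A) J
    haveI : Smooth (Red.bc t G).hom := MorphismProperty.pullback_snd (P := @Smooth) _ _ inferInstance
    haveI : Smooth (Red.bc t C).hom := MorphismProperty.pullback_snd (P := @Smooth) _ _ inferInstance
    let e₀ : (Over.map t).obj (test (𝟙 (Spec A)) (MultAvg.mkA J)) ⟶ test t (MultAvg.mkA J) :=
      Over.homMk (𝟙 _) (by simp)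
    let g₀ : test (𝟙 (Spec A)) (MultAvg.mkA J) ⟶ Red.bc t G := BC.up t (e₀ ≫ z₀ ≫ c₁)
    let εU : (Over.map q).obj (𝟙_ (Over (Spec (CommRingCat.of (A ⧸ J))))) ⟶ test (𝟙 (Spec A)) (MultAvg.mkA J) :=
      Over.homMk (𝟙 _) (by simp [q])
    let gU : 𝟙_ _ ⟶ Red.bc q (Red.bc t G) := BC.up q (εU ≫ g₀)
    let w : Red.bc q (Red.bc t T) ⟶ Red.bc q (Red.bc t G) :=
      (Over.pullback q).map ((Over.pullback t).map i) ≫ (conjIso gU).hom
    haveI := isMonHom_conjIso gU
    haveI : IsMonHom w := inferInstanceAs (IsMonHom ((Over.pullback q).map ((Over.pullback t).map i) ≫ (conjIso gU).hom))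
    let Y := Red.bc q (Red.bc t T)
    obtain ⟨κ, hκ⟩ := (hC₁ (z₀ ≫ c₁)).1 ⟨z₀, rfl⟩ _
      ((Over.map t).map ((Over.map q).map (toUnit Y) ≫ εU) ≫ e₀) (BC.down t (BC.down q (𝟙 Y)))
    let v : Red.bc q (Red.bc t T) ⟶ Red.bc q (Red.bc t C) := BC.up q (BC.up t κ)
    have hgU : BC.down t (BC.down q (toUnit Y ≫ gU)) =
        (Over.map t).map ((Over.map q).map (toUnit Y) ≫ εU) ≫ e₀ ≫ z₀ ≫ c₁ := by
      rw [BC.down_comp, show gU = BC.up q (εU ≫ g₀) from rfl, BC.down_up, ← Category.assoc, BC.down_comp,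
        show g₀ = BC.up t (e₀ ≫ z₀ ≫ c₁) from rfl, BC.down_up]
    have hi : BC.down t (BC.down q ((Over.pullback q).map ((Over.pullback t).map i))) =
        BC.down t (BC.down q (𝟙 Y)) ≫ i := by
      rw [← Category.id_comp ((Over.pullback q).map ((Over.pullback t).map i)), BC.down_map, BC.down_map]
    have hv : v ≫ (Over.pullback q).map ((Over.pullback t).map c) = w := by
      refine BC.down_injective (BC.down_injective ?_)
      rw [show w = (toUnit Y ≫ gU) * (Over.pullback q).map ((Over.pullback t).map i) * (toUnit Y ≫ gU)⁻¹ from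
        comp_conjIso _ _, BC.down_map, BC.down_map, BC.down_up, BC.down_up, ← hκ, BC.down_mul, BC.down_mul,
        BC.down_inv, BC.down_mul, BC.down_mul, BC.down_inv, hgU, hi]
      simp only [Category.assoc]
    haveI : IsMonHom (v ≫ (Over.pullback q).map ((Over.pullback t).map c)) := by rw [hv]; infer_instance
    haveI : IsMonHom v := MaxTorusBC.isMonHom_of_mono_comp v ((Over.pullback q).map ((Over.pullback t).map c))
    obtain ⟨j, hjm, hj⟩ := Bridge.exists_hom_lift (R := A) (J := J) ⟨2, hJ⟩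
      (locSplit_of_isTorus (Tori.Basic.isTorus_bc hTt t)) v
    haveI := hjm
    let bT : Red.bc t T ⟶ Red.bc t G := j ≫ (Over.pullback t).map c
    haveI : IsMonHom bT := inferInstanceAs (IsMonHom (j ≫ (Over.pullback t).map c))
    have hrel₀ : MultAvg.Rel ((Over.pullback t).map i) bT g₀ := by
      intro Y₁ p h
      let Y₀ : Over (Spec (CommRingCat.of (A ⧸ J))) := Over.mk p.left
      let ε : (Over.map q).obj Y₀ ≅ Y₁ := Over.isoMk (Iso.refl _) (by
        have := Over.w p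
        simp [Y₀, q] at this ⊢
        exact this.symm)
      let h₀ : Y₀ ⟶ Red.bc q (Red.bc t T) := BC.up q (ε.hom ≫ h)
      have hu : BC.down q (toUnit Y₀ ≫ gU) = ε.hom ≫ p ≫ g₀ := by
        rw [BC.down_comp, BC.down_up, ← Category.assoc ε.hom, ← Category.assoc]
        congr 1
      have e1 : BC.down q (h₀ ≫ w) =
          (ε.hom ≫ p ≫ g₀) * (ε.hom ≫ h ≫ (Over.pullback t).map i) * (ε.hom ≫ p ≫ g₀)⁻¹ := by
        rw [← Category.assoc, comp_conjIso, BC.down_mul, BC.down_mul, BC.down_inv, hu, BC.down_map, BC.down_up,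
          Category.assoc]
      have e2 : BC.down q (h₀ ≫ w) = ε.hom ≫ h ≫ bT := by
        rw [← hv, ← hj, ← Functor.map_comp, BC.down_map, BC.down_up, Category.assoc]
      rw [← cancel_epi ε.hom]
      simp only [MonObj.comp_mul, GrpObj.comp_inv]
      exact e1.symm.trans e2
    obtain ⟨g, hg, hrel⟩ := MultAvg.exists_rel_lift (locSplit_of_isTorus (Tori.Basic.isTorus_bc hTt t))
      ((Over.pullback t).map i) bT (𝟙 _) J ⟨2, hJ⟩ g₀ hrel₀
    let b : test t (𝟙 A) ⟶ (Over.map t).obj (test (𝟙 (Spec A)) (𝟙 A)) := Over.homMk (𝟙 _) (by simp)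
    let gm : test t (𝟙 A) ⟶ G := b ≫ BC.down t g
    obtain ⟨z, hz⟩ := (hC₁ gm).2 fun X' x h => by
      let Y₁ : Over (Spec A) := Over.mk (x.left ≫ Spec.map (𝟙 A))
      let p : Y₁ ⟶ test (𝟙 (Spec A)) (𝟙 A) := Over.homMk x.left (by simp [Y₁])
      let ε : (Over.map t).obj Y₁ ≅ X' := Over.isoMk (Iso.refl _) (by
        have := Over.w x
        simp [Y₁] at this ⊢
        exact this.symm)
      have hx : (Over.map t).map p = ε.hom ≫ x ≫ b := by
        apply Over.OverMorphism.ext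
        simp [p, ε, b]
      refine ⟨ε.inv ≫ BC.down t (BC.up t (ε.hom ≫ h) ≫ j), ?_⟩
      have h1 := congrArg (fun w => ε.inv ≫ BC.down t w) (hrel Y₁ p (BC.up t (ε.hom ≫ h)))
      rw [BC.down_mul, BC.down_mul, BC.down_inv, BC.down_comp, BC.down_map, BC.down_up, hx,
        ← Category.assoc (BC.up t (ε.hom ≫ h)), BC.down_map] at h1
      simpa [gm, MonObj.comp_mul, GrpObj.comp_inv] using h1
    refine ⟨z.left, by rw [Over.w z]; simp, ?_⟩
    rw [← cancel_mono c₁.left, Category.assoc, ← Over.comp_left, hz]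
    have e : Spec.map (MultAvg.mkA J) ≫ g.left = g₀.left := congrArg CommaMorphism.left hg
    show Spec.map (MultAvg.mkA J) ≫ 𝟙 _ ≫ (BC.down t g).left = c₀ ≫ c₁.left
    rw [Category.id_comp, BC.down_left, reassoc_of% e, ← BC.down_left, BC.down_up]
    show 𝟙 _ ≫ c₀ ≫ c₁.left = _
    rw [Category.id_comp]
  · let σ := Red.geomPt s
    let K := AlgebraicClosure (S.residueField s)
    haveI : Smooth (Red.bc σ G).hom := MorphismProperty.pullback_snd (P := @Smooth) _ _ inferInstance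
    haveI : QuasiCompact (Red.bc σ G).hom := MorphismProperty.pullback_snd (P := @QuasiCompact) _ _ inferInstance
    obtain ⟨U, _, u, hu, au, hau⟩ := hcs
    obtain ⟨g, φ, hφ⟩ := exists_conjBy (geomFibre_isMaximalTorus hT s) hu
    obtain ⟨z, -⟩ := (hC₁ ((unitIso σ).inv ≫ BC.down σ g)).2 fun X' x h => by
      let Y₀ : Over (Spec (CommRingCat.of K)) := Over.mk x.left
      let ε : (Over.map σ).obj Y₀ ≅ X' := Over.isoMk (Iso.refl _) (by simpa [Y₀] using (Over.w x).symm)
      have hx : BC.down σ (toUnit Y₀ ≫ g) = ε.hom ≫ x ≫ (unitIso σ).inv ≫ BC.down σ g := by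
        rw [BC.down_comp]
        simp only [← Category.assoc]
        congr 1
      let h₀ : Y₀ ⟶ Red.bc σ T := BC.up σ (ε.hom ≫ h)
      refine ⟨ε.inv ≫ BC.down σ (h₀ ≫ φ.hom ≫ au), ?_⟩
      have e0 : h₀ ≫ φ.hom ≫ u = (toUnit Y₀ ≫ g) * (h₀ ≫ (Over.pullback σ).map i) * (toUnit Y₀ ≫ g)⁻¹ := by
        rw [← hφ, MonObj.comp_mul, MonObj.comp_mul, GrpObj.comp_inv, ← Category.assoc h₀,
          toUnit_unique (h₀ ≫ toUnit _) (toUnit Y₀)]
      have e := congrArg (fun w => ε.inv ≫ BC.down σ w) e0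
      rw [BC.down_mul, BC.down_mul, BC.down_inv, hx, BC.down_map, show BC.down σ h₀ = ε.hom ≫ h from BC.down_up _] at e
      rw [Category.assoc, ← BC.down_map, Category.assoc, Category.assoc, hau]
      simpa [MonObj.comp_mul, GrpObj.comp_inv] using e.symm
    refine ⟨z.left (IsLocalRing.closedPoint K), ?_⟩
    rw [← Scheme.Hom.comp_apply, Over.w z]
    exact Scheme.fromSpecResidueField_apply s _
  · obtain ⟨κ, hκ⟩ := (hC₁ c₁).1 ⟨𝟙 C₁, Category.id_comp _⟩ Y y h
    exact ⟨κ, hκ⟩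

/-- **The transporter of a maximal torus into a smooth subgroup is smooth, and meets the Cartan fibres.** -/
theorem exists_transporter [Smooth G.hom] [IsSeparated G.hom] [QuasiCompact G.hom] (c : C ⟶ G) [IsMonHom c] [Mono c]
    [Smooth C.hom] {i : T ⟶ G} (hT : Red.IsMaximalTorus i) :
    ∃ (X : Over S) (x : X ⟶ G), Smooth X.hom ∧
      (∀ s : S, SGA3x.IsCartanOver (AlgebraicClosure (S.residueField s)) ((Over.pullback (Red.geomPt s)).map c) →
        ∃ p : X.left, X.hom p = s) ∧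
      ∀ (Y : Over S) (y : Y ⟶ X) (h : Y ⟶ T), ∃ κ : Y ⟶ C,
        (y ≫ x) * (h ≫ i) * (y ≫ x)⁻¹ = κ ≫ c := by
  obtain ⟨X, x, h1, h2, h3⟩ := exists_transporter_of_fac c hT
  refine ⟨X, x, h1, fun s hcs => h2 s ?_, h3⟩
  obtain ⟨-, -, U, _, u, hu, hcu⟩ := hcs
  haveI := hu.1
  exact ⟨U, inferInstance, u, hu, (hcu.2.2 _ u).2 fun X' x h => by
    rw [← MonObj.mul_comp, ← MonObj.mul_comp, MaxTorusBC.commute_of_isTorus hu.2.2.1]⟩

/-- **A Cartan subgroup contains a maximal torus étale locally.** -/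
theorem exists_etale_torus [Smooth G.hom] [IsSeparated G.hom] [QuasiCompact G.hom] {c : C ⟶ G}
    (hc : SGA3x.IsCartan c) {i : T ⟶ G} (hT : Red.IsMaximalTorus i) :
    ∃ (S' : Scheme.{u}) (f : S' ⟶ S), Etale f ∧ Surjective f ∧
      ∃ (i' : Red.bc f T ⟶ Red.bc f G) (a : Red.bc f T ⟶ Red.bc f C),
        Red.IsMaximalTorus i' ∧ a ≫ (Over.pullback f).map c = i' := by
  haveI := hc.1
  haveI := hc.2.1
  haveI := hc.2.2.1
  obtain ⟨X, x, hXsm, hXs, hX⟩ := exists_transporter c hT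
  haveI := hXsm
  haveI : Surjective X.hom := ⟨fun s => hXs s (hc.2.2.2 s)⟩
  obtain ⟨S', f, h, hf, hfs, hhf⟩ := EtaleSection.Sections.exists_etale_surjective_section X.hom
  haveI := hf
  let z : Over.mk f ⟶ X := Over.homMk h hhf
  let g := ptUp f (z ≫ x)
  let y : Red.bc f T ⟶ Red.bc f T := 𝟙 _
  obtain ⟨κ, hκ⟩ := hX _ ((Over.map f).map (toUnit (Red.bc f T)) ≫ (unitIso f).hom ≫ z) (BC.down f y)
  refine ⟨S', f, hf, hfs, (Over.pullback f).map i ≫ (conjIso g).hom, BC.up f κ, ?_, ?_⟩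
  · exact CartanAux.isMaximalTorus_congr (conjIso g) (Iso.refl _) (isMonHom_conjIso g)
      (inferInstanceAs (IsMonHom (𝟙 _))) (Category.id_comp _).symm (MaxTorusBC.isMaximalTorus_bc i hT f)
  · refine BC.down_injective ?_
    rw [comp_conjIso, BC.down_map, BC.down_up, BC.down_mul, BC.down_mul, BC.down_inv, down_toUnit_ptUp,
      ← Category.id_comp ((Over.pullback f).map i), BC.down_map, ← hκ]
    simp only [y, Category.assoc]

end Groth.Agent.Lib.SmWeil.CartanTorus
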