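import Groth.Agent.Lib.SmWeil.MaxTorusBC
import Groth.Agent.Lib.Flat55.FibreTransfer
import Groth.Agent.H1.Classical.FieldDescent
import Groth.Agent.H87.Charts
import Groth.Agent.Lib.GrpSch.GenericIso

/-!
# Cartan subgroups: transport, base change, fibrewise isomorphisms
-/

set_option autoImplicit false
set_option linter.style.haveILetI false

universe u

open CategoryTheory CategoryTheory.Limits AlgebraicGeometry MonoidalCategory CartesianMonoidalCategory
open CategoryTheory.MonObj CategoryTheory.GrpObj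
open Groth.Agent.Lib Groth.Agent.Lib.RedPts Groth.Agent.Lib.Tori Groth.Agent.H87

namespace Groth.Agent.Lib.SmWeil.CartanAux

/-- An open surjective morphism is a quasi-compact cover. -/
theorem isQCCover_of_isOpenMap {S S' : Scheme.{u}} (f : S' ⟶ S) (hf : IsOpenMap f) [Surjective f] :
    Basic.IsQCCover f := by
  intro V hV
  have hex : ∀ x : V, ∃ W : S'.Opens, IsCompact (W : Set S') ∧ W ≤ f ⁻¹ᵁ V ∧ (x : S) ∈ f '' (W : Set S') := by
    rintro ⟨x, hx⟩
    obtain ⟨y, rfl⟩ := f.surjective x
    obtain ⟨W, hW, hyW, hle⟩ := exists_isAffineOpen_mem_and_subset (U := f ⁻¹ᵁ V) (x := y) hx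
    exact ⟨W, hW.isCompact, hle, y, hyW, rfl⟩
  choose W hW hle hmem using hex
  obtain ⟨t, ht⟩ := hV.isCompact.elim_finite_subcover (fun x => f '' (W x : Set S'))
    (fun x => hf _ (W x).isOpen) fun x hx => Set.mem_iUnion.2 ⟨⟨x, hx⟩, hmem _⟩
  refine ⟨⨆ x ∈ t, W x, ?_, ?_⟩
  · simp only [TopologicalSpace.Opens.coe_iSup]
    exact t.isCompact_biUnion fun x _ => hW x
  · simp only [TopologicalSpace.Opens.coe_iSup, Set.image_iUnion]
    refine le_antisymm (Set.iUnion₂_subset fun x _ => ?_) ?_
    · rintro _ ⟨y, hy, rfl⟩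
      exact hle x hy
    · exact ht

/-- Isomorphisms descend along flat surjective quasi-compact morphisms. -/
theorem isIso_of_bc {S T : Scheme.{u}} (h : T ⟶ S) [Flat h] [Surjective h] [QuasiCompact h] {X Y : Over S}
    (f : X ⟶ Y) (hf : IsIso ((Over.pullback h).map f)) : IsIso f := by
  have h1 : Charts.Fib (MorphismProperty.isomorphisms Scheme) (h ≫ 𝟙 S) f :=
    Charts.fib_congr _ (Category.comp_id h).symm f
      (inferInstanceAs (IsIso ((Over.forget T).map ((Over.pullback h).map f))))
  have h2 := (Charts.iff_natIso _ Over.pullbackId f).mp (Charts.fib_descend _ h h1)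
  haveI : IsIso ((Over.forget S).map f) := h2
  exact isIso_of_reflects_iso f (Over.forget S)

/-- The square of geometric points over a morphism. -/
theorem exists_geom_sq {S S' : Scheme.{u}} (f : S' ⟶ S) (s' : S') :
    ∃ (_ : Algebra (AlgebraicClosure (S.residueField (f s'))) (AlgebraicClosure (S'.residueField s'))),
      Red.geomPt s' ≫ f = TorusSpec.base (K := AlgebraicClosure (S.residueField (f s')))
        (AlgebraicClosure (S'.residueField s')) ≫ Red.geomPt (f s') := by
  letI : Algebra (S.residueField (f s')) (AlgebraicClosure (S'.residueField s')) :=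
    ((algebraMap (S'.residueField s') (AlgebraicClosure (S'.residueField s'))).comp (f.residueFieldMap s').hom).toAlgebra
  let σ : AlgebraicClosure (S.residueField (f s')) →ₐ[S.residueField (f s')]
      AlgebraicClosure (S'.residueField s') := IsAlgClosed.lift
  refine ⟨σ.toRingHom.toAlgebra, ?_⟩
  rw [Category.assoc, ← Scheme.Hom.SpecMap_residueFieldMap_fromSpecResidueField, ← Spec.map_comp_assoc,
    ← Category.assoc, ← Spec.map_comp]
  refine congrArg (· ≫ S.fromSpecResidueField _) (congrArg Spec.map (CommRingCat.hom_ext ?_))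
  exact σ.comp_algebraMap.symm

theorem mono_map {C D : Type*} [Category C] [Category D] (F : C ⥤ D) {X Y : C} (e : X ≅ Y) : Mono (F.map e.hom) :=
  inferInstance

section Congr

variable {S : Scheme.{u}} {G G' : Over S} [GrpObj G] [GrpObj G']

theorem isMonHom_inv {X Y : Over S} [GrpObj X] [GrpObj Y] (e : X ≅ Y) (h : IsMonHom e.hom) : IsMonHom e.inv := by
  haveI := h
  exact HomDS.isMonHom_of_points e.inv fun Z a b => by
    rw [← cancel_mono e.hom, MonObj.mul_comp (a ≫ e.inv) (b ≫ e.inv) e.hom]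
    simp

/-- Maximal tori are transported by isomorphisms. -/
theorem isMaximalTorus_congr {T T' : Over S} [GrpObj T] [GrpObj T'] {i : T ⟶ G} {i' : T' ⟶ G'} (eG : G ≅ G')
    (eT : T ≅ T') (hG : IsMonHom eG.hom) (hT' : IsMonHom eT.hom) (he : i ≫ eG.hom = eT.hom ≫ i')
    (hi : Red.IsMaximalTorus i) : Red.IsMaximalTorus i' := by
  obtain ⟨hm, hmono, hT, hmax⟩ := hi
  haveI := hm
  haveI := hmono
  haveI := hG
  haveI := hT'
  haveI := isMonHom_inv eG hG
  haveI := isMonHom_inv eT hT'
  have e : i' = eT.inv ≫ i ≫ eG.hom := by rw [he, Iso.inv_hom_id_assoc]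
  haveI : IsMonHom eT.symm.hom := isMonHom_inv eT hT'
  refine ⟨e ▸ inferInstance, ?_, Basic.isTorus_congr (BaseChange.grpIso eT.symm) hT,
    fun s T'' _ j _ _ f hT'' hf => ?_⟩
  · haveI : Mono (i ≫ eG.hom) := MaxTorusBC.mono_comp_iso i eG
    rw [e]
    exact mono_comp _ _
  let p := Over.pullback (Red.geomPt s)
  haveI : IsMonHom (p.map eG.inv) := inferInstance
  haveI : Mono (j ≫ p.map eG.inv) := MaxTorusBC.mono_comp_iso j (p.mapIso eG.symm)
  haveI : IsMonHom (j ≫ p.map eG.inv) := inferInstance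
  have := hmax s T'' (j ≫ p.map eG.inv) (p.map eT.hom ≫ f) hT'' (by
    rw [Category.assoc, reassoc_of% hf, ← Functor.map_comp, ← Functor.map_comp, ← Category.assoc, ← he,
      Category.assoc, Iso.hom_inv_id, Category.comp_id])
  exact @IsIso.of_isIso_comp_left _ _ _ _ _ (p.map eT.hom) f (p.mapIso eT).isIso_hom this

/-- Centralisers are transported by isomorphisms. -/
theorem isCentralizerOf_congr {U U' C C' : Over S} [GrpObj C] [GrpObj C'] {u : U ⟶ G} {u' : U' ⟶ G'} {c : C ⟶ G}
    {c' : C' ⟶ G'} (eG : G ≅ G') (eU : U ≅ U') (eC : C ≅ C') (hG : IsMonHom eG.hom) (hC : IsMonHom eC.hom)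
    (heU : u ≫ eG.hom = eU.hom ≫ u') (heC : c ≫ eG.hom = eC.hom ≫ c')
    (h : Red.IsCentralizerOf u c) : Red.IsCentralizerOf u' c' := by
  obtain ⟨hm, hmono, hpts⟩ := h
  haveI := hm
  haveI := hmono
  haveI := hG
  haveI := hC
  haveI := isMonHom_inv eC hC
  haveI := isMonHom_inv eG hG
  have e : c' = eC.inv ≫ c ≫ eG.hom := by rw [heC, Iso.inv_hom_id_assoc]
  refine ⟨e ▸ inferInstance, ?_, fun X g => ?_⟩
  · haveI : Mono (c ≫ eG.hom) := MaxTorusBC.mono_comp_iso c eG
    rw [e]
    exact mono_comp _ _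
  constructor
  · rintro ⟨z, rfl⟩ X' x a
    have e1 := congrArg (· ≫ eG.hom) ((hpts X (z ≫ eC.inv ≫ c)).1 ⟨z ≫ eC.inv, Category.assoc _ _ _⟩ X' x (a ≫ eU.inv))
    simp only [MonObj.mul_comp, Category.assoc, heU, Iso.inv_hom_id_assoc] at e1
    rw [e]
    exact e1
  · intro hg
    obtain ⟨z, hz⟩ := (hpts X (g ≫ eG.inv)).2 fun X' x a => by
      have e1 := congrArg (· ≫ eG.inv) (hg X' x (a ≫ eU.hom))
      simp only [MonObj.mul_comp, Category.assoc, ← reassoc_of% heU, Iso.hom_inv_id, Category.comp_id] at e1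
      exact e1
    exact ⟨z ≫ eC.hom, by rw [Category.assoc, ← heC, reassoc_of% hz, Iso.inv_hom_id, Category.comp_id]⟩

end Congr

section Field

variable {K : Type u} [Field K] [IsAlgClosed K] {G G' C C' : Over (Spec (CommRingCat.of K))} [GrpObj G] [GrpObj G']
  [GrpObj C] [GrpObj C'] {c : C ⟶ G} {c' : C' ⟶ G'}

theorem isCartanOver_congr (eG : G ≅ G') (eC : C ≅ C') (hG : IsMonHom eG.hom) (hC : IsMonHom eC.hom)
    (heC : c ≫ eG.hom = eC.hom ≫ c') (h : SGA3x.IsCartanOver K c) : SGA3x.IsCartanOver K c' := by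
  obtain ⟨-, -, U, _, u, hu, hcu⟩ := h
  have h1 : Red.IsMaximalTorus (u ≫ eG.hom) :=
    isMaximalTorus_congr (i' := u ≫ eG.hom) eG (Iso.refl U) hG (inferInstanceAs (IsMonHom (𝟙 U)))
      (Category.id_comp _).symm hu
  have h2 : Red.IsCentralizerOf (u ≫ eG.hom) c' :=
    isCentralizerOf_congr eG (Iso.refl U) eC hG hC (Category.id_comp _).symm heC hcu
  exact ⟨h2.1, h2.2.1, U, _, u ≫ eG.hom, h1, h2⟩

theorem isCartanOver_bc [Smooth G.hom] [IsSeparated G.hom] {K' : Type u} [Field K'] [IsAlgClosed K'] [Algebra K K']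
    (h : SGA3x.IsCartanOver K c) :
    SGA3x.IsCartanOver K' ((Over.pullback (TorusSpec.base (K := K) K')).map c) := by
  obtain ⟨hm, hmono, U, _, u, hu, hcu⟩ := h
  haveI := hm
  haveI := hmono
  exact ⟨inferInstance, inferInstance, Red.bc (TorusSpec.base (K := K) K') U, inferInstance, _,
    MaxTorusBC.isMaximalTorus_bc u hu _, H1.Classical.FieldDescent.isCentralizerOf_bc _ hcu⟩

end Field

variable {S S' : Scheme.{u}} {G C : Over S} [GrpObj G] [GrpObj C]

/-- Cartan subgroups are stable under base change. -/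
theorem isCartan_bc [Smooth G.hom] [IsSeparated G.hom] (f : S' ⟶ S) {c : C ⟶ G} (h : SGA3x.IsCartan c) :
    SGA3x.IsCartan ((Over.pullback f).map c) := by
  obtain ⟨hm, hmono, hsm, hgeo⟩ := h
  haveI := hm
  haveI := hmono
  haveI := hsm
  refine ⟨inferInstance, inferInstance, MorphismProperty.pullback_snd (P := @Smooth) _ _ hsm, fun s' => ?_⟩
  obtain ⟨_, hsq⟩ := exists_geom_sq f s'
  obtain ⟨eG, eC, hnat⟩ := MaxTorusBC.exists_transport (Red.geomPt s') f _ (Red.geomPt (f s')) hsq c
  haveI : Smooth (Red.bc (Red.geomPt (f s')) G).hom := MorphismProperty.pullback_snd (P := @Smooth) _ _ inferInstance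
  haveI : IsSeparated (Red.bc (Red.geomPt (f s')) G).hom :=
    MorphismProperty.pullback_snd (P := @IsSeparated) _ _ inferInstance
  refine isCartanOver_congr (BaseChange.overIso eG).symm (BaseChange.overIso eC).symm
    (isMonHom_inv _ (BaseChange.isMonHom_overIso eG)) (isMonHom_inv _ (BaseChange.isMonHom_overIso eC)) ?_
    (isCartanOver_bc (K' := AlgebraicClosure (S'.residueField s')) (hgeo (f s')))
  rw [Iso.symm_hom, Iso.symm_hom, Iso.comp_inv_eq, Category.assoc, Iso.eq_inv_comp]
  exact hnat.symm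

/-- A monomorphism from a flat scheme which is an isomorphism on geometric fibres is an isomorphism. -/
theorem isIso_of_geom_fibres {X Y : Over S} [Flat X.hom] [LocallyOfFinitePresentation X.hom]
    [LocallyOfFiniteType Y.hom] (f : X ⟶ Y) [Mono f]
    (h : ∀ s : S, IsIso ((Over.pullback (Red.geomPt s)).map f)) : IsIso f := by
  have hs : ∀ s : S, IsIso (pullback.snd f.left (Y.hom.fiberι s)) := fun s => by
    let r : Spec (CommRingCat.of (AlgebraicClosure (S.residueField s))) ⟶ Spec (S.residueField s) :=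
      Spec.map (CommRingCat.ofHom (algebraMap (S.residueField s) (AlgebraicClosure (S.residueField s))))
    haveI : Flat r := Groth.Agent.Lib.GrpSch.flat_of_isField (Field.toIsField _) _
    haveI : Surjective r := ⟨fun x => ⟨IsLocalRing.closedPoint _, Subsingleton.elim (α := PrimeSpectrum _) _ _⟩⟩
    have h1 : Charts.Fib (MorphismProperty.isomorphisms Scheme) (r ≫ S.fromSpecResidueField s) f :=
      haveI := h s
      inferInstanceAs (IsIso ((Over.forget _).map ((Over.pullback (Red.geomPt s)).map f)))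
    have h2 : IsIso ((Over.pullback (S.fromSpecResidueField s)).map f).left := Charts.fib_descend _ r h1
    have sq := (Charts.isPullback_map (S.fromSpecResidueField s) f).flip
    have e := sq.flip.isoPullback_hom_snd
    haveI : IsIso (sq.flip.isoPullback.hom ≫ pullback.snd f.left (pullback.fst Y.hom (S.fromSpecResidueField s))) := by
      rw [e]; exact h2
    exact @IsIso.of_isIso_comp_left _ _ _ _ _ sq.flip.isoPullback.hom
      (pullback.snd f.left (pullback.fst Y.hom (S.fromSpecResidueField s))) sq.flip.isoPullback.isIso_hom inferInstance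
  haveI : Mono f.left := inferInstanceAs (Mono ((Over.forget S).map f))
  haveI := Flat55.FibreTransfer.locallyOfFinitePresentation f.left Y.hom (Over.w f)
  haveI := Flat55.FibreTransfer.flat f.left Y.hom (Over.w f) fun s => by haveI := hs s; infer_instance
  haveI : Surjective f.left := Flat55.FibreTransfer.surjective f.left Y.hom fun s => by haveI := hs s; infer_instance
  haveI : IsOpenImmersion f.left := IsOpenImmersion.of_flat_of_mono _
  haveI : IsIso ((Over.forget S).map f) :=
    (isIso_iff_isOpenImmersion_and_epi_base f.left).2 ⟨‹_›, (TopCat.epi_iff_surjective _).2 f.left.surjective⟩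
  exact isIso_of_reflects_iso f (Over.forget S)

end Groth.Agent.Lib.SmWeil.CartanAux
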