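import Groth.Agent.Lib.SmWeil.CartanTorus
import Groth.Agent.H87.SubgroupDescent
import Groth.Agent.Lib.ImgMT.Compat

/-!
# A Cartan subgroup is the centralizer of a maximal torus
-/

set_option autoImplicit false
set_option linter.style.haveILetI false

universe u

open CategoryTheory CategoryTheory.Limits AlgebraicGeometry MonoidalCategory CartesianMonoidalCategory
open CategoryTheory.MonObj CategoryTheory.GrpObj
open Groth.Agent.Lib Groth.Agent.Lib.RedPts Groth.Agent.Lib.Tori Groth.Agent.H87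

namespace Groth.Agent.Lib.SmWeil.CartanDescent

variable {S S' W : Scheme.{u}} (x : W ⟶ S') (π : S' ⟶ S) {p : W ⟶ S} (hp : x ≫ π = p)

/-- The comparison of an iterated base change. -/
noncomputable def compIso (X : Over S) [GrpObj X] : Red.bc x (Red.bc π X) ≅ Red.bc p X :=
  (BaseChange.overIso (BaseChange.bcComp x π X)).symm ≪≫ BaseChange.overIso (BaseChange.bcCongr hp X)

theorem isMonHom_compIso (X : Over S) [GrpObj X] : IsMonHom (compIso x π hp X).hom := by
  haveI := CartanAux.isMonHom_inv _ (BaseChange.isMonHom_overIso (BaseChange.bcComp x π X))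
  haveI := BaseChange.isMonHom_overIso (BaseChange.bcCongr hp X)
  exact inferInstanceAs (IsMonHom ((BaseChange.overIso (BaseChange.bcComp x π X)).inv ≫
    (BaseChange.overIso (BaseChange.bcCongr hp X)).hom))

theorem compIso_naturality {X Y : Over S} [GrpObj X] [GrpObj Y] (φ : X ⟶ Y) :
    (Over.pullback x).map ((Over.pullback π).map φ) ≫ (compIso x π hp Y).hom =
      (compIso x π hp X).hom ≫ (Over.pullback p).map φ := by
  have e1 : (Over.pullback x).map ((Over.pullback π).map φ) ≫ (BaseChange.overIso (BaseChange.bcComp x π Y)).inv =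
      (BaseChange.overIso (BaseChange.bcComp x π X)).inv ≫ (Over.pullback (x ≫ π)).map φ := by
    rw [Iso.eq_inv_comp, ← Category.assoc, Iso.comp_inv_eq]
    exact (MaxTorusBC.bcComp_naturality x π φ).symm
  have e2 := MaxTorusBC.bcCongr_naturality hp φ
  show _ ≫ (BaseChange.overIso (BaseChange.bcComp x π Y)).inv ≫ (BaseChange.overIso (BaseChange.bcCongr hp Y)).hom =
    ((BaseChange.overIso (BaseChange.bcComp x π X)).inv ≫ (BaseChange.overIso (BaseChange.bcCongr hp X)).hom) ≫ _
  exact (Category.assoc _ _ _).symm.trans ((congrArg (· ≫ _) e1).trans ((Category.assoc _ _ _).trans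
    ((congrArg (_ ≫ ·) e2).trans (Category.assoc _ _ _).symm)))

set_option backward.isDefEq.respectTransparency false in
theorem bcComp_hom_fst (X : Over S) [GrpObj X] :
    (BaseChange.overIso (BaseChange.bcComp x π X)).hom.left ≫ pullback.fst (Red.bc π X).hom x ≫ pullback.fst X.hom π =
      pullback.fst X.hom (x ≫ π) := by
  have key : ((Over.pullbackComp x π).hom.app X).left ≫ pullback.fst (Red.bc π X).hom x ≫ pullback.fst X.hom π =
      pullback.fst X.hom (x ≫ π) := by
    simp [Over.pullbackComp, conjugateEquiv, Over.mapPullbackAdj, Over.mapComp]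
    exact (Category.id_comp _).trans (Category.id_comp _)
  have e : (BaseChange.overIso (BaseChange.bcComp x π X)).hom.left = ((Over.pullbackComp x π).hom.app X).left ≫ 𝟙 _ := rfl
  exact (congrArg (· ≫ _) (e.trans (Category.comp_id _))).trans key

theorem compIso_fst (X : Over S) [GrpObj X] :
    (compIso x π hp X).hom.left ≫ pullback.fst X.hom p = pullback.fst (Red.bc π X).hom x ≫ pullback.fst X.hom π := by
  have h2 := ImgMT.bcCongr_fst hp X
  simp only [compIso, Iso.trans_hom, Iso.symm_hom, Over.comp_left, Category.assoc]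
  haveI : IsIso (BaseChange.overIso (BaseChange.bcComp x π X)).hom.left :=
    ((Over.forget _).mapIso (BaseChange.overIso (BaseChange.bcComp x π X))).isIso_hom
  rw [h2, ← cancel_epi (BaseChange.overIso (BaseChange.bcComp x π X)).hom.left, bcComp_hom_fst, ← Category.assoc,
    ← Over.comp_left, Iso.hom_inv_id]
  exact Category.id_comp _


/-- Tori descend along fpqc covers. -/
theorem isTorus_of_bc {Z : Over S} [GrpObj Z] {Z' : Over S'} [GrpObj Z'] [Flat π] [Surjective π]
    (hcov : Basic.IsQCCover π) (φ : Red.bc π Z ≅ Z') [IsMonHom φ.hom] (hZ' : Red.IsTorus Z') : Red.IsTorus Z := by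
  obtain ⟨S'', f, hf, hs, hc, hloc⟩ := hZ'
  refine ⟨S'', f ≫ π, inferInstance, inferInstance, Charts.isQCCover_comp hc hcov, fun s => ?_⟩
  obtain ⟨U, hU, r, ⟨e⟩⟩ := hloc s
  exact ⟨U, hU, r, ⟨BaseChange.bcCongr (Category.assoc _ _ _).symm Z ≪≫
    BaseChange.bcComp (U.ι ≫ f) π Z ≪≫ BaseChange.bcMapIso (U.ι ≫ f) (BaseChange.grpIso φ) ≪≫ e⟩⟩

omit x hp in
set_option backward.isDefEq.respectTransparency false in
/-- A factorization through a monomorphism descends. -/
theorem exists_fac_of_bc {G T C : Over S} (i : T ⟶ G) (c : C ⟶ G) [Mono c] [Flat π] [Surjective π]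
    (hcov : Basic.IsQCCover π) (a : Red.bc π T ⟶ Red.bc π C)
    (ha : a ≫ (Over.pullback π).map c = (Over.pullback π).map i) : ∃ b : T ⟶ C, b ≫ c = i := by
  let P : MorphismProperty Scheme.{u} := MorphismProperty.isomorphisms Scheme
  have hfac : CentralEq.Fac i c π := by
    intro Y q γ₁
    let ε : (Over.map π).obj (Over.mk q.left) ≅ Y :=
      Over.isoMk (Iso.refl _) ((Category.id_comp _).trans (Over.w q).symm)
    refine ⟨ε.inv ≫ BC.down π (BC.up π (ε.hom ≫ γ₁) ≫ a), ?_⟩
    rw [Category.assoc, ← BC.down_map, Category.assoc, ha, BC.down_map, BC.down_up]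
    simp
  have h1 : Charts.Fib P π (CentralEq.proj i c) := (CentralEq.fib_iso_iff i c π).2 hfac
  have h2 : Charts.Fib P (𝟙 S) (CentralEq.proj i c) := Charts.fib_of_cover P fun y => by
    obtain ⟨O, hO, hyO, -⟩ := exists_isAffineOpen_mem_and_subset (X := S) (x := y) (U := ⊤) trivial
    obtain ⟨V, hle, hqc, hsj⟩ := MT.exists_qc_res π hcov hO
    refine ⟨O, hyO, Charts.fib_descend P (π.resLE O V hle) ?_⟩
    refine Charts.fib_congr P ?_ _ (Charts.fib_base P V.ι h1)
    simp
  obtain ⟨b, hb⟩ := (CentralEq.fib_iso_iff i c (𝟙 S)).1 h2 T (Over.homMk T.hom (Category.comp_id _)) (𝟙 T)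
  exact ⟨b, hb.trans (Category.id_comp i)⟩

omit x π hp in
/-- **A Cartan subgroup is the centralizer of a maximal torus.** -/
theorem exists_maximalTorus {G C : Over S} [GrpObj G] [GrpObj C] [Smooth G.hom] [IsSeparated G.hom]
    [QuasiCompact G.hom] (hG : SGA3x.HasMaxTorusFpqcLocally G) {c : C ⟶ G} (hc : SGA3x.IsCartan c) :
    ∃ (T : Over S) (_ : GrpObj T) (i : T ⟶ G), Red.IsMaximalTorus i ∧ Red.IsCentralizerOf i c := by
  obtain ⟨S₁, f, hf, hfs, hcov₁, T₁, _, i₁, hT₁⟩ := hG
  haveI := hf
  haveI := hfs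
  haveI := hc.1
  haveI := hc.2.1
  haveI : Smooth (Red.bc f G).hom := MorphismProperty.pullback_snd (P := @Smooth) _ _ inferInstance
  haveI : IsSeparated (Red.bc f G).hom := MorphismProperty.pullback_snd (P := @IsSeparated) _ _ inferInstance
  haveI : QuasiCompact (Red.bc f G).hom := MorphismProperty.pullback_snd (P := @QuasiCompact) _ _ inferInstance
  obtain ⟨S₂, σ, hσ, hσs, i₂, a₂, hT₂, ha₂⟩ := CartanTorus.exists_etale_torus (CartanAux.isCartan_bc f hc) hT₁
  haveI := hσ
  haveI := hσs
  let π := σ ≫ f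
  haveI : Flat π := inferInstanceAs (Flat (σ ≫ f))
  haveI : Surjective π := inferInstanceAs (Surjective (σ ≫ f))
  have hcov : Basic.IsQCCover π :=
    Charts.isQCCover_comp (CartanAux.isQCCover_of_isOpenMap σ σ.isOpenMap) hcov₁
  let T₂ := Red.bc σ T₁
  let kG := compIso σ f (rfl : σ ≫ f = π) G
  let kC := compIso σ f (rfl : σ ≫ f = π) C
  let z : T₂ ⟶ Red.bc π G := i₂ ≫ kG.hom
  let a : T₂ ⟶ Red.bc π C := a₂ ≫ kC.hom
  have ha : a ≫ (Over.pullback π).map c = z := by
    show (a₂ ≫ kC.hom) ≫ _ = i₂ ≫ kG.hom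
    rw [Category.assoc, ← compIso_naturality, reassoc_of% ha₂]
  have hz : Red.IsMaximalTorus z :=
    CartanAux.isMaximalTorus_congr kG (Iso.refl _) (isMonHom_compIso σ f rfl G) (inferInstanceAs (IsMonHom (𝟙 T₂)))
      (Category.id_comp _).symm hT₂
  haveI := hz.1
  haveI := hz.2.1
  haveI : IsAffineHom T₂.hom := Tori.Basic.isAffineHom_of_isTorus hz.2.2.1
  haveI : Smooth (Red.bc π G).hom := MorphismProperty.pullback_snd (P := @Smooth) _ _ inferInstance
  haveI : IsSeparated (Red.bc π G).hom := MorphismProperty.pullback_snd (P := @IsSeparated) _ _ inferInstance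
  have hinv : SubgroupDescent.Invariant z := by
    intro X v x hx
    let x₀ := v ≫ T₂.hom
    have h₀ : x₀ ≫ π = x ≫ π := by rw [hx, Category.assoc]
    let q := x ≫ π
    let k₁ := compIso x π (rfl : x ≫ π = q)
    let k₀ := compIso x₀ π (h₀ : x₀ ≫ π = q)
    let i₁ : Red.bc x T₂ ⟶ Red.bc q G := (Over.pullback x).map z ≫ (k₁ G).hom
    let i₀ : Red.bc x₀ T₂ ⟶ Red.bc q G := (Over.pullback x₀).map z ≫ (k₀ G).hom
    haveI : Smooth (Red.bc q G).hom := MorphismProperty.pullback_snd (P := @Smooth) _ _ inferInstance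
    haveI : IsSeparated (Red.bc q G).hom := MorphismProperty.pullback_snd (P := @IsSeparated) _ _ inferInstance
    have hm₁ : Red.IsMaximalTorus i₁ := CartanAux.isMaximalTorus_congr (k₁ G) (Iso.refl _)
      (isMonHom_compIso _ _ _ G) (inferInstanceAs (IsMonHom (𝟙 _))) (Category.id_comp _).symm
      (MaxTorusBC.isMaximalTorus_bc z hz x)
    have hm₀ : Red.IsMaximalTorus i₀ := CartanAux.isMaximalTorus_congr (k₀ G) (Iso.refl _)
      (isMonHom_compIso _ _ _ G) (inferInstanceAs (IsMonHom (𝟙 _))) (Category.id_comp _).symm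
      (MaxTorusBC.isMaximalTorus_bc z hz x₀)
    haveI := hm₀.1
    haveI := hm₀.2.1
    have hcen := CartanTorus.isCentralizerOf_of_le (CartanAux.isCartan_bc q hc) hm₁
      ((Over.pullback x).map a ≫ (k₁ C).hom) (by
        rw [Category.assoc, ← compIso_naturality, ← Category.assoc, ← Functor.map_comp, ha])
    have hfac₀ : ((Over.pullback x₀).map a ≫ (k₀ C).hom) ≫ (Over.pullback q).map c = i₀ := by
      rw [Category.assoc, ← compIso_naturality, ← Category.assoc, ← Functor.map_comp, ha]
    obtain ⟨g, hg⟩ := TorusIn.exists_fac i₁ hm₁ i₀ hm₀.2.2.1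
      fun Y t r => ((hcen.2.2 _ i₀).1 ⟨_, hfac₀⟩ Y r t).symm
    let v₀ : Over.mk (𝟙 X) ⟶ Red.bc x₀ T₂ :=
      Over.homMk (pullback.lift v (𝟙 X) (Category.id_comp _).symm) (pullback.lift_snd _ _ _)
    have hw : (v₀ ≫ g).left ≫ pullback.snd T₂.hom x = 𝟙 X := Over.w (v₀ ≫ g)
    have hi : ∀ (y : X ⟶ S₂) (hy : y ≫ π = q) (b : X ⟶ (Red.bc y T₂).left),
        b ≫ ((Over.pullback y).map z ≫ (compIso y π hy G).hom).left ≫ pullback.fst G.hom q =
          (b ≫ pullback.fst T₂.hom y) ≫ SubgroupDescent.toG z := fun y hy b => by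
      rw [Over.comp_left, Category.assoc, compIso_fst, SubgroupDescent.toG, Category.assoc]
      congr 1
      simp only [Over.pullback_map_left, ← Category.assoc]
      congr 1
      exact pullback.lift_fst _ _ _
    refine ⟨(v₀ ≫ g).left ≫ pullback.fst T₂.hom x, ?_, ?_⟩
    · rw [Category.assoc, pullback.condition, reassoc_of% hw]
      try exact Category.id_comp _
    · rw [← hi x rfl, ← Category.assoc, ← Over.comp_left, Category.assoc]
      show (v₀ ≫ g ≫ i₁).left ≫ _ = _
      rw [hg, Over.comp_left, Category.assoc, hi x₀ h₀]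
      show (pullback.lift v (𝟙 X) _ ≫ pullback.fst T₂.hom x₀) ≫ _ = _
      rw [pullback.lift_fst]
  obtain ⟨T, _, i, hi, him, ⟨φ, hφm, hφ⟩, -⟩ := SubgroupDescent.exists_descent hcov z hinv
  haveI := hi
  haveI := him
  haveI := hφm
  have hTt : Red.IsTorus T := isTorus_of_bc π hcov φ hz.2.2.1
  have hTπ : Red.IsMaximalTorus ((Over.pullback π).map i) :=
    CartanAux.isMaximalTorus_congr (Iso.refl _) φ.symm (inferInstanceAs (IsMonHom (𝟙 _)))
      (CartanAux.isMonHom_inv φ hφm) (by rw [← hφ]; simp) hz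
  have hT : Red.IsMaximalTorus i := by
    refine ⟨hi, him, hTt, fun s T' _ j _ _ g hT' hg => ?_⟩
    obtain ⟨s₂, rfl⟩ := π.surjective s
    obtain ⟨_, hsq⟩ := CartanAux.exists_geom_sq π s₂
    obtain ⟨eG, eT, hnat⟩ := MaxTorusBC.exists_transport (Red.geomPt s₂) π _ (Red.geomPt (π s₂)) hsq i
    let b := TorusSpec.base (K := AlgebraicClosure (S.residueField (π s₂))) (AlgebraicClosure (S₂.residueField s₂))
    haveI : Flat b := Groth.Agent.Lib.GrpSch.flat_of_isField (Field.toIsField _) _
    haveI : Surjective b := ⟨fun x => ⟨IsLocalRing.closedPoint _, Subsingleton.elim (α := PrimeSpectrum _) _ _⟩⟩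
    haveI : Mono ((Over.pullback b).map j) := inferInstance
    haveI : IsMonHom ((Over.pullback b).map j) := inferInstance
    haveI := CartanAux.isMonHom_inv _ (BaseChange.isMonHom_overIso eG)
    haveI : IsMonHom ((Over.pullback b).map j ≫ (BaseChange.overIso eG).inv) := inferInstance
    haveI : Mono ((Over.pullback b).map j ≫ (BaseChange.overIso eG).inv) :=
      MaxTorusBC.mono_comp_iso _ (BaseChange.overIso eG).symm
    have h1 := hTπ.2.2.2 s₂ (Red.bc b T') ((Over.pullback b).map j ≫ (BaseChange.overIso eG).inv)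
      ((BaseChange.overIso eT).hom ≫ (Over.pullback b).map g) (Basic.isTorus_bc hT' b) (by
        rw [Category.assoc, ← Category.assoc ((Over.pullback b).map g), ← Functor.map_comp, hg,
          ← Category.assoc, ← hnat, Category.assoc, Iso.hom_inv_id, Category.comp_id])
    exact CartanAux.isIso_of_bc b g
      (@IsIso.of_isIso_comp_left _ _ _ _ _ (BaseChange.overIso eT).hom ((Over.pullback b).map g)
        (BaseChange.overIso eT).isIso_hom h1)
  obtain ⟨a', ha'⟩ := exists_fac_of_bc π i c hcov (φ.hom ≫ a) (by rw [Category.assoc, ha, hφ])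
  exact ⟨T, _, i, hT, CartanTorus.isCentralizerOf_of_le hc hT a' ha'⟩

end Groth.Agent.Lib.SmWeil.CartanDescent
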