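import Groth.Agent.Lib.SmWeil.CartanTorus
import Groth.Agent.Lib.SmWeil.CartanDescent
import Groth.Agent.S4100
import Groth.Agent.Lib.GrpSch.Translate

/-!
# Maximal tori of a subgroup whose fibres contain Cartan subgroups
-/

set_option autoImplicit false
set_option linter.style.haveILetI false
set_option linter.unusedSectionVars false

universe u

open CategoryTheory CategoryTheory.Limits AlgebraicGeometry MonoidalCategory CartesianMonoidalCategory
open CategoryTheory.MonObj CategoryTheory.GrpObj
open Groth.Agent.Lib Groth.Agent.H87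
open Groth.Agent.Lib.RedPts

namespace Groth.Agent.Lib.SmWeil.CartanInto

variable {S : Scheme.{u}}

/-- A smooth group with connected fibres is separated. -/
theorem isSeparated_of_connected (G : Over S) [GrpObj G] [Smooth G.hom]
    (hconn : ∀ s : S, _root_.IsConnected (G.hom.base ⁻¹' {s})) : IsSeparated G.hom := by
  refine S4100.result S G G hconn (GrpSch.regularAction G) ⟨fun p => ?_⟩
  refine ⟨(lift (fst G G * (snd G G)⁻¹) (snd G G)).left p, ?_⟩
  rw [← Scheme.Hom.comp_apply, ← Over.comp_left,
    show lift (fst G G * (snd G G)⁻¹) (snd G G) ≫ lift (GrpSch.regularAction G).act (snd G G) = 𝟙 (G ⊗ G) by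
      refine CartesianMonoidalCategory.hom_ext _ _ ?_ ?_
      · rw [Category.assoc, lift_fst, Category.id_comp]
        show lift _ _ ≫ μ[G] = _
        rw [← Hom.mul_def, inv_mul_cancel_right]
      · rw [Category.assoc, lift_snd, lift_snd, Category.id_comp]]
  rfl

/-- At every point of the base a maximal torus of the geometric fibre lies in the subgroup. -/
def FibTorus {G H : Over S} [GrpObj G] [GrpObj H] (i : H ⟶ G) : Prop :=
  ∀ s : S, ∃ (U : Over (Spec (CommRingCat.of (AlgebraicClosure (S.residueField s))))) (_ : GrpObj U)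
    (u : U ⟶ Red.bc (Red.geomPt s) G), Red.IsMaximalTorus u ∧ ∃ au, au ≫ (Over.pullback (Red.geomPt s)).map i = u

variable {G H : Over S} [GrpObj G] [GrpObj H]

theorem fibTorus_bc [Smooth G.hom] [IsSeparated G.hom] (i : H ⟶ G) [IsMonHom i] {S' : Scheme.{u}} (f : S' ⟶ S)
    (h : FibTorus i) : FibTorus ((Over.pullback f).map i) := fun s' => by
  obtain ⟨_, hsq⟩ := CartanAux.exists_geom_sq f s'
  obtain ⟨eG, eH, hnat⟩ := MaxTorusBC.exists_transport (Red.geomPt s') f _ (Red.geomPt (f s')) hsq i
  obtain ⟨U, _, u, hu, au, hau⟩ := h (f s')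
  haveI : Smooth (Red.bc (Red.geomPt (f s')) G).hom := MorphismProperty.pullback_snd (P := @Smooth) _ _ inferInstance
  haveI : IsSeparated (Red.bc (Red.geomPt (f s')) G).hom :=
    MorphismProperty.pullback_snd (P := @IsSeparated) _ _ inferInstance
  let b := TorusSpec.base (K := AlgebraicClosure (S.residueField (f s'))) (AlgebraicClosure (S'.residueField s'))
  refine ⟨Red.bc b U, inferInstance, (Over.pullback b).map u ≫ (Tori.BaseChange.overIso eG).inv,
    CartanAux.isMaximalTorus_congr (Tori.BaseChange.overIso eG).symm (Iso.refl _)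
      (CartanAux.isMonHom_inv _ (Tori.BaseChange.isMonHom_overIso eG)) (inferInstanceAs (IsMonHom (𝟙 _)))
      (Category.id_comp _).symm (MaxTorusBC.isMaximalTorus_bc u hu b),
    (Over.pullback b).map au ≫ (Tori.BaseChange.overIso eH).inv, ?_⟩
  rw [Category.assoc, ← hau, Functor.map_comp, Category.assoc]
  congr 1
  rw [Iso.inv_comp_eq, ← Category.assoc, Iso.eq_comp_inv]
  exact hnat

/-- Étale locally, a maximal torus of the group can be moved into the subgroup. -/
theorem exists_etale_maximalTorus [Smooth G.hom] [IsSeparated G.hom] [QuasiCompact G.hom] (i : H ⟶ G) [IsMonHom i]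
    [Mono i] [Smooth H.hom] (h : FibTorus i) {T : Over S} [GrpObj T] {t : T ⟶ G} (hT : Red.IsMaximalTorus t) :
    ∃ (S' : Scheme.{u}) (f : S' ⟶ S), Etale f ∧ Surjective f ∧
      ∃ (t' : Red.bc f T ⟶ Red.bc f H), Red.IsMaximalTorus t' := by
  obtain ⟨X, x, hXsm, hXs, hX⟩ := CartanTorus.exists_transporter_of_fac i hT
  haveI := hXsm
  haveI : Surjective X.hom := ⟨fun s => hXs s (h s)⟩
  obtain ⟨S', f, l, hf, hfs, hlf⟩ := EtaleSection.Sections.exists_etale_surjective_section X.hom
  haveI := hf
  let z : Over.mk f ⟶ X := Over.homMk l hlf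
  let g := SmWeil.ptUp f (z ≫ x)
  obtain ⟨κ, hκ⟩ := hX _ ((Over.map f).map (toUnit (Red.bc f T)) ≫ (SmWeil.unitIso f).hom ≫ z) (BC.down f (𝟙 _))
  have hmax : Red.IsMaximalTorus ((Over.pullback f).map t ≫ (CartanTorus.conjIso g).hom) :=
    CartanAux.isMaximalTorus_congr (CartanTorus.conjIso g) (Iso.refl _) (CartanTorus.isMonHom_conjIso g)
      (inferInstanceAs (IsMonHom (𝟙 _))) (Category.id_comp _).symm (MaxTorusBC.isMaximalTorus_bc t hT f)
  have he : BC.up f κ ≫ (Over.pullback f).map i = (Over.pullback f).map t ≫ (CartanTorus.conjIso g).hom := by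
    refine BC.down_injective ?_
    rw [CartanTorus.comp_conjIso, BC.down_map, BC.down_up, BC.down_mul, BC.down_mul, BC.down_inv,
      SmWeil.down_toUnit_ptUp, ← Category.id_comp ((Over.pullback f).map t), BC.down_map, ← hκ]
    simp only [Category.assoc]
  haveI := hmax.1
  haveI : IsMonHom (BC.up f κ ≫ (Over.pullback f).map i) := by rw [he]; infer_instance
  haveI : IsMonHom (BC.up f κ) := MaxTorusBC.isMonHom_of_mono_comp _ ((Over.pullback f).map i)
  haveI := hmax.2.1
  haveI : Mono (BC.up f κ) := mono_of_mono_fac he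
  refine ⟨S', f, hf, hfs, BC.up f κ, inferInstance, inferInstance, hmax.2.2.1, fun s T' _ j _ _ φ hT' hφ => ?_⟩
  refine hmax.2.2.2 s T' (j ≫ (Over.pullback (Red.geomPt s)).map ((Over.pullback f).map i)) φ hT' ?_
  rw [← Category.assoc, hφ, ← Functor.map_comp, he]

end Groth.Agent.Lib.SmWeil.CartanInto
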