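import Groth.Agent.Lib.SmWeil.BorelTori
import Groth.Agent.Lib.SmWeil.CartanTorus
import Groth.Agent.Lib.SmWeil.TorusConjEtale
import Groth.Agent.H63.GrpConnected
import Groth.Agent.H1.GrpIrred

/-!
# Cartan subgroups of a subgroup containing a Cartan subgroup
-/

set_option autoImplicit false
set_option linter.style.haveILetI false
set_option linter.unusedSectionVars false

universe u

open CategoryTheory CategoryTheory.Limits AlgebraicGeometry MonoidalCategory CartesianMonoidalCategory
open CategoryTheory.MonObj CategoryTheory.GrpObj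
open Groth.Agent.Lib

namespace Groth.Agent.Lib.SmWeil.CartanSub

variable {k : Type u} [Field k] [IsAlgClosed k]

local notation3 "pt" => (𝟙_ (Over (Spec (CommRingCat.of k))))

/-- A connected group over a field is quasi-compact. -/
theorem quasiCompact_of_connected (H : Over (Spec (CommRingCat.of k))) [GrpObj H] [LocallyOfFiniteType H.hom]
    [ConnectedSpace H.left] : QuasiCompact H.hom := by
  haveI := Groth.Agent.H63.GrpIdentity.compactSpace_idScheme H
  haveI : CompactSpace H.left := ⟨by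
    have h := isCompact_range (Groth.Agent.H63.GrpIdentity.idIncl H).continuous
    rwa [Groth.Agent.H63.GrpIdentity.range_idIncl, ← Groth.Agent.H63.GrpConnected.connectedComponent_unit,
      PreconnectedSpace.connectedComponent_eq_univ] at h⟩
  exact HasAffineProperty.iff_of_isAffine.mpr ‹CompactSpace H.left›

/-- Cartan subgroups of a subgroup containing a Cartan subgroup. -/
theorem isCartanOver_iff {G H C : Over (Spec (CommRingCat.of k))} [GrpObj G] [GrpObj H] [GrpObj C]
    [LocallyOfFiniteType G.hom] [Smooth H.hom] [ConnectedSpace H.left] (i : H ⟶ G) [IsMonHom i] [Mono i]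
    (hH : ∃ (C₀ : Over (Spec (CommRingCat.of k))) (_ : GrpObj C₀) (c₀ : C₀ ⟶ H), SGA3x.IsCartanOver k (c₀ ≫ i))
    (c : C ⟶ H) : SGA3x.IsCartanOver k c ↔ SGA3x.IsCartanOver k (c ≫ i) := by
  haveI := quasiCompact_of_connected H
  constructor
  · rintro ⟨hcm, hcmono, T, _, t, ht, hct⟩
    obtain ⟨C₀, _, c₀, -, -, T₀, _, t₀, ht₀, hct₀⟩ := hH
    haveI := hcm
    haveI := hcmono
    haveI := ht.1
    haveI := ht.2.1
    haveI := ht₀.1
    haveI := ht₀.2.1
    obtain ⟨a₀, ha₀⟩ := (hct₀.2.2 T₀ t₀).2 fun X' x h => by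
      rw [← MonObj.mul_comp, ← MonObj.mul_comp, Lib.Tori.Comm.mul_comm_of_isTorus ht₀.2.2.1]
    have hs : (a₀ ≫ c₀) ≫ i = t₀ := by rw [Category.assoc, ha₀]
    haveI : IsMonHom (a₀ ≫ c₀) := by
      haveI : IsMonHom ((a₀ ≫ c₀) ≫ i) := hs.symm ▸ inferInstance
      exact MaxTorusBC.isMonHom_of_mono_comp (a₀ ≫ c₀) i
    haveI : Mono (a₀ ≫ c₀) := mono_of_mono_fac hs
    have hs' : Red.IsMaximalTorus (a₀ ≫ c₀) := SmWeil.isMaximalTorus_of_maximal _ ht₀.2.2.1
      fun T' _ j _ _ f hT' hf => SmWeil.maximal_of_isMaximalTorus ht₀ (j ≫ i) f hT' (by rw [← Category.assoc, hf, hs])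
    obtain ⟨g, φ, hφ⟩ := SmWeil.exists_conjBy hs' ht
    rw [← CartanTorus.comp_conjIso] at hφ
    haveI := CartanTorus.isMonHom_conjIso (g ≫ i)
    have hnat : ∀ {X : Over (Spec (CommRingCat.of k))} (y : X ⟶ H),
        (y ≫ i) ≫ (CartanTorus.conjIso (g ≫ i)).hom = (y ≫ (CartanTorus.conjIso g).hom) ≫ i := fun y => by
      rw [CartanTorus.comp_conjIso, CartanTorus.comp_conjIso, MonObj.mul_comp, MonObj.mul_comp, GrpObj.inv_comp,
        Category.assoc]
    have hγ : t₀ ≫ (CartanTorus.conjIso (g ≫ i)).hom = φ.hom ≫ t ≫ i := by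
      rw [← hs, hnat, hφ, Category.assoc]
    have hmax : Red.IsMaximalTorus (t ≫ i) := SmWeil.isMaximalTorus_of_maximal _ ht.2.2.1
      fun T' _ j _ _ f hT' hf => by
        haveI := CartanAux.isMonHom_inv (CartanTorus.conjIso (g ≫ i)) inferInstance
        haveI : Mono (j ≫ (CartanTorus.conjIso (g ≫ i)).inv) := mono_comp _ _
        haveI := SmWeil.maximal_of_isMaximalTorus ht₀ (j ≫ (CartanTorus.conjIso (g ≫ i)).inv) (φ.hom ≫ f) hT' (by
          rw [Category.assoc, reassoc_of% hf, ← Category.assoc t, ← Category.assoc φ.hom, ← hγ, Category.assoc,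
            Iso.hom_inv_id, Category.comp_id])
        exact IsIso.of_isIso_comp_left φ.hom f
    refine ⟨inferInstance, mono_comp _ _, T, inferInstance, t ≫ i, hmax, inferInstance, mono_comp _ _,
      fun X y => ⟨?_, fun hy => ?_⟩⟩
    · rintro ⟨z, rfl⟩ X' x h
      have := congrArg (· ≫ i) ((hct.2.2 X (z ≫ c)).1 ⟨z, rfl⟩ X' x h)
      simpa only [MonObj.mul_comp, Category.assoc] using this
    · obtain ⟨z, hz⟩ := (hct₀.2.2 X (y ≫ (CartanTorus.conjIso (g ≫ i)).inv)).2 fun X' x h => by
        rw [← cancel_mono (CartanTorus.conjIso (g ≫ i)).hom, MonObj.mul_comp, MonObj.mul_comp]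
        simp only [Category.assoc, Iso.inv_hom_id, Category.comp_id, hγ]
        simpa only [Category.assoc] using hy X' x (h ≫ φ.hom)
      have hy' : (z ≫ c₀ ≫ (CartanTorus.conjIso g).hom) ≫ i = y := by
        rw [← Category.assoc z, ← hnat, Category.assoc z, hz, Category.assoc, Iso.inv_hom_id, Category.comp_id]
      obtain ⟨w, hw⟩ := (hct.2.2 X (z ≫ c₀ ≫ (CartanTorus.conjIso g).hom)).2 fun X' x h => by
        rw [← cancel_mono i, MonObj.mul_comp, MonObj.mul_comp, Category.assoc x, hy', Category.assoc h]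
        exact hy X' x h
      exact ⟨w, by rw [← Category.assoc, hw, hy']⟩
  · rintro ⟨hcm, hcmono, T, _, t, ht, hct⟩
    haveI := hcm
    haveI := hcmono
    haveI : IsMonHom c := MaxTorusBC.isMonHom_of_mono_comp c i
    haveI : Mono c := mono_of_mono c i
    haveI := ht.1
    haveI := ht.2.1
    obtain ⟨a, ha⟩ := (hct.2.2 T t).2 fun X' x h => by
      rw [← MonObj.mul_comp, ← MonObj.mul_comp, Lib.Tori.Comm.mul_comm_of_isTorus ht.2.2.1]
    have hs : (a ≫ c) ≫ i = t := by rw [Category.assoc, ha]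
    haveI : IsMonHom (a ≫ c) := by
      haveI : IsMonHom ((a ≫ c) ≫ i) := hs.symm ▸ inferInstance
      exact MaxTorusBC.isMonHom_of_mono_comp (a ≫ c) i
    haveI : Mono (a ≫ c) := mono_of_mono_fac hs
    refine ⟨inferInstance, inferInstance, T, inferInstance, a ≫ c, SmWeil.isMaximalTorus_of_maximal _ ht.2.2.1
      (fun T' _ j _ _ f hT' hf => SmWeil.maximal_of_isMaximalTorus ht (j ≫ i) f hT'
        (by rw [← Category.assoc, hf, hs])),
      inferInstance, inferInstance, fun X y => ⟨?_, fun hy => ?_⟩⟩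
    · rintro ⟨z, rfl⟩ X' x h
      rw [← cancel_mono i, MonObj.mul_comp, MonObj.mul_comp]
      simp only [Category.assoc, ha]
      simpa only [Category.assoc] using (hct.2.2 X (z ≫ c ≫ i)).1 ⟨z, rfl⟩ X' x h
    · obtain ⟨w, hw⟩ := (hct.2.2 X (y ≫ i)).2 fun X' x h => by
        have := congrArg (· ≫ i) (hy X' x h)
        simpa only [MonObj.mul_comp, Category.assoc, ha] using this
      exact ⟨w, by rw [← cancel_mono i, Category.assoc, hw]⟩

end Groth.Agent.Lib.SmWeil.CartanSub
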