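import Groth.Agent.Lib.SmWeil.TorusCentralizer
import Groth.Agent.H87.KerField
import Groth.Agent.Lib.GrpSch.SmoothReduced
import Groth.Agent.Lib.GrpSch.Orbit

/-!
# Tori with central commutators commute
-/

set_option autoImplicit false
set_option linter.style.haveILetI false

universe u

open CategoryTheory CategoryTheory.Limits AlgebraicGeometry MonoidalCategory CartesianMonoidalCategory
open CategoryTheory.MonObj CategoryTheory.GrpObj
open Groth.Agent.Lib Groth.Agent.H87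
open Groth.Agent.Lib.RedPts

namespace Groth.Agent.Lib.SmWeil

theorem commute_pow_of_central {P : Type*} [Group P] (A Y : P) (h : ∀ z, Commute (A * Y * A⁻¹ * Y⁻¹) z)
    (n : ℕ) (hn : Commute (A ^ n) Y) : Commute A (Y ^ n) := by
  generalize hc : A * Y * A⁻¹ * Y⁻¹ = c at h
  have e : A * Y = c * Y * A := by rw [← hc]; group
  have h1 : ∀ m : ℕ, A * Y ^ m = c ^ m * Y ^ m * A := fun m => by
    induction m with
    | zero => simp
    | succ m ih =>
      rw [pow_succ, ← _root_.mul_assoc, ih, _root_.mul_assoc (c ^ m * Y ^ m), e, pow_succ,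
        show c ^ m * Y ^ m * (c * Y * A) = c ^ m * (Y ^ m * c) * Y * A by group, ← (h (Y ^ m)).eq]
      group
  have h2 : ∀ m : ℕ, A ^ m * Y = c ^ m * Y * A ^ m := fun m => by
    induction m with
    | zero => simp
    | succ m ih =>
      rw [pow_succ, _root_.mul_assoc, e, show A ^ m * (c * Y * A) = (A ^ m * c) * Y * A by group,
        ← (h (A ^ m)).eq, _root_.mul_assoc c, ih, pow_succ' c]
      group
  have hcn : c ^ n = 1 := by
    have := (h2 n).symm.trans hn.eq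
    rwa [_root_.mul_assoc, mul_eq_right] at this
  show A * Y ^ n = Y ^ n * A
  rw [h1, hcn, _root_.one_mul]

variable {S : Scheme.{u}} {G T X : Over S} [GrpObj G] [GrpObj T]

theorem pow_comp_hom (a : T ⟶ G) [IsMonHom a] (x : X ⟶ T) : ∀ n : ℕ, (x ^ n) ≫ a = (x ≫ a) ^ n
  | 0 => by simp [MonObj.one_comp]
  | n + 1 => by rw [pow_succ, pow_succ, MonObj.mul_comp, pow_comp_hom a x n]

theorem comp_pow_point {X' : Over S} (f : X' ⟶ X) (x : X ⟶ G) : ∀ n : ℕ, f ≫ x ^ n = (f ≫ x) ^ n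
  | 0 => by simp [MonObj.comp_one]
  | n + 1 => by rw [pow_succ, pow_succ, MonObj.comp_mul, comp_pow_point f x n]

section Field

variable {k : Type u} [Field k] [IsAlgClosed k] {G : Over (Spec (CommRingCat.of k))} [GrpObj G]

theorem commute_point_of_central [LocallyOfFiniteType G.hom] {r r' : ℕ}
    (a : Red.DS (Spec (CommRingCat.of k)) (Fin r → ℤ) ⟶ G) [IsMonHom a] (b : Red.DS (Spec (CommRingCat.of k)) (Fin r' → ℤ) ⟶ G) [IsMonHom b]
    (hc : ∀ (X : Over (Spec (CommRingCat.of k))) (x : X ⟶ Red.DS (Spec (CommRingCat.of k)) (Fin r → ℤ)) (y : X ⟶ Red.DS (Spec (CommRingCat.of k)) (Fin r' → ℤ)) (z : X ⟶ G),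
      Commute ((x ≫ a) * (y ≫ b) * (x ≫ a)⁻¹ * (y ≫ b)⁻¹) z)
    (y : 𝟙_ (Over (Spec (CommRingCat.of k))) ⟶ Red.DS (Spec (CommRingCat.of k)) (Fin r' → ℤ)) (X : Over (Spec (CommRingCat.of k))) (x : X ⟶ Red.DS (Spec (CommRingCat.of k)) (Fin r → ℤ)) :
    Commute (x ≫ a) (toUnit X ≫ y ≫ b) := by
  let f : Red.DS (Spec (CommRingCat.of k)) (Fin r → ℤ) ⟶ G := a * (toUnit _ ≫ y ≫ b) * a⁻¹ * (toUnit _ ≫ y ≫ b)⁻¹
  have hf : ∀ (Z : Over (Spec (CommRingCat.of k))) (w : Z ⟶ Red.DS (Spec (CommRingCat.of k)) (Fin r → ℤ)),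
      w ≫ f = (w ≫ a) * (toUnit Z ≫ y ≫ b) * (w ≫ a)⁻¹ * (toUnit Z ≫ y ≫ b)⁻¹ := fun Z w => by
    simp only [f, MonObj.comp_mul, GrpObj.comp_inv, ← Category.assoc, toUnit_unique (w ≫ toUnit _) (toUnit Z)]
  have hfc : ∀ (Z : Over (Spec (CommRingCat.of k))) (w : Z ⟶ Red.DS (Spec (CommRingCat.of k)) (Fin r → ℤ)) (z : Z ⟶ G), Commute (w ≫ f) z := fun Z w z => by
    rw [hf]
    simpa only [Category.assoc] using hc Z w (toUnit Z ≫ y) z
  haveI : IsMonHom f := HomDS.isMonHom_of_points f fun Z w w' => by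
    have h₂ := hfc Z w' (w ≫ a)
    have h₃ := hfc Z w' (w ≫ f)
    rw [hf] at h₂ h₃ ⊢
    rw [hf, hf, MonObj.mul_comp w w' a]
    rw [hf] at h₃
    generalize w ≫ a = A at *
    generalize w' ≫ a = A' at *
    generalize toUnit Z ≫ y ≫ b = Y at *
    calc A * A' * Y * (A * A')⁻¹ * Y⁻¹
        = (A * (A' * Y * A'⁻¹ * Y⁻¹)) * (Y * A⁻¹ * Y⁻¹) := by group
      _ = ((A' * Y * A'⁻¹ * Y⁻¹) * A) * (Y * A⁻¹ * Y⁻¹) := by rw [h₂.eq]
      _ = (A' * Y * A'⁻¹ * Y⁻¹) * (A * Y * A⁻¹ * Y⁻¹) := by group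
      _ = (A * Y * A⁻¹ * Y⁻¹) * (A' * Y * A'⁻¹ * Y⁻¹) := h₃.eq
  obtain ⟨N, hN⟩ := KerField.exists_ker f
  have hN0 : ∀ m ∈ N, m = 0 := fun m hm => funext fun j => by
    obtain ⟨n, hn0, hnm⟩ : ∃ n : ℕ, n ≠ 0 ∧ (m j).natAbs < n := ⟨(m j).natAbs + 1, Nat.succ_ne_zero _, Nat.lt_succ_self _⟩
    let φ : (Fin r → ℤ) →+ (Fin r → ZMod n) := (Int.castAddHom (ZMod n)).compLeft (Fin r)
    let u : Red.DS (Spec (CommRingCat.of k)) (Fin r → ZMod n) ⟶ Red.DS (Spec (CommRingCat.of k)) (Fin r → ℤ) := Red.DSmap (Spec (CommRingCat.of k)) φ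
    have hu : u ^ n = 1 := Gm.dsFn_ext fun i => by
      rw [Gm.dsFn_pow, ← Gm.dsFn_nsmul, Tori.DS.dsFn_DSmap_self, Gm.dsFn_one, map_nsmul,
        show n • φ i = 0 from funext fun l => by simp, Gm.dsFn_zero]
    let ψ : (Fin r' → ℤ) →+ (Fin r' → ℤ) := n • AddMonoidHom.id (Fin r' → ℤ)
    obtain ⟨-, hs⟩ := Loci.ff_DSmap (Spec (CommRingCat.of k)) (φ := ψ) fun p q h => by
      simpa [ψ] using smul_right_injective (Fin r' → ℤ) hn0 h
    haveI := hs
    haveI := Tori.DS.locallyOfFinitePresentation (Spec (CommRingCat.of k)) (Fin r' → ℤ)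
    haveI : IsAffineHom (Red.DS (Spec (CommRingCat.of k)) (Fin r' → ℤ)).hom := Tori.DS.isAffineHom (Spec (CommRingCat.of k)) (Fin r' → ℤ)
    obtain ⟨y', hy'⟩ := GrpSch.exists_lift_point (Red.DSmap (Spec (CommRingCat.of k)) ψ) y
    have hy : y' ^ n = y := Gm.dsFn_ext fun i => by
      rw [← hy', Gm.dsFn_DSmap, Gm.dsFn_pow, ← Gm.dsFn_nsmul]
      rfl
    have h0 : u ≫ f = 1 := by
      rw [hf, mul_inv_eq_one, mul_inv_eq_iff_eq_mul]
      have h := commute_pow_of_central (u ≫ a) ((toUnit _ ≫ y') ≫ b) (hc _ u (toUnit _ ≫ y')) n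
        (by rw [← pow_comp_hom a u n, hu, MonObj.one_comp]; exact Commute.one_left _)
      rw [← pow_comp_hom b (toUnit _ ≫ y') n, ← comp_pow_point, hy, Category.assoc] at h
      exact h.eq
    have h1 := (hN u).1 h0 m hm
    have h2 : φ m = 0 := by
      have h3 : Red.DSmap (Spec (CommRingCat.of k)) (zmultiplesHom _ (φ m)) = Red.DSmap (Spec (CommRingCat.of k)) (0 : ℤ →+ (Fin r → ZMod n)) :=
        Gm.gmFn_injective (by
          rw [Gm.gmFn_eq, Gm.gmFn_eq, Tori.DS.dsFn_DSmap_self, Tori.DS.dsFn_DSmap_self]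
          simpa [u, Tori.DS.dsFn_DSmap_self, Gm.dsFn_zero] using h1)
      simpa using congrArg (fun g : ℤ →+ (Fin r → ZMod n) => g 1) (Factor.eq_of_DSmap_eq h3)
    have h4 : ((m j : ℤ) : ZMod n) = 0 := congrFun h2 j
    rw [ZMod.intCast_zmod_eq_zero_iff_dvd] at h4
    exact Int.natAbs_eq_zero.1 (Nat.eq_zero_of_dvd_of_lt (Int.natCast_dvd.1 h4) hnm)
  have hf1 : x ≫ f = 1 := (hN x).2 fun m hm => by rw [hN0 m hm, Gm.dsFn_zero]
  rw [hf, mul_inv_eq_one, mul_inv_eq_iff_eq_mul] at hf1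
  exact hf1

variable {T₁ T₂ : Over (Spec (CommRingCat.of k))} [GrpObj T₁] [GrpObj T₂]

/-- Two tori whose commutators are central commute. -/
theorem commute_of_central [Smooth G.hom] (hT₁ : Red.IsTorus T₁) (hT₂ : Red.IsTorus T₂)
    (a : T₁ ⟶ G) [IsMonHom a] [Mono a] (b : T₂ ⟶ G) [IsMonHom b]
    (hc : ∀ (X : Over (Spec (CommRingCat.of k))) (x : X ⟶ T₁) (y : X ⟶ T₂) (z : X ⟶ G),
      Commute ((x ≫ a) * (y ≫ b) * (x ≫ a)⁻¹ * (y ≫ b)⁻¹) z)
    (X : Over (Spec (CommRingCat.of k))) (x : X ⟶ T₁) (y : X ⟶ T₂) : Commute (x ≫ a) (y ≫ b) := by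
  obtain ⟨r, ⟨e₁⟩⟩ := TorusIn.exists_split T₁ hT₁
  obtain ⟨r', ⟨e₂⟩⟩ := TorusIn.exists_split T₂ hT₂
  let E₁ := Tori.BaseChange.overIso e₁
  let E₂ := Tori.BaseChange.overIso e₂
  haveI : IsMonHom E₁.inv := inferInstanceAs (IsMonHom (Tori.BaseChange.overIso e₁.symm).hom)
  haveI : IsMonHom E₂.inv := inferInstanceAs (IsMonHom (Tori.BaseChange.overIso e₂.symm).hom)
  have key : ∀ (p : 𝟙_ (Over (Spec (CommRingCat.of k))) ⟶ T₂) (Z : Over (Spec (CommRingCat.of k))) (w : Z ⟶ T₁), Commute (w ≫ a) (toUnit Z ≫ p ≫ b) := by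
    intro p Z w
    have := commute_point_of_central (E₁.inv ≫ a) (E₂.inv ≫ b)
      (fun Z' x' y' z => by simpa using hc Z' (x' ≫ E₁.inv) (y' ≫ E₂.inv) z) (p ≫ E₂.hom) Z (w ≫ E₁.hom)
    simpa using this
  obtain ⟨C, _, c, hcen, hci, -⟩ := exists_centralizer_torus hT₁ a
  obtain ⟨-, -, hpts⟩ := hcen
  haveI := hci
  haveI := Tori.Basic.smooth_of_isTorus hT₂
  haveI := Tori.Basic.isAffineHom_of_isTorus hT₂
  haveI : LocallyOfFiniteType T₂.hom := inferInstance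
  haveI : JacobsonSpace T₂.left := LocallyOfFiniteType.jacobsonSpace T₂.hom
  haveI : IsReduced T₂.left := GrpSch.isReduced_of_smooth_field T₂.hom
  haveI : Surjective (pullback.fst b.left c.left) := by
    refine ⟨Set.range_eq_univ.1 (Set.univ_subset_iff.1 ?_)⟩
    rw [← closure_closedPoints]
    refine closure_minimal (fun t ht => ?_) (pullback.fst b.left c.left).isClosedEmbedding.isClosed_range
    obtain ⟨p, hp⟩ := GrpSch.exists_point_mem (W := {t}) ht (Set.singleton_nonempty t)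
    obtain ⟨z, hz⟩ := (hpts _ (p ≫ b)).2 fun X' x' h => by
      rw [toUnit_unique x' (toUnit X')]
      exact (key p X' h).eq.symm
    let w := pullback.lift p.left z.left (by rw [← Over.comp_left, ← Over.comp_left, hz])
    refine ⟨w (IsLocalRing.closedPoint k), ?_⟩
    rw [← Scheme.Hom.comp_apply, pullback.lift_fst]
    exact hp ⟨_, rfl⟩
  haveI := isIso_of_isClosedImmersion_of_surjective (pullback.fst b.left c.left)
  have e : (CategoryTheory.inv (pullback.fst b.left c.left) ≫ pullback.snd b.left c.left) ≫ c.left = b.left := by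
    rw [Category.assoc, ← pullback.condition, IsIso.inv_hom_id_assoc]
  have hl : ∃ l : T₂ ⟶ C, l ≫ c = b :=
    ⟨Over.homMk (CategoryTheory.inv (pullback.fst b.left c.left) ≫ pullback.snd b.left c.left) (by
      rw [← Over.w c, ← Category.assoc, e, Over.w b]), Over.OverMorphism.ext e⟩
  exact ((hpts T₂ b).1 hl X y x).symm

end Field

end Groth.Agent.Lib.SmWeil
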