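import Groth.Agent.Lib.SmWeil.AffHull
import Groth.Agent.Lib.SmWeil.TorusCommutator
import Groth.Agent.H1.Classical.CentralizerScheme
import Groth.Agent.H4.NPowEtale
import Mathlib.RingTheory.RootsOfUnity.AlgebraicallyClosed

/-!
# The centralizer of a torus in a smooth connected group is connected
-/

set_option autoImplicit false
set_option linter.style.haveILetI false

universe u

open CategoryTheory CategoryTheory.Limits AlgebraicGeometry MonoidalCategory CartesianMonoidalCategory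
open CategoryTheory.MonObj CategoryTheory.GrpObj
open Groth.Agent.Lib Groth.Agent.H87
open Groth.Agent.Lib.RedPts

namespace Groth.Agent.Lib.SmWeil

variable {k : Type u} [Field k] [IsAlgClosed k]

/-- The unit point of a commutative group, as a connected family of torsion points. -/
theorem eq_one_of_connected_torsion {N H : Over (Spec (CommRingCat.of k))} [GrpObj N]
    [LocallyOfFiniteType N.hom] [QuasiCompact N.hom]
    (hcomm : ∀ {X : Over (Spec (CommRingCat.of k))} (a b : X ⟶ N), a * b = b * a)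
    {n : ℕ} (hn : (n : k) ≠ 0) (ψ : H ⟶ N) (hψ : ψ ^ n = 1) [PreconnectedSpace H.left]
    (h₀ : 𝟙_ (Over (Spec (CommRingCat.of k))) ⟶ H) (hh₀ : h₀ ≫ ψ = 1)
    (h : 𝟙_ (Over (Spec (CommRingCat.of k))) ⟶ H) : h ≫ ψ = 1 := by
  haveI : IsCommMonObj N := ⟨by
    have := hcomm (snd N N) (fst N N)
    rw [MonObj.mul_eq_mul, MonObj.comp_mul, CartesianMonoidalCategory.braiding_hom_fst, CartesianMonoidalCategory.braiding_hom_snd]
    exact this⟩
  let P : N ⟶ N := (𝟙 N) ^ n
  haveI : Etale P.left := H4.NPowEtale.etale_pow hn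
  let o : ↥(𝟙_ (Over (Spec (CommRingCat.of k)))).left := IsLocalRing.closedPoint k
  let e : N.left := (1 : 𝟙_ (Over (Spec (CommRingCat.of k))) ⟶ N).left o
  haveI := H4.NPowEtale.locallyQuasiFinite_of_formallyUnramified P.left
  have hdisc := P.left.isDiscrete_preimage_singleton e
  have hP : ∀ (X : Over (Spec (CommRingCat.of k))) (x : X ⟶ N), x ≫ P = x ^ n := fun X x => by
    rw [MonObj.comp_pow, Category.comp_id]
  have hsub : Set.range ψ.left ⊆ P.left ⁻¹' {e} := by
    rintro _ ⟨a, rfl⟩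
    show P.left (ψ.left a) = e
    rw [← Scheme.Hom.comp_apply, ← Over.comp_left, hP, hψ, Hom.one_def, Over.comp_left, Scheme.Hom.comp_apply]
    show η[N].left _ = e
    show _ = (1 : 𝟙_ (Over (Spec (CommRingCat.of k))) ⟶ N).left o
    rw [Hom.one_def, Over.comp_left, Scheme.Hom.comp_apply]
    exact congrArg η[N].left (Subsingleton.elim (α := PrimeSpectrum k) _ _)
  have hsing : (Set.range ψ.left).Subsingleton :=
    haveI : DiscreteTopology ↥(Set.range ψ.left) := (hdisc.mono hsub).to_subtype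
    haveI : PreconnectedSpace ↥(Set.range ψ.left) :=
      Subtype.preconnectedSpace (isPreconnected_range ψ.left.continuous)
    haveI : Subsingleton ↥(Set.range ψ.left) := PreconnectedSpace.trivial_of_discrete
    (Set.range ψ.left).subsingleton_coe.1 inferInstance
  refine Over.OverMorphism.ext (ext_of_apply_closedPoint_eq N.hom (Over.w _) (Over.w _) ?_)
  rw [← hh₀]
  exact hsing ⟨_, (Scheme.Hom.comp_apply _ _ o).symm⟩ ⟨_, (Scheme.Hom.comp_apply _ _ o).symm⟩

variable {G : Over (Spec (CommRingCat.of k))} [GrpObj G]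

/-- A torus centralizes the elements of a connected family with which its commutators are killed by a quotient
with central kernel. -/
theorem commute_of_connected_family [LocallyOfFiniteType G.hom] {r : ℕ}
    (a : Red.DS (Spec (CommRingCat.of k)) (Fin r → ℤ) ⟶ G) [IsMonHom a]
    {N : Over (Spec (CommRingCat.of k))} [GrpObj N] [LocallyOfFiniteType N.hom] [QuasiCompact N.hom]
    (i : N ⟶ G) [IsMonHom i] [Mono i] (hi : ∀ (X : Over (Spec (CommRingCat.of k))) (z : X ⟶ N) (g : X ⟶ G), Commute (z ≫ i) g)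
    {H : Over (Spec (CommRingCat.of k))} [PreconnectedSpace H.left] (j : H ⟶ G)
    (hj : ∀ (X : Over (Spec (CommRingCat.of k))) (x : X ⟶ Red.DS (Spec (CommRingCat.of k)) (Fin r → ℤ)) (h : X ⟶ H),
      ∃ z : X ⟶ N, z ≫ i = (x ≫ a) * (h ≫ j) * (x ≫ a)⁻¹ * (h ≫ j)⁻¹)
    (h₀ : 𝟙_ (Over (Spec (CommRingCat.of k))) ⟶ H) (hh₀ : h₀ ≫ j = 1)
    (h : 𝟙_ (Over (Spec (CommRingCat.of k))) ⟶ H) (X : Over (Spec (CommRingCat.of k)))
    (x : X ⟶ Red.DS (Spec (CommRingCat.of k)) (Fin r → ℤ)) : Commute (x ≫ a) (toUnit X ≫ h ≫ j) := by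
  have hcomm : ∀ {Y : Over (Spec (CommRingCat.of k))} (p q : Y ⟶ N), p * q = q * p := fun p q => by
    rw [← cancel_mono i, MonObj.mul_comp, MonObj.mul_comp]
    exact hi _ p (q ≫ i)
  let f : Red.DS (Spec (CommRingCat.of k)) (Fin r → ℤ) ⟶ G := a * (toUnit _ ≫ h ≫ j) * a⁻¹ * (toUnit _ ≫ h ≫ j)⁻¹
  have hf : ∀ (Z : Over (Spec (CommRingCat.of k))) (w : Z ⟶ Red.DS (Spec (CommRingCat.of k)) (Fin r → ℤ)),
      w ≫ f = (w ≫ a) * (toUnit Z ≫ h ≫ j) * (w ≫ a)⁻¹ * (toUnit Z ≫ h ≫ j)⁻¹ := fun Z w => by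
    simp only [f, MonObj.comp_mul, GrpObj.comp_inv, ← Category.assoc, toUnit_unique (w ≫ toUnit _) (toUnit Z)]
  have hfc : ∀ (Z : Over (Spec (CommRingCat.of k))) (w : Z ⟶ Red.DS (Spec (CommRingCat.of k)) (Fin r → ℤ)) (z : Z ⟶ G),
      Commute (w ≫ f) z := fun Z w z => by
    obtain ⟨c, hc⟩ := hj Z w (toUnit Z ≫ h)
    rw [Category.assoc] at hc
    rw [hf, ← hc]
    exact hi Z c z
  haveI : IsMonHom f := HomDS.isMonHom_of_points f fun Z w w' => by
    have h₂ := hfc Z w' (w ≫ a)
    have h₃ := hfc Z w' (w ≫ f)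
    rw [hf] at h₂ h₃ ⊢
    rw [hf, hf, MonObj.mul_comp w w' a]
    rw [hf] at h₃
    generalize w ≫ a = A at *
    generalize w' ≫ a = A' at *
    generalize toUnit Z ≫ h ≫ j = Y at *
    calc A * A' * Y * (A * A')⁻¹ * Y⁻¹
        = (A * (A' * Y * A'⁻¹ * Y⁻¹)) * (Y * A⁻¹ * Y⁻¹) := by group
      _ = ((A' * Y * A'⁻¹ * Y⁻¹) * A) * (Y * A⁻¹ * Y⁻¹) := by rw [h₂.eq]
      _ = (A' * Y * A'⁻¹ * Y⁻¹) * (A * Y * A⁻¹ * Y⁻¹) := by group
      _ = (A * Y * A⁻¹ * Y⁻¹) * (A' * Y * A'⁻¹ * Y⁻¹) := h₃.eq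
  obtain ⟨M, hM⟩ := KerField.exists_ker f
  have hM0 : ∀ m ∈ M, m = 0 := fun m hm => funext fun l => by
    obtain ⟨q, hq, hqk⟩ : ∃ q : ℕ, q.Prime ∧ (q : k) ≠ 0 := by
      by_cases h2 : ((2 : ℕ) : k) = 0
      · refine ⟨3, Nat.prime_three, fun h3 => one_ne_zero (α := k) ?_⟩
        have : ((3 : ℕ) : k) - ((2 : ℕ) : k) = 1 := by norm_num
        rw [← this, h2, h3, sub_zero]
      · exact ⟨2, Nat.prime_two, h2⟩
    let n : ℕ := q ^ ((m l).natAbs + 1)
    have hnk : (n : k) ≠ 0 := by simpa [n] using hqk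
    have hnm : (m l).natAbs < n := lt_of_lt_of_le (Nat.lt_succ_self _) (Nat.lt_pow_self hq.one_lt).le
    haveI : NeZero (n : k) := ⟨hnk⟩
    obtain ⟨ζ, hζ⟩ := HasEnoughRootsOfUnity.exists_primitiveRoot k n
    have hn0 : n ≠ 0 := pow_ne_zero _ hq.ne_zero
    let E := (Scheme.ΓSpecIso (CommRingCat.of k)).commRingCatIsoToRingEquiv
    let v : Γ((𝟙_ (Over (Spec (CommRingCat.of k)))).left, ⊤)ˣ := Units.map E.symm.toMonoidHom (hζ.isUnit hn0).unit
    let χ : Multiplicative (Fin r → ℤ) →* Γ((𝟙_ (Over (Spec (CommRingCat.of k)))).left, ⊤) :=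
      (Units.coeHom _).comp ((zpowersHom _ v).comp (Pi.evalAddMonoidHom (fun _ : Fin r => ℤ) l).toMultiplicative)
    let u : 𝟙_ (Over (Spec (CommRingCat.of k))) ⟶ Red.DS (Spec (CommRingCat.of k)) (Fin r → ℤ) := Gm.dsPt χ
    have hv : v ^ n = 1 := by
      rw [← map_pow, show (hζ.isUnit hn0).unit ^ n = 1 from Units.ext (by simp [hζ.pow_eq_one]), map_one]
    have hu : u ^ n = 1 := Gm.dsFn_ext fun i' => by
      rw [Gm.dsFn_pow, Gm.dsFn_dsPt, Gm.dsFn_one]
      simp only [χ, MonoidHom.comp_apply, Units.coeHom_apply]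
      rw [← Units.val_pow_eq_pow_val, ← map_pow, zpowersHom_apply]
      simp only [AddMonoidHom.toMultiplicative_apply_apply, toAdd_pow, toAdd_ofAdd, Pi.evalAddMonoidHom_apply]
      rw [nsmul_eq_mul, zpow_mul, zpow_natCast, hv, one_zpow, Units.val_one]
    -- the family of commutators with `u`
    obtain ⟨ψ, hψ⟩ := hj H (toUnit H ≫ u) (𝟙 H)
    rw [Category.id_comp] at hψ
    have hψc : ∀ z : H ⟶ G, Commute ((toUnit H ≫ u) ≫ a * j * ((toUnit H ≫ u) ≫ a)⁻¹ * j⁻¹) z := fun z => by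
      rw [← hψ]
      exact hi H ψ z
    have hψn : ψ ^ n = 1 := by
      rw [← cancel_mono i, pow_comp_hom, MonObj.one_comp, hψ]
      have e1 : ((toUnit H ≫ u) ≫ a) ^ n = 1 := by
        rw [← pow_comp_hom a (toUnit H ≫ u) n, ← comp_pow_point, hu, MonObj.comp_one, MonObj.one_comp]
      generalize (toUnit H ≫ u) ≫ a = A at *
      generalize hc : A * j * A⁻¹ * j⁻¹ = c at hψc
      have e : A * j = c * j * A := by rw [← hc]; group
      have h2 : ∀ p : ℕ, A ^ p * j = c ^ p * j * A ^ p := fun p => by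
        induction p with
        | zero => simp
        | succ p ih =>
          rw [pow_succ, _root_.mul_assoc, e, show A ^ p * (c * j * A) = (A ^ p * c) * j * A by group,
            ← (hψc (A ^ p)).eq, _root_.mul_assoc c, ih, pow_succ' c]
          group
      have := h2 n
      rw [e1, _root_.one_mul, _root_.mul_one] at this
      simpa using this
    have e0 : ∀ h' : 𝟙_ (Over (Spec (CommRingCat.of k))) ⟶ H,
        h' ≫ ψ ≫ i = (u ≫ a) * (h' ≫ j) * (u ≫ a)⁻¹ * (h' ≫ j)⁻¹ := fun h' => by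
      rw [hψ]
      simp only [MonObj.comp_mul, GrpObj.comp_inv, ← Category.assoc, toUnit_unique (h' ≫ toUnit H) (𝟙 _),
        Category.id_comp]
    have hone := eq_one_of_connected_torsion hcomm hnk ψ hψn h₀ (by
      rw [← cancel_mono i, MonObj.one_comp, Category.assoc, e0, hh₀]; group) h
    have h0 : u ≫ f = 1 := by
      rw [hf, toUnit_unique (toUnit (𝟙_ _)) (𝟙 _), Category.id_comp, ← e0, ← Category.assoc, hone, MonObj.one_comp]
    have h1 := (hM u).1 h0 m hm
    rw [Gm.dsFn_dsPt] at h1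
    simp only [χ, MonoidHom.comp_apply, Units.coeHom_apply, zpowersHom_apply,
      AddMonoidHom.toMultiplicative_apply_apply, toAdd_ofAdd, Pi.evalAddMonoidHom_apply, Units.val_eq_one] at h1
    have h2 : ((hζ.isUnit hn0).unit) ^ (m l) = 1 :=
      (Units.map_injective E.symm.injective) (by rw [map_zpow, map_one]; exact h1)
    have h3 : (n : ℤ) ∣ m l := (hζ.zpow_eq_one_iff_dvd (m l)).1 (by
      simpa [Units.ext_iff] using h2)
    exact Int.natAbs_eq_zero.1 (Nat.eq_zero_of_dvd_of_lt (Int.natCast_dvd.1 h3) hnm)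
  have hf1 : x ≫ f = 1 := (hM x).2 fun m hm => by rw [hM0 m hm, Gm.dsFn_zero]
  rw [hf, mul_inv_eq_one, mul_inv_eq_iff_eq_mul] at hf1
  exact hf1

/-- The centralizer of a torus in a smooth connected group is smooth and connected. -/
theorem connectedSpace_centralizer [Smooth G.hom] [QuasiCompact G.hom] [ConnectedSpace G.left]
    {T : Over (Spec (CommRingCat.of k))} [GrpObj T] (hT : Red.IsTorus T) (t : T ⟶ G) [IsMonHom t] [Mono t]
    {C : Over (Spec (CommRingCat.of k))} [GrpObj C] (c : C ⟶ G) (hC : Red.IsCentralizerOf t c) :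
    IsClosedImmersion c.left ∧ Smooth C.hom ∧ ConnectedSpace C.left := by
  obtain ⟨C', hC'g, c', hC', hc'cl, hc'sm⟩ := exists_centralizer_torus hT t
  obtain ⟨eC, heC⟩ := H1.Classical.CentralizerScheme.iso_of_isCentralizerOf hC hC'
  haveI := hc'cl
  haveI : IsIso eC.hom.left := ((Over.forget _).mapIso eC).isIso_hom
  haveI hcl : IsClosedImmersion c.left := by rw [← heC, Over.comp_left]; infer_instance
  refine ⟨hcl, by rw [← Over.w eC.hom]; haveI := hc'sm; infer_instance, ?_⟩
  haveI := GrpSch.isSeparated_of_field G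
  obtain ⟨Q, _, ρ, N, _, i, hρ, hQa, hQs, hQc, hρs, hρf, hρp, hi, hicl, hNs, hNc, hK, hcent⟩ := exists_affHull G
  haveI := hicl
  haveI : Mono i := GrpQ.mono_of_left i
  haveI : QuasiCompact N.hom := by rw [← Over.w i]; infer_instance
  obtain ⟨r, ⟨e⟩⟩ := TorusIn.exists_split T hT
  let E := Tori.BaseChange.overIso e
  haveI : IsMonHom E.inv := inferInstanceAs (IsMonHom (Tori.BaseChange.overIso e.symm).hom)
  obtain ⟨M, jM, hjM, hjMm, hfac⟩ := KerField.exists_image (E.inv ≫ t ≫ ρ)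
  haveI := hjM
  haveI := hjMm
  have htM := TorusIn.isTorus_DS (S := Spec (CommRingCat.of k)) M
  obtain ⟨D, _, d, hD, hdcl, hDsm⟩ := exists_centralizer_torus htM jM
  obtain ⟨-, -, -, hDconn⟩ := H1.Classical.CentralizerScheme.props' jM htM d hD
  haveI := hD.1
  haveI := hdcl
  let H : Over (Spec (CommRingCat.of k)) := Over.mk (pullback.fst ρ.left d.left ≫ G.hom)
  let j : H ⟶ G := Over.homMk (pullback.fst ρ.left d.left) rfl
  let p : H ⟶ D := Over.homMk (pullback.snd ρ.left d.left) (by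
    show pullback.snd ρ.left d.left ≫ D.hom = pullback.fst ρ.left d.left ≫ G.hom
    rw [← Over.w d, ← pullback.condition_assoc, Over.w ρ])
  have hpj : p ≫ d = j ≫ ρ := Over.OverMorphism.ext pullback.condition.symm
  haveI : IsClosedImmersion j.left := inferInstanceAs (IsClosedImmersion (pullback.fst ρ.left d.left))
  haveI : Mono j := GrpQ.mono_of_left j
  have hlift : ∀ {X : Over (Spec (CommRingCat.of k))} (g : X ⟶ G),
      (∃ z : X ⟶ D, z ≫ d = g ≫ ρ) → ∃ w : X ⟶ H, w ≫ j = g := fun g ⟨z, hz⟩ =>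
    ⟨Over.homMk (pullback.lift g.left z.left (congrArg CommaMorphism.left hz.symm)) (by
      show pullback.lift _ _ _ ≫ pullback.fst ρ.left d.left ≫ G.hom = _
      rw [pullback.lift_fst_assoc, Over.w g]), Over.OverMorphism.ext (pullback.lift_fst _ _ _)⟩
  obtain ⟨hHg, hjhom⟩ := FreeRes.exists_grpObj_of_mono j
    (fun X => hlift 1 ⟨1, by rw [MonObj.one_comp, MonObj.one_comp]⟩)
    (fun a b => hlift _ ⟨(a ≫ p) * (b ≫ p), by
      rw [MonObj.mul_comp, MonObj.mul_comp, Category.assoc, Category.assoc, Category.assoc, Category.assoc, hpj]⟩)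
    (fun a => hlift _ ⟨(a ≫ p)⁻¹, by rw [GrpObj.inv_comp, GrpObj.inv_comp, Category.assoc, Category.assoc, hpj]⟩)
  haveI := hjhom
  haveI : Mono d := GrpQ.mono_of_left d
  haveI : IsMonHom p := H87.HomDS.isMonHom_of_points p fun X a b => by
    rw [← cancel_mono d, MonObj.mul_comp (a ≫ p), Category.assoc, Category.assoc, Category.assoc, hpj,
      ← Category.assoc, MonObj.mul_comp a b j, MonObj.mul_comp, Category.assoc, Category.assoc]
  obtain ⟨n, hn⟩ := hlift i ⟨1, by rw [MonObj.one_comp, GrpQ.kernel_comp hK]⟩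
  haveI : LocallyOfFiniteType H.hom := by rw [← Over.w j]; infer_instance
  haveI : QuasiCompact H.hom := by rw [← Over.w j]; infer_instance
  haveI : LocallyOfFiniteType D.hom := by rw [← Over.w d]; infer_instance
  haveI : Flat p.left := inferInstanceAs (Flat (pullback.snd ρ.left d.left))
  haveI : Surjective p.left := inferInstanceAs (Surjective (pullback.snd ρ.left d.left))
  haveI : LocallyOfFinitePresentation p.left :=
    inferInstanceAs (LocallyOfFinitePresentation (pullback.snd ρ.left d.left))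
  haveI hHc : ConnectedSpace H.left := connectedSpace_of_kernel p n fun x hx => by
    obtain ⟨m, hm⟩ := (GrpQ.mem_kernel hK (x ≫ j)).2 (by
      rw [Category.assoc, ← hpj, ← Category.assoc, hx, MonObj.one_comp])
    exact ⟨m, by rw [← cancel_mono j, Category.assoc, hn, hm]⟩
  -- `C` is contained in `H`
  obtain ⟨w, hw⟩ := hlift c ((hD.2.2 C (c ≫ ρ)).2 fun X x m => by
    haveI : Flat (Red.DSmap (Spec (CommRingCat.of k)) M.subtype).left :=
      (Loci.ff_DSmap _ (φ := M.subtype) Subtype.coe_injective).1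
    haveI : Surjective (Red.DSmap (Spec (CommRingCat.of k)) M.subtype).left :=
      (Loci.ff_DSmap _ (φ := M.subtype) Subtype.coe_injective).2
    haveI := Tori.DS.isAffineHom (Spec (CommRingCat.of k)) (Fin r → ℤ)
    haveI := Tori.DS.isAffineHom (Spec (CommRingCat.of k)) M
    have hcov : GrpQ.IsCover (Red.DSmap (Spec (CommRingCat.of k)) M.subtype) :=
      ⟨inferInstance, inferInstance, GrpQ.quasiCompact_left _⟩
    obtain ⟨X₁, π, y, hπ, hy⟩ := GrpQ.exists_lift hcov m
    refine GrpQ.cancel_cover hπ ?_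
    have key := congrArg (· ≫ ρ) ((hC.2.2 C c).1 ⟨𝟙 C, Category.id_comp c⟩ X₁ (π ≫ x) (y ≫ E.inv))
    simp only [MonObj.mul_comp, Category.assoc] at key
    simp only [MonObj.comp_mul, ← reassoc_of% hy, hfac]
    exact key)
  haveI : IsClosedImmersion w.left := by
    haveI : IsClosedImmersion (w.left ≫ j.left) := by rw [← Over.comp_left, hw]; infer_instance
    exact IsClosedImmersion.of_comp w.left j.left
  haveI : Surjective w.left := by
    haveI : JacobsonSpace H.left := LocallyOfFiniteType.jacobsonSpace H.hom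
    refine ⟨Set.range_eq_univ.1 (Set.univ_subset_iff.1 ?_)⟩
    rw [← closure_closedPoints]
    refine closure_minimal (fun q hq => ?_) w.left.isClosedEmbedding.isClosed_range
    obtain ⟨h, hh⟩ := GrpSch.exists_point_mem (W := {q}) hq (Set.singleton_nonempty q)
    obtain ⟨z, hz⟩ := (hC.2.2 _ (h ≫ j)).2 fun X x y => by
      rw [toUnit_unique x (toUnit X)]
      have hk := commute_of_connected_family (E.inv ≫ t) i (fun X z g => hcent X _ g (by
        rw [Category.assoc, GrpQ.kernel_comp hK, MonObj.comp_one])) j (fun X' x' h' => (GrpQ.mem_kernel hK _).2 (by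
          have hc1 := (hD.2.2 X' ((h' ≫ p) ≫ d)).1 ⟨h' ≫ p, rfl⟩ X' (𝟙 _) (x' ≫ Red.DSmap _ M.subtype)
          simp only [Category.id_comp, Category.assoc, hfac, hpj] at hc1
          simp only [MonObj.mul_comp, GrpObj.inv_comp, Category.assoc]
          rw [← hc1]
          group)) 1 (MonObj.one_comp j) h X (y ≫ E.hom)
      simp only [Category.assoc, Iso.hom_inv_id_assoc] at hk
      exact hk.symm.eq
    have e1 : z ≫ w = h := by rw [← cancel_mono j, Category.assoc, hw, hz]
    exact ⟨z.left (IsLocalRing.closedPoint k), by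
      rw [← Scheme.Hom.comp_apply, ← Over.comp_left, e1]
      exact hh ⟨_, rfl⟩⟩
  haveI : PreconnectedSpace C.left := ⟨by
    have h : _root_.IsPreconnected (w.left '' Set.univ) := by
      rw [Set.image_univ, w.left.surjective.range_eq]
      exact isPreconnected_univ
    exact (w.left.isClosedEmbedding.isInducing.isPreconnected_image).mp h⟩
  exact { toNonempty := ⟨η[C].left (IsLocalRing.closedPoint k)⟩ }

end Groth.Agent.Lib.SmWeil
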