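import Groth.Agent.Lib.SmWeil.CartanDescent
import Groth.Agent.Lib.SmWeil.TorusCentConn
import Groth.Agent.Lib.ActSep.MonoIso
import Groth.Agent.Lib.AdicFlat.Dvr
import Groth.Agent.Lib.GrpSch.ConnFibre
import Groth.Agent.H87.MT

/-!
# The locus where a smooth subgroup with connected fibres is Cartan is open
-/

set_option autoImplicit false
set_option linter.style.haveILetI false

universe u

open CategoryTheory CategoryTheory.Limits AlgebraicGeometry MonoidalCategory CartesianMonoidalCategory
open CategoryTheory.MonObj CategoryTheory.GrpObj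
open Groth.Agent.Lib Groth.Agent.Lib.RedPts Groth.Agent.Lib.Tori Groth.Agent.H87

namespace Groth.Agent.Lib.SmWeil.CartanOpen

variable {S : Scheme.{u}}

theorem geometricallyConnected_of_fibres (H : Over S) [GrpObj H]
    (hconn : ∀ s : S, _root_.IsConnected (H.hom.base ⁻¹' {s})) : GeometricallyConnected H.hom := by
  refine GrpSch.geometricallyConnected_of_section H.hom η[H].left (Over.w η[H]) fun s => ?_
  haveI := Subtype.connectedSpace (hconn s)
  exact (H.hom.fiberHomeo s).symm.surjective.connectedSpace (H.hom.fiberHomeo s).symm.continuous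

theorem isConnected_fibres {S' : Scheme.{u}} (f : S' ⟶ S) (H : Over S) [GeometricallyConnected H.hom] (s' : S') :
    _root_.IsConnected ((Red.bc f H).hom.base ⁻¹' {s'}) := by
  haveI : GeometricallyConnected (Red.bc f H).hom :=
    inferInstanceAs (GeometricallyConnected (pullback.snd H.hom f))
  exact (Red.bc f H).hom.isConnected_preimage_singleton s'

/-- A monomorphism of smooth groups with connected target fibres which is an isomorphism on one fibre is so nearby. -/
theorem exists_nhd_iso {Z C : Over S} [GrpObj Z] [GrpObj C] [Smooth Z.hom] [Smooth C.hom] [GeometricallyConnected C.hom]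
    (z : Z ⟶ C) [IsMonHom z] [Mono z] (s₀ : S) (hz : IsIso ((Over.pullback (Red.geomPt s₀)).map z)) :
    ∃ O : S.Opens, s₀ ∈ O ∧ IsIso ((Over.pullback O.ι).map z) := by
  let r : Spec (CommRingCat.of (AlgebraicClosure (S.residueField s₀))) ⟶ Spec (S.residueField s₀) :=
    Spec.map (CommRingCat.ofHom (algebraMap (S.residueField s₀) (AlgebraicClosure (S.residueField s₀))))
  haveI : Flat r := Groth.Agent.Lib.GrpSch.flat_of_isField (Field.toIsField _) _
  haveI : Surjective r := ⟨fun x => ⟨IsLocalRing.closedPoint _, Subsingleton.elim (α := PrimeSpectrum _) _ _⟩⟩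
  have h1 : Charts.Fib (MorphismProperty.isomorphisms Scheme) (r ≫ S.fromSpecResidueField s₀) z :=
    haveI := hz
    inferInstanceAs (IsIso ((Over.forget _).map ((Over.pullback (Red.geomPt s₀)).map z)))
  have h2 : IsIso ((Over.pullback (S.fromSpecResidueField s₀)).map z).left := Charts.fib_descend _ r h1
  have sq := (Charts.isPullback_map (S.fromSpecResidueField s₀) z).flip
  haveI : IsIso (sq.flip.isoPullback.hom ≫ pullback.snd z.left (pullback.fst C.hom (S.fromSpecResidueField s₀))) := by
    rw [sq.flip.isoPullback_hom_snd]; exact h2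
  have hs : IsIso (pullback.snd z.left (C.hom.fiberι s₀)) :=
    @IsIso.of_isIso_comp_left _ _ _ _ _ sq.flip.isoPullback.hom
      (pullback.snd z.left (pullback.fst C.hom (S.fromSpecResidueField s₀))) sq.flip.isoPullback.isIso_hom inferInstance
  haveI := Flat55.FibreTransfer.locallyOfFinitePresentation z.left C.hom (Over.w z)
  let O : S.Opens := (η[Z].left) ⁻¹ᵁ AdicFlat.Dvr.flatLocus z.left
  have hs₀ : s₀ ∈ O := by
    show (z.left.stalkMap (η[Z].left s₀)).hom.Flat
    refine (Flat55.FibreTransfer.flat_stalkMap z.left C.hom (Over.w z) _ ?_).1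
    have e : Z.hom (η[Z].left s₀) = s₀ := by
      rw [← Scheme.Hom.comp_apply, Over.w η[Z]]
      rfl
    rw [e]
    haveI := hs
    infer_instance
  refine ⟨O, hs₀, ?_⟩
  let z' := (Over.pullback O.ι).map z
  haveI : Mono z' := inferInstanceAs (Mono ((Over.pullback O.ι).map z))
  haveI : IsMonHom z' := inferInstanceAs (IsMonHom ((Over.pullback O.ι).map z))
  haveI : Smooth (Red.bc O.ι Z).hom := MorphismProperty.pullback_snd (P := @Smooth) _ _ inferInstance
  haveI : Smooth (Red.bc O.ι C).hom := MorphismProperty.pullback_snd (P := @Smooth) _ _ inferInstance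
  haveI : LocallyOfFinitePresentation z'.left :=
    Flat55.FibreTransfer.locallyOfFinitePresentation z'.left (Red.bc O.ι C).hom (Over.w z')
  haveI := AdicFlat.Dvr.flat_flatLocus z'.left
  refine ActSep.MonoIso.isIso_of_flat_nhd (isConnected_fibres O.ι C) z' (AdicFlat.Dvr.flatLocus z'.left) fun t => ?_
  show (z'.left.stalkMap _).hom.Flat
  let y := η[Red.bc O.ι Z].left t
  have he : η[Red.bc O.ι Z].left ≫ pullback.fst Z.hom O.ι = O.ι ≫ η[Z].left := by
    have h : BC.down O.ι (1 : 𝟙_ (Over (O : Scheme.{u})) ⟶ Red.bc O.ι Z) = 1 := BC.down_one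
    rw [← one_eq_one, Hom.one_def] at h
    exact congrArg CommaMorphism.left h
  have hy : (z.left.stalkMap (pullback.fst Z.hom O.ι y)).hom.Flat := by
    have : pullback.fst Z.hom O.ι y = η[Z].left (O.ι t) := by
      rw [← Scheme.Hom.comp_apply, ← Scheme.Hom.comp_apply, he]
    rw [this]
    exact t.2
  haveI : IsIso ((pullback.fst Z.hom O.ι).stalkMap y) := inferInstance
  haveI : IsIso ((pullback.fst C.hom O.ι).stalkMap (z'.left y)) := inferInstance
  have h3 : ((pullback.fst Z.hom O.ι ≫ z.left).stalkMap y).hom.Flat := by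
    rw [Scheme.Hom.stalkMap_comp]
    exact RingHom.Flat.comp hy (RingHom.Flat.of_bijective
      (ConcreteCategory.bijective_of_isIso ((pullback.fst Z.hom O.ι).stalkMap y)))
  have hw : z'.left ≫ pullback.fst C.hom O.ι = pullback.fst Z.hom O.ι ≫ z.left :=
    (Charts.isPullback_map O.ι z).w.symm
  rw [← hw] at h3
  rw [Scheme.Hom.stalkMap_comp] at h3
  have h4 : z'.left.stalkMap y = CategoryTheory.inv ((pullback.fst C.hom O.ι).stalkMap (z'.left y)) ≫
      ((pullback.fst C.hom O.ι).stalkMap (z'.left y) ≫ z'.left.stalkMap y) := (IsIso.inv_hom_id_assoc _ _).symm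
  show (z'.left.stalkMap y).hom.Flat
  rw [h4]
  exact RingHom.Flat.comp (RingHom.Flat.of_bijective
    (ConcreteCategory.bijective_of_isIso (CategoryTheory.inv ((pullback.fst C.hom O.ι).stalkMap (z'.left y))))) h3

section Field

variable {K : Type u} [Field K] [IsAlgClosed K] {G C : Over (Spec (CommRingCat.of K))} [GrpObj G] [GrpObj C]
  {K' : Type u} [Field K'] [IsAlgClosed K'] [Algebra K K']

/-- Being a Cartan subgroup descends along extensions of algebraically closed fields. -/
theorem isCartanOver_descend [Smooth G.hom] [IsSeparated G.hom] [Smooth C.hom] (c : C ⟶ G) [IsMonHom c] [Mono c]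
    (h : SGA3x.IsCartanOver K' ((Over.pullback (TorusSpec.base (K := K) K')).map c)) :
    SGA3x.IsCartanOver K c := by
  obtain ⟨-, -, U, _, u, hu, hcu⟩ := h
  let g := TorusSpec.base (K := K) K'
  let S₀ := Spec (CommRingCat.of K)
  haveI := hu.1
  haveI := hu.2.1
  haveI : IsSeparated C.hom := by rw [← Over.w c]; infer_instance
  obtain ⟨a, ha⟩ := (hcu.2.2 _ u).2 fun X' x h => by
    rw [← MonObj.mul_comp, ← MonObj.mul_comp, MaxTorusBC.commute_of_isTorus hu.2.2.1]
  haveI : IsMonHom ((Over.pullback g).map c) := inferInstance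
  haveI : Mono ((Over.pullback g).map c) := inferInstance
  haveI : IsMonHom (a ≫ (Over.pullback g).map c) := by rw [ha]; infer_instance
  haveI : IsMonHom a := MaxTorusBC.isMonHom_of_mono_comp a ((Over.pullback g).map c)
  haveI : Mono a := mono_of_mono_fac ha
  obtain ⟨r, ⟨eU⟩⟩ := TorusIn.exists_split U hu.2.2.1
  let eD := DS.dsBC (S := S₀) (Fin r → ℤ) g ≪≫ eU.symm
  haveI := BaseChange.isMonHom_overIso eD
  let h : Red.bc g (Red.DS S₀ (Fin r → ℤ)) ⟶ Red.bc g C := (BaseChange.overIso eD).hom ≫ a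
  haveI : IsMonHom h := inferInstanceAs (IsMonHom ((BaseChange.overIso eD).hom ≫ a))
  haveI : Mono h := inferInstanceAs (Mono ((BaseChange.overIso eD).hom ≫ a))
  obtain ⟨N, jN, hr, hjN, hjNm⟩ := TorusSpec.exists_specialization h
  haveI := hjN
  haveI := hjNm
  let i : Red.DS S₀ N ⟶ G := jN ≫ c
  haveI : IsMonHom i := inferInstanceAs (IsMonHom (jN ≫ c))
  haveI : Mono i := inferInstanceAs (Mono (jN ≫ c))
  have hNt := TorusIn.isTorus_DS (S := S₀) N
  haveI : LocallyOfFiniteType (Red.bc g G).hom :=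
    MorphismProperty.pullback_snd (P := @LocallyOfFiniteType) _ _ inferInstance
  haveI : IsMonHom ((Over.pullback g).map i) := inferInstance
  obtain ⟨w, hw⟩ := TorusIn.exists_fac_field u ((Over.pullback g).map i) hu.2.2.1 (Basic.isTorus_bc hNt g)
    (fun T' _ j' _ _ f h e => maximal_of_isMaximalTorus hu j' f h e)
    (fun X t x => ((hcu.2.2 _ ((Over.pullback g).map i)).1 ⟨(Over.pullback g).map jN, (Functor.map_comp _ _ _).symm⟩
      X x t).symm)
  haveI : Mono ((Over.pullback g).map i) := inferInstance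
  haveI : IsMonHom (w ≫ u) := by rw [hw]; infer_instance
  haveI : IsMonHom w := MaxTorusBC.isMonHom_of_mono_comp w u
  haveI : Mono w := mono_of_mono_fac hw
  haveI : IsIso w := by
    let eB := (DS.dsBC (S := S₀) N g).symm
    haveI := BaseChange.isMonHom_overIso eB
    haveI := BaseChange.isMonHom_overIso eU
    haveI : IsMonHom ((BaseChange.overIso eB).hom ≫ w ≫ (BaseChange.overIso eU).hom) := inferInstance
    haveI : Mono ((BaseChange.overIso eB).hom ≫ w ≫ (BaseChange.overIso eU).hom) :=
      MaxTorusBC.mono_iso_comp_iso _ w _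
    haveI : AddGroup.FG (Fin r → ℤ) := Module.Finite.iff_addGroup_fg.1 inferInstance
    obtain ⟨φ, hφ, hv⟩ := MaxTorusBC.exists_phi ((BaseChange.overIso eB).hom ≫ w ≫ (BaseChange.overIso eU).hom)
    haveI : Module.Finite ℤ N := Module.Finite.iff_addGroup_fg.mpr ((AddGroup.fg_iff_addSubgroup_fg N).mpr
      (Submodule.fg_iff_addSubgroup_fg N.toIntSubmodule |>.mp (IsNoetherian.noetherian _)))
    haveI : Module.Free ℤ N := inferInstance
    have hle : Module.finrank ℤ N ≤ r := by
      have h1 := LinearMap.finrank_range_le φ.toIntLinearMap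
      rw [LinearMap.range_eq_top.2 hφ, finrank_top] at h1
      simpa using h1
    let e : N ≃ₗ[ℤ] (Fin r → ℤ) := LinearEquiv.ofFinrankEq _ _ (by rw [le_antisymm hle hr]; simp)
    have hinj : Function.Injective φ := by
      have h1 := OrzechProperty.injective_of_surjective_endomorphism (e.toLinearMap.comp φ.toIntLinearMap)
        (e.surjective.comp hφ)
      exact fun a b hab => h1 (congrArg e hab)
    refine MaxTorusBC.isIso_of_iso_comp_iso (BaseChange.overIso eB) w (BaseChange.overIso eU) ?_
    rw [hv]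
    exact inferInstanceAs (IsIso (DS.dsOverIso _ (AddEquiv.ofBijective φ ⟨hinj, hφ⟩)).hom)
  have hT' : Red.IsMaximalTorus ((Over.pullback g).map i) :=
    CartanAux.isMaximalTorus_congr (Iso.refl _) (asIso w).symm (inferInstanceAs (IsMonHom (𝟙 _)))
      (CartanAux.isMonHom_inv (asIso w) inferInstance) (by simp [← hw]) hu
  have hcu' : Red.IsCentralizerOf ((Over.pullback g).map i) ((Over.pullback g).map c) :=
    CartanAux.isCentralizerOf_congr (Iso.refl _) (asIso w).symm (Iso.refl _) (inferInstanceAs (IsMonHom (𝟙 _)))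
      (inferInstanceAs (IsMonHom (𝟙 _))) (by simp [← hw]) ((Category.comp_id _).trans (Category.id_comp _).symm) hcu
  haveI : Flat g := Groth.Agent.Lib.GrpSch.flat_of_isField (Field.toIsField _) _
  haveI : Surjective g := ⟨fun x => ⟨IsLocalRing.closedPoint _, Subsingleton.elim (α := PrimeSpectrum _) _ _⟩⟩
  have hTmax : Red.IsMaximalTorus i := isMaximalTorus_of_maximal i hNt fun T' _ j _ _ f ht hf =>
    CartanAux.isIso_of_bc g f (maximal_of_isMaximalTorus hT' ((Over.pullback g).map j) ((Over.pullback g).map f)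
      (Basic.isTorus_bc ht g) (by rw [← Functor.map_comp, hf]))
  obtain ⟨C₂, _, c₂, hC₂, -, hC₂sm⟩ := exists_centralizer_torus hNt i
  haveI := hC₂.1
  haveI := hC₂.2.1
  have h2 := H1.Classical.FieldDescent.isCentralizerOf_bc g hC₂
  haveI := h2.2.1
  obtain ⟨v₀, hv₀⟩ := (h2.2.2 _ ((Over.pullback g).map c)).2 ((hcu'.2.2 _ _).1 ⟨𝟙 _, Category.id_comp _⟩)
  obtain ⟨v₁, hv₁⟩ := CartanDescent.exists_fac_of_bc g c c₂ (Basic.isQCCover_of_qc g) v₀ hv₀
  haveI : Mono v₁ := mono_of_mono_fac hv₁
  haveI : IsMonHom (v₁ ≫ c₂) := by rw [hv₁]; infer_instance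
  haveI : IsMonHom v₁ := MaxTorusBC.isMonHom_of_mono_comp v₁ c₂
  haveI : IsIso v₁ := CartanAux.isIso_of_bc g v₁ (by
    obtain ⟨v, hv⟩ := (hcu'.2.2 _ ((Over.pullback g).map c₂)).2 ((h2.2.2 _ _).1 ⟨𝟙 _, Category.id_comp _⟩)
    refine CartanTorus.isIso_of_split _ v ?_
    rw [← cancel_mono ((Over.pullback g).map c₂), Category.assoc, ← Functor.map_comp, hv₁, hv, Category.id_comp])
  refine ⟨inferInstance, inferInstance, Red.DS S₀ N, inferInstance, i, hTmax,
    CartanAux.isCentralizerOf_congr (Iso.refl G) (Iso.refl _) (asIso v₁).symm (inferInstanceAs (IsMonHom (𝟙 G)))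
      (CartanAux.isMonHom_inv (asIso v₁) inferInstance) (by simp) ?_ hC₂⟩
  show c₂ ≫ 𝟙 G = CategoryTheory.inv v₁ ≫ c
  rw [Category.comp_id, IsIso.eq_inv_comp, hv₁]

end Field

variable {G C : Over S} [GrpObj G] [GrpObj C]

/-- Cartan fibres and base change. -/
theorem isCartanOver_iff [Smooth G.hom] [IsSeparated G.hom] [Smooth C.hom] (c : C ⟶ G) [IsMonHom c] [Mono c]
    {S' : Scheme.{u}} (f : S' ⟶ S) (s' : S') :
    SGA3x.IsCartanOver (AlgebraicClosure (S'.residueField s'))
        ((Over.pullback (Red.geomPt s')).map ((Over.pullback f).map c)) ↔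
      SGA3x.IsCartanOver (AlgebraicClosure (S.residueField (f s'))) ((Over.pullback (Red.geomPt (f s'))).map c) := by
  obtain ⟨_, hsq⟩ := CartanAux.exists_geom_sq f s'
  obtain ⟨eG, eC, hnat⟩ := MaxTorusBC.exists_transport (Red.geomPt s') f _ (Red.geomPt (f s')) hsq c
  haveI : Smooth (Red.bc (Red.geomPt (f s')) G).hom := MorphismProperty.pullback_snd (P := @Smooth) _ _ inferInstance
  haveI : Smooth (Red.bc (Red.geomPt (f s')) C).hom := MorphismProperty.pullback_snd (P := @Smooth) _ _ inferInstance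
  haveI : IsSeparated (Red.bc (Red.geomPt (f s')) G).hom :=
    MorphismProperty.pullback_snd (P := @IsSeparated) _ _ inferInstance
  constructor
  · intro h
    haveI : IsMonHom ((Over.pullback (Red.geomPt (f s'))).map c) := inferInstance
    haveI : Mono ((Over.pullback (Red.geomPt (f s'))).map c) := inferInstance
    exact isCartanOver_descend (K' := AlgebraicClosure (S'.residueField s')) _
      (CartanAux.isCartanOver_congr (BaseChange.overIso eG) (BaseChange.overIso eC)
        (BaseChange.isMonHom_overIso eG) (BaseChange.isMonHom_overIso eC) hnat h)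
  · intro h
    refine CartanAux.isCartanOver_congr (BaseChange.overIso eG).symm (BaseChange.overIso eC).symm
      (CartanAux.isMonHom_inv _ (BaseChange.isMonHom_overIso eG))
      (CartanAux.isMonHom_inv _ (BaseChange.isMonHom_overIso eC)) ?_
      (CartanAux.isCartanOver_bc (K' := AlgebraicClosure (S'.residueField s')) h)
    rw [Iso.symm_hom, Iso.symm_hom, Iso.comp_inv_eq, Category.assoc, Iso.eq_inv_comp]
    exact hnat.symm

/-- Near a Cartan fibre all fibres are Cartan, given a maximal torus inside the subgroup. -/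
theorem exists_nhd_of_torus [Smooth G.hom] [IsSeparated G.hom] [QuasiCompact G.hom] [GeometricallyConnected G.hom]
    [Smooth C.hom] [GeometricallyConnected C.hom] (c : C ⟶ G) [IsMonHom c] [Mono c] {T : Over S} [GrpObj T]
    {i : T ⟶ G} (hT : Red.IsMaximalTorus i) (a : T ⟶ C) (ha : a ≫ c = i) (s₀ : S)
    (hs₀ : SGA3x.IsCartanOver (AlgebraicClosure (S.residueField s₀)) ((Over.pullback (Red.geomPt s₀)).map c)) :
    ∃ O : S.Opens, s₀ ∈ O ∧ ∀ t ∈ O,
      SGA3x.IsCartanOver (AlgebraicClosure (S.residueField t)) ((Over.pullback (Red.geomPt t)).map c) := by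
  haveI := hT.1
  haveI := hT.2.1
  haveI : IsMonHom (a ≫ c) := ha.symm ▸ inferInstance
  haveI : IsMonHom a := MaxTorusBC.isMonHom_of_mono_comp a c
  haveI : Mono a := mono_of_mono_fac ha
  obtain ⟨W, _, z, hW, -, hWsm⟩ := exists_centralizer_torus hT.2.2.1 a
  obtain ⟨C₁, _, c₁, hC₁, -, hC₁sm⟩ := exists_centralizer_torus hT.2.2.1 i
  haveI := hW.1
  haveI := hW.2.1
  haveI := hWsm
  haveI := hC₁.1
  haveI := hC₁.2.1
  haveI := hC₁sm
  haveI : GeometricallyConnected C₁.hom := by
    refine geometricallyConnected_grp C₁ fun s => ?_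
    let k := AlgebraicClosure (S.residueField s)
    let σ := Red.geomPt s
    haveI : Smooth (Red.bc σ G).hom := MorphismProperty.pullback_snd (P := @Smooth) _ _ inferInstance
    haveI : QuasiCompact (Red.bc σ G).hom := MorphismProperty.pullback_snd (P := @QuasiCompact) _ _ inferInstance
    haveI : ConnectedSpace (Red.bc σ G).left :=
      GeometricallyConnected.geometrically_connectedSpace σ (pullback.fst G.hom σ) (pullback.snd G.hom σ)
        (IsPullback.of_hasPullback G.hom σ)
    obtain ⟨-, -, hconn⟩ := connectedSpace_centralizer (Basic.isTorus_bc hT.2.2.1 σ) ((Over.pullback σ).map i)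
      ((Over.pullback σ).map c₁) (H1.Classical.FieldDescent.isCentralizerOf_bc σ hC₁)
    haveI : ConnectedSpace ↥(pullback C₁.hom σ) := hconn
    let r : Spec (CommRingCat.of k) ⟶ Spec (S.residueField s) :=
      Spec.map (CommRingCat.ofHom (algebraMap (S.residueField s) k))
    haveI : Surjective r := ⟨fun x => ⟨IsLocalRing.closedPoint _, Subsingleton.elim (α := PrimeSpectrum _) _ _⟩⟩
    let q : pullback C₁.hom σ ⟶ pullback C₁.hom (S.fromSpecResidueField s) :=
      (pullbackLeftPullbackSndIso C₁.hom (S.fromSpecResidueField s) r).inv ≫ pullback.fst _ r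
    exact q.surjective.connectedSpace q.continuous
  obtain ⟨u, hu⟩ := (hC₁.2.2 W (z ≫ c)).2 fun X' x h => by
    have e := congrArg (· ≫ c) ((hW.2.2 W z).1 ⟨𝟙 W, Category.id_comp _⟩ X' x h)
    simp only [MonObj.mul_comp, Category.assoc, ha] at e
    exact e
  haveI : Mono (z ≫ c) := mono_comp _ _
  haveI : Mono u := mono_of_mono_fac hu
  haveI : IsMonHom (u ≫ c₁) := by rw [hu]; infer_instance
  haveI : IsMonHom u := MaxTorusBC.isMonHom_of_mono_comp u c₁
  let p := Over.pullback (Red.geomPt s₀)
  haveI : LocallyOfFiniteType (Red.bc (Red.geomPt s₀) G).hom :=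
    MorphismProperty.pullback_snd (P := @LocallyOfFiniteType) _ _ inferInstance
  have hc₀ := CartanTorus.isCentralizerOf_field hs₀ (CartanTorus.geomFibre_isMaximalTorus hT s₀) (p.map a)
    (by rw [← Functor.map_comp, ha])
  have hW₀ := H1.Classical.FieldDescent.isCentralizerOf_bc (Red.geomPt s₀) hW
  haveI := hW₀.2.1
  haveI hz₀ : IsIso (p.map z) := by
    obtain ⟨r, hr⟩ := (hW₀.2.2 _ (𝟙 _)).2 fun X' x h => by
      rw [Category.comp_id, ← cancel_mono (p.map c), MonObj.mul_comp, MonObj.mul_comp, Category.assoc,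
        ← Functor.map_comp, ha]
      exact (hc₀.2.2 _ (p.map c)).1 ⟨𝟙 _, Category.id_comp _⟩ X' x h
    exact CartanTorus.isIso_of_split _ r hr
  have hu₀ : IsIso (p.map u) := by
    have h2 := H1.Classical.FieldDescent.isCentralizerOf_bc (Red.geomPt s₀) hC₁
    haveI := h2.2.1
    obtain ⟨v, hv⟩ := (hc₀.2.2 _ (p.map c₁)).2 ((h2.2.2 _ _).1 ⟨𝟙 _, Category.id_comp _⟩)
    refine CartanTorus.isIso_of_split _ (v ≫ CategoryTheory.inv (p.map z)) ?_
    rw [← cancel_mono (p.map c₁), Category.assoc, ← Functor.map_comp, hu, Category.assoc, Functor.map_comp,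
      IsIso.inv_hom_id_assoc, hv, Category.id_comp]
  obtain ⟨O₁, hO₁, hz₁⟩ := exists_nhd_iso z s₀ hz₀
  obtain ⟨O₂, hO₂, hu₂⟩ := exists_nhd_iso u s₀ hu₀
  refine ⟨O₁ ⊓ O₂, ⟨hO₁, hO₂⟩, fun t ht => ?_⟩
  let σ := Red.geomPt t
  have hfib : ∀ {O : S.Opens}, t ∈ O → ∀ {X Y : Over S} (f : X ⟶ Y), IsIso ((Over.pullback O.ι).map f) →
      IsIso ((Over.pullback σ).map f) := by
    intro O htO X Y f hf
    have hr : Set.range σ ⊆ Set.range O.ι := by
      rintro _ ⟨x, rfl⟩
      rw [Scheme.Opens.range_ι]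
      have : σ x = t := Scheme.fromSpecResidueField_apply t _
      rw [this]
      exact htO
    have h1 : Charts.Fib (MorphismProperty.isomorphisms Scheme) O.ι f :=
      haveI := hf
      inferInstanceAs (IsIso ((Over.forget _).map ((Over.pullback O.ι).map f)))
    have h2 := Charts.fib_congr _ (IsOpenImmersion.lift_fac O.ι σ hr) f
      (Charts.fib_base _ (IsOpenImmersion.lift O.ι σ hr) h1)
    haveI : IsIso ((Over.forget _).map ((Over.pullback σ).map f)) := h2
    exact isIso_of_reflects_iso _ (Over.forget _)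
  haveI := hfib ht.1 z hz₁
  haveI := hfib ht.2 u hu₂
  have h2 := H1.Classical.FieldDescent.isCentralizerOf_bc σ hC₁
  let e : (Over.pullback σ).obj C₁ ≅ (Over.pullback σ).obj C :=
    (asIso ((Over.pullback σ).map u)).symm ≪≫ asIso ((Over.pullback σ).map z)
  have he : IsMonHom e.hom := by
    haveI := CartanAux.isMonHom_inv (asIso ((Over.pullback σ).map u)) inferInstance
    exact inferInstanceAs (IsMonHom ((asIso ((Over.pullback σ).map u)).inv ≫ (Over.pullback σ).map z))
  refine ⟨inferInstance, inferInstance, Red.bc σ T, inferInstance, (Over.pullback σ).map i,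
    CartanTorus.geomFibre_isMaximalTorus hT t,
    CartanAux.isCentralizerOf_congr (Iso.refl _) (Iso.refl _) e (inferInstanceAs (IsMonHom (𝟙 _))) he
      (by simp) ?_ h2⟩
  show (Over.pullback σ).map c₁ ≫ 𝟙 _ = (CategoryTheory.inv ((Over.pullback σ).map u) ≫ (Over.pullback σ).map z) ≫ _
  rw [Category.comp_id, Category.assoc, IsIso.eq_inv_comp, ← Functor.map_comp, ← Functor.map_comp, hu]

/-- **The Cartan locus of a smooth subgroup with connected fibres is open.** -/
theorem isOpen_cartan [Smooth G.hom] [IsSeparated G.hom] [QuasiCompact G.hom] [GeometricallyConnected G.hom]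
    [Smooth C.hom] [GeometricallyConnected C.hom] (hG : SGA3x.HasMaxTorusFpqcLocally G) (c : C ⟶ G) [IsMonHom c]
    [Mono c] : IsOpen {s : S | SGA3x.IsCartanOver (AlgebraicClosure (S.residueField s))
      ((Over.pullback (Red.geomPt s)).map c)} := by
  obtain ⟨S₁, f, hf, hfs, hcov, T₁, _, i₁, hT₁⟩ := hG
  haveI := hf
  refine MT.isOpen_of_preimage f hcov (isOpen_iff_forall_mem_open.2 fun s₁ hs₁ => ?_)
  haveI : Smooth (Red.bc f G).hom := MorphismProperty.pullback_snd (P := @Smooth) _ _ inferInstance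
  haveI : IsSeparated (Red.bc f G).hom := MorphismProperty.pullback_snd (P := @IsSeparated) _ _ inferInstance
  haveI : QuasiCompact (Red.bc f G).hom := MorphismProperty.pullback_snd (P := @QuasiCompact) _ _ inferInstance
  haveI : Smooth (Red.bc f C).hom := MorphismProperty.pullback_snd (P := @Smooth) _ _ inferInstance
  haveI : GeometricallyConnected (Red.bc f G).hom := inferInstanceAs (GeometricallyConnected (pullback.snd G.hom f))
  haveI : GeometricallyConnected (Red.bc f C).hom := inferInstanceAs (GeometricallyConnected (pullback.snd C.hom f))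
  let c₁ := (Over.pullback f).map c
  haveI : IsMonHom c₁ := inferInstanceAs (IsMonHom ((Over.pullback f).map c))
  haveI : Mono c₁ := inferInstanceAs (Mono ((Over.pullback f).map c))
  have hc₁ := (isCartanOver_iff c f s₁).2 hs₁
  obtain ⟨X, x, hXsm, hXs, hX⟩ := CartanTorus.exists_transporter c₁ hT₁
  haveI := hXsm
  obtain ⟨p, hp⟩ := hXs s₁ hc₁
  obtain ⟨S₂, σ, s₂, hσ, hσs, h, hh⟩ := EtaleSection.Sections.exists_etale_section X.hom p
  haveI := hσ
  rw [hp] at hσs
  let zp : Over.mk σ ⟶ X := Over.homMk h hh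
  let g := ptUp σ (zp ≫ x)
  obtain ⟨κ, hκ⟩ := hX _ ((Over.map σ).map (toUnit (Red.bc σ T₁)) ≫ (unitIso σ).hom ≫ zp)
    (BC.down σ (𝟙 (Red.bc σ T₁)))
  haveI : Smooth (Red.bc σ (Red.bc f G)).hom := MorphismProperty.pullback_snd (P := @Smooth) _ _ inferInstance
  haveI : IsSeparated (Red.bc σ (Red.bc f G)).hom := MorphismProperty.pullback_snd (P := @IsSeparated) _ _ inferInstance
  haveI : QuasiCompact (Red.bc σ (Red.bc f G)).hom :=
    MorphismProperty.pullback_snd (P := @QuasiCompact) _ _ inferInstance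
  haveI : Smooth (Red.bc σ (Red.bc f C)).hom := MorphismProperty.pullback_snd (P := @Smooth) _ _ inferInstance
  haveI : GeometricallyConnected (Red.bc σ (Red.bc f G)).hom :=
    inferInstanceAs (GeometricallyConnected (pullback.snd (Red.bc f G).hom σ))
  haveI : GeometricallyConnected (Red.bc σ (Red.bc f C)).hom :=
    inferInstanceAs (GeometricallyConnected (pullback.snd (Red.bc f C).hom σ))
  let i₂ := (Over.pullback σ).map i₁ ≫ (CartanTorus.conjIso g).hom
  have hT₂ : Red.IsMaximalTorus i₂ := CartanAux.isMaximalTorus_congr (CartanTorus.conjIso g) (Iso.refl _)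
    (CartanTorus.isMonHom_conjIso g) (inferInstanceAs (IsMonHom (𝟙 _))) (Category.id_comp _).symm
    (MaxTorusBC.isMaximalTorus_bc i₁ hT₁ σ)
  have ha : BC.up σ κ ≫ (Over.pullback σ).map c₁ = i₂ := by
    refine BC.down_injective ?_
    rw [show i₂ = _ from CartanTorus.comp_conjIso _ g, BC.down_map, BC.down_up, BC.down_mul, BC.down_mul,
      BC.down_inv, down_toUnit_ptUp, ← Category.id_comp ((Over.pullback σ).map i₁), BC.down_map, ← hκ]
    simp only [Category.assoc]
  obtain ⟨O, hO, hOc⟩ := exists_nhd_of_torus ((Over.pullback σ).map c₁) hT₂ _ ha s₂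
    ((isCartanOver_iff c₁ σ s₂).2 (by rw [hσs]; exact hc₁))
  refine ⟨σ '' (O : Set S₂), ?_, σ.isOpenMap _ O.isOpen, ⟨s₂, hO, hσs⟩⟩
  rintro _ ⟨t, ht, rfl⟩
  exact (isCartanOver_iff c f (σ t)).1 ((isCartanOver_iff c₁ σ t).1 (hOc t ht))

end Groth.Agent.Lib.SmWeil.CartanOpen
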