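import Groth.Agent.H1.Classical.ParabolicField
import Groth.Agent.Lib.Tori.Basic
import Groth.Agent.Lib.RedPts.BC
import Groth.Agent.H87.HomDS

/-!
# Maximal tori over an algebraically closed field
-/

set_option autoImplicit false
set_option linter.style.haveILetI false

universe u

open CategoryTheory CategoryTheory.Limits AlgebraicGeometry MonoidalCategory CartesianMonoidalCategory
open CategoryTheory.MonObj CategoryTheory.GrpObj
open Groth.Agent.Lib Groth.Agent.Lib.RedPts

namespace Groth.Agent.Lib.SmWeil

theorem isIso_geomPt {K : Type u} [Field K] [IsAlgClosed K] (s : Spec (CommRingCat.of K)) :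
    IsIso (Red.geomPt s) := by
  obtain ⟨alg, halg, hσ⟩ := Groth.Agent.H1.Classical.Scheme'.exists_geomPt_eq s
  rw [hσ]
  letI := alg
  haveI := halg
  have hb : Function.Bijective
      (algebraMap K (AlgebraicClosure ((Spec (CommRingCat.of K)).residueField s))) :=
    IsAlgClosed.algebraMap_bijective_of_isIntegral
  haveI : IsIso (CommRingCat.ofHom
      (algebraMap K (AlgebraicClosure ((Spec (CommRingCat.of K)).residueField s)))) :=
    (ConcreteCategory.isIso_iff_bijective _).2 hb
  exact inferInstanceAs (IsIso (Spec.map (CommRingCat.ofHom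
    (algebraMap K (AlgebraicClosure ((Spec (CommRingCat.of K)).residueField s))))))

theorem isIso_of_isIso_pullback {S S' : Scheme.{u}} (g : S' ⟶ S) [IsIso g] {X Y : Over S} (f : X ⟶ Y)
    (hf : IsIso ((Over.pullback g).map f)) : IsIso f := by
  haveI : IsIso f.left := by
    haveI : IsIso ((Over.pullback g).map f).left :=
      inferInstanceAs (IsIso ((Over.forget _).map ((Over.pullback g).map f)))
    have e : ((Over.pullback g).map f).left ≫ pullback.fst Y.hom g = pullback.fst X.hom g ≫ f.left := by
      simp only [Over.pullback_map_left]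
      exact pullback.lift_fst _ _ _
    have : f.left = CategoryTheory.inv (pullback.fst X.hom g) ≫ ((Over.pullback g).map f).left ≫
        pullback.fst Y.hom g := by rw [e, IsIso.inv_hom_id_assoc]
    rw [this]
    infer_instance
  haveI : IsIso ((Over.forget S).map f) := ‹IsIso f.left›
  exact isIso_of_reflects_iso f (Over.forget S)

variable {K : Type u} [Field K] [IsAlgClosed K] {G T : Over (Spec (CommRingCat.of K))} [GrpObj G] [GrpObj T]

theorem maximal_of_isMaximalTorus {i : T ⟶ G} (hT : Red.IsMaximalTorus i)
    {T' : Over (Spec (CommRingCat.of K))} [GrpObj T'] (j : T' ⟶ G) [IsMonHom j] [Mono j] (f : T ⟶ T')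
    (hT' : Red.IsTorus T') (hf : f ≫ j = i) : IsIso f := by
  let s : Spec (CommRingCat.of K) := IsLocalRing.closedPoint K
  haveI := isIso_geomPt s
  haveI := hT.1
  haveI : Mono ((Over.pullback (Red.geomPt s)).map j) := inferInstance
  exact isIso_of_isIso_pullback (Red.geomPt s) f (hT.2.2.2 s _ ((Over.pullback (Red.geomPt s)).map j)
    ((Over.pullback (Red.geomPt s)).map f) (Tori.Basic.isTorus_bc hT' _)
    (by rw [← Functor.map_comp, hf]))

section Back

variable {S S' : Scheme.{u}} (g : S' ⟶ S) (h : S ⟶ S') (hhg : h ≫ g = 𝟙 S)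

/-- The canonical map from the double base change. -/
noncomputable def backMap (X : Over S) : Red.bc h (Red.bc g X) ⟶ X :=
  Over.homMk (pullback.fst (Red.bc g X).hom h ≫ pullback.fst X.hom g) (by
    show (pullback.fst (Red.bc g X).hom h ≫ pullback.fst X.hom g) ≫ X.hom = pullback.snd (Red.bc g X).hom h
    rw [Category.assoc, pullback.condition]
    show pullback.fst (Red.bc g X).hom h ≫ (Red.bc g X).hom ≫ g = _
    rw [reassoc_of% (pullback.condition (f := (Red.bc g X).hom) (g := h)), hhg, Category.comp_id])

theorem backMap_naturality {X Y : Over S} (f : X ⟶ Y) :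
    (Over.pullback h).map ((Over.pullback g).map f) ≫ backMap g h hhg Y = backMap g h hhg X ≫ f := by
  apply Over.OverMorphism.ext
  simp only [backMap, Over.comp_left, Over.homMk_left, Over.pullback_map_left]
  erw [pullback.lift_fst_assoc, Category.assoc, pullback.lift_fst]
  simp [Category.assoc]

theorem isMonHom_backMap (X : Over S) [GrpObj X] : IsMonHom (backMap g h hhg X) := by
  refine Groth.Agent.H87.HomDS.isMonHom_of_points _ fun Y a b => ?_
  let e : Y ⟶ (Over.map g).obj ((Over.map h).obj Y) := Over.homMk (𝟙 _) (by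
    show 𝟙 _ ≫ (Y.hom ≫ h) ≫ g = Y.hom
    rw [Category.id_comp, Category.assoc, hhg, Category.comp_id])
  have key : ∀ y : Y ⟶ Red.bc h (Red.bc g X), y ≫ backMap g h hhg X = e ≫ BC.down g (BC.down h y) :=
    fun y => Over.OverMorphism.ext (by
      show y.left ≫ pullback.fst _ _ ≫ pullback.fst _ _ = 𝟙 _ ≫ (BC.down g (BC.down h y)).left
      rw [Category.id_comp, BC.down_left, BC.down_left, Category.assoc])
  rw [key, key, key, BC.down_mul, BC.down_mul, MonObj.comp_mul]

theorem isIso_backMap [IsIso g] [IsIso h] (X : Over S) : IsIso (backMap g h hhg X) := by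
  haveI : IsIso (backMap g h hhg X).left :=
    inferInstanceAs (IsIso (pullback.fst (Red.bc g X).hom h ≫ pullback.fst X.hom g))
  haveI : IsIso ((Over.forget S).map (backMap g h hhg X)) := ‹IsIso (backMap g h hhg X).left›
  exact isIso_of_reflects_iso _ (Over.forget S)

end Back

theorem isMaximalTorus_of_maximal (i : T ⟶ G) [IsMonHom i] [Mono i] (hT : Red.IsTorus T)
    (hmax : ∀ (T' : Over (Spec (CommRingCat.of K))) [GrpObj T'] (j : T' ⟶ G) [IsMonHom j] [Mono j] (f : T ⟶ T'),
      Red.IsTorus T' → f ≫ j = i → IsIso f) : Red.IsMaximalTorus i := by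
  refine ⟨inferInstance, inferInstance, hT, fun s T' _ j _ _ f hT' hf => ?_⟩
  haveI := isIso_geomPt s
  let g := Red.geomPt s
  let h := CategoryTheory.inv g
  have hhg : h ≫ g = 𝟙 _ := IsIso.inv_hom_id g
  haveI := isIso_backMap g h hhg G
  haveI := isIso_backMap g h hhg T
  haveI := isMonHom_backMap g h hhg G
  haveI : Mono ((Over.pullback h).map j) := inferInstance
  haveI : IsMonHom ((Over.pullback h).map j ≫ backMap g h hhg G) := inferInstance
  haveI : Mono ((Over.pullback h).map j ≫ backMap g h hhg G) := mono_comp _ _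
  have hiso := hmax (Red.bc h T') ((Over.pullback h).map j ≫ backMap g h hhg G)
    (CategoryTheory.inv (backMap g h hhg T) ≫ (Over.pullback h).map f) (Tori.Basic.isTorus_bc hT' h) (by
      rw [Category.assoc, ← Functor.map_comp_assoc, hf, backMap_naturality, IsIso.inv_hom_id_assoc])
  exact isIso_of_isIso_pullback h f (by
    have e : (Over.pullback h).map f =
        backMap g h hhg T ≫ CategoryTheory.inv (backMap g h hhg T) ≫ (Over.pullback h).map f := by
      rw [IsIso.hom_inv_id_assoc]
    rw [e]
    exact IsIso.comp_isIso' inferInstance hiso)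

end Groth.Agent.Lib.SmWeil
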