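import Groth.Agent.Lib.SmWeil.BorelHull
import Groth.Agent.Lib.SmWeil.TorusCentConn
import Groth.Agent.Lib.SmWeil.TorusCommutator
import Groth.Agent.Lib.SmWeil.FieldTori
import Groth.Agent.Lib.GrpQ.SubEq
import Groth.Agent.H1.Classical.CartanBorel
import Groth.Agent.H1.Classical.CharRad
import Groth.Agent.H1.Classical.SemisimpleComm
import Groth.Agent.H1.Classical.MaxTorusExists

/-!
# A connected group with central maximal torus is solvable
-/

set_option autoImplicit false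
set_option linter.style.haveILetI false
set_option linter.unusedSectionVars false

universe u

open CategoryTheory CategoryTheory.Limits AlgebraicGeometry MonoidalCategory CartesianMonoidalCategory
open CategoryTheory.MonObj CategoryTheory.GrpObj
open Groth.Agent.Lib Groth.Agent.H87
open Groth.Agent.Lib.RedPts

namespace Groth.Agent.Lib.SmWeil.CartanSolvable

variable {k : Type u} [Field k] [IsAlgClosed k]

local notation3 "pt" => (𝟙_ (Over (Spec (CommRingCat.of k))))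

/-- A morphism from a reduced scheme factors through a closed subscheme if all rational points do. -/
theorem exists_fac_of_points {X C Q : Over (Spec (CommRingCat.of k))} [LocallyOfFiniteType X.hom]
    [QuasiCompact X.hom] [IsReduced X.left] (c : C ⟶ Q) [IsClosedImmersion c.left] (x : X ⟶ Q)
    (h : ∀ p : pt ⟶ X, ∃ z, z ≫ c = p ≫ x) : ∃ f : X ⟶ C, f ≫ c = x := by
  haveI : JacobsonSpace X.left := LocallyOfFiniteType.jacobsonSpace X.hom
  haveI : Surjective (pullback.fst x.left c.left) := by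
    refine ⟨Set.range_eq_univ.1 (Set.univ_subset_iff.1 ?_)⟩
    rw [← closure_closedPoints]
    refine closure_minimal (fun t ht => ?_) (pullback.fst x.left c.left).isClosedEmbedding.isClosed_range
    obtain ⟨p, hp⟩ := GrpSch.exists_point_mem (W := {t}) ht (Set.singleton_nonempty t)
    obtain ⟨z, hz⟩ := h p
    refine ⟨pullback.lift p.left z.left congr(($hz).left).symm (IsLocalRing.closedPoint k), ?_⟩
    rw [← Scheme.Hom.comp_apply, pullback.lift_fst]
    exact hp ⟨_, rfl⟩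
  haveI := isIso_of_isClosedImmersion_of_surjective (pullback.fst x.left c.left)
  have e : (inv (pullback.fst x.left c.left) ≫ pullback.snd x.left c.left) ≫ c.left = x.left := by
    rw [Category.assoc, ← pullback.condition, IsIso.inv_hom_id_assoc]
  exact ⟨Over.homMk (inv (pullback.fst x.left c.left) ≫ pullback.snd x.left c.left) (by
    rw [← Over.w c, ← Category.assoc, e, Over.w x]), Over.OverMorphism.ext e⟩

/-- Morphisms from a reduced scheme to a separated one agree if they do on rational points. -/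
theorem ext_of_rat {X Y : Over (Spec (CommRingCat.of k))} [LocallyOfFiniteType X.hom] [QuasiCompact X.hom]
    [IsReduced X.left] [IsSeparated Y.hom] (a b : X ⟶ Y) (h : ∀ p : pt ⟶ X, p ≫ a = p ≫ b) : a = b := by
  obtain ⟨f, hf⟩ := exists_fac_of_points (equalizer.ι a b) (𝟙 X) fun p =>
    ⟨equalizer.lift p (h p), by rw [equalizer.lift_ι, Category.comp_id]⟩
  rw [← Category.id_comp a, ← Category.id_comp b, ← hf, Category.assoc, Category.assoc, equalizer.condition]

/-- A homomorphism from a split torus killing the torsion points is trivial. -/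
theorem hom_eq_one_of_torsion {G : Over (Spec (CommRingCat.of k))} [GrpObj G] [LocallyOfFiniteType G.hom] {r : ℕ}
    (f : Red.DS (Spec (CommRingCat.of k)) (Fin r → ℤ) ⟶ G) [IsMonHom f]
    (h : ∀ (n : ℕ), n ≠ 0 → ∀ u : pt ⟶ Red.DS (Spec (CommRingCat.of k)) (Fin r → ℤ), u ^ n = 1 → u ≫ f = 1) :
    f = 1 := by
  obtain ⟨M, hM⟩ := KerField.exists_ker f
  have hM0 : ∀ m ∈ M, m = 0 := fun m hm => funext fun l => by
    obtain ⟨q, hq, hqk⟩ : ∃ q : ℕ, q.Prime ∧ (q : k) ≠ 0 := by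
      by_cases h2 : ((2 : ℕ) : k) = 0
      · refine ⟨3, Nat.prime_three, fun h3 => one_ne_zero (α := k) ?_⟩
        have : ((3 : ℕ) : k) - ((2 : ℕ) : k) = 1 := by norm_num
        rw [← this, h2, h3, sub_zero]
      · exact ⟨2, Nat.prime_two, h2⟩
    let n : ℕ := q ^ ((m l).natAbs + 1)
    have hnk : (n : k) ≠ 0 := by simpa [n] using hqk
    have hnm : (m l).natAbs < n := lt_of_lt_of_le (Nat.lt_succ_self _) (Nat.lt_pow_self hq.one_lt).le
    haveI : NeZero (n : k) := ⟨hnk⟩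
    obtain ⟨ζ, hζ⟩ := HasEnoughRootsOfUnity.exists_primitiveRoot k n
    have hn0 : n ≠ 0 := pow_ne_zero _ hq.ne_zero
    let E := (Scheme.ΓSpecIso (CommRingCat.of k)).commRingCatIsoToRingEquiv
    let v : Γ((pt).left, ⊤)ˣ := Units.map E.symm.toMonoidHom (hζ.isUnit hn0).unit
    let χ : Multiplicative (Fin r → ℤ) →* Γ((pt).left, ⊤) :=
      (Units.coeHom _).comp ((zpowersHom _ v).comp (Pi.evalAddMonoidHom (fun _ : Fin r => ℤ) l).toMultiplicative)
    let u : pt ⟶ Red.DS (Spec (CommRingCat.of k)) (Fin r → ℤ) := Gm.dsPt χ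
    have hv : v ^ n = 1 := by
      rw [← map_pow, show (hζ.isUnit hn0).unit ^ n = 1 from Units.ext (by simp [hζ.pow_eq_one]), map_one]
    have hu : u ^ n = 1 := Gm.dsFn_ext fun i' => by
      rw [Gm.dsFn_pow, Gm.dsFn_dsPt, Gm.dsFn_one]
      simp only [χ, MonoidHom.comp_apply, Units.coeHom_apply]
      rw [← Units.val_pow_eq_pow_val, ← map_pow, zpowersHom_apply]
      simp only [AddMonoidHom.toMultiplicative_apply_apply, toAdd_pow, toAdd_ofAdd, Pi.evalAddMonoidHom_apply]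
      rw [nsmul_eq_mul, zpow_mul, zpow_natCast, hv, one_zpow, Units.val_one]
    have h1 := (hM u).1 (h n hn0 u hu) m hm
    rw [Gm.dsFn_dsPt] at h1
    simp only [χ, MonoidHom.comp_apply, Units.coeHom_apply, zpowersHom_apply,
      AddMonoidHom.toMultiplicative_apply_apply, toAdd_ofAdd, Pi.evalAddMonoidHom_apply, Units.val_eq_one] at h1
    have h2 : ((hζ.isUnit hn0).unit) ^ (m l) = 1 :=
      (Units.map_injective E.symm.injective) (by rw [map_zpow, map_one]; exact h1)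
    have h3 : (n : ℤ) ∣ m l := (hζ.zpow_eq_one_iff_dvd (m l)).1 (by
      simpa [Units.ext_iff] using h2)
    exact Int.natAbs_eq_zero.1 (Nat.eq_zero_of_dvd_of_lt (Int.natCast_dvd.1 h3) hnm)
  rw [← Category.id_comp f]
  exact (hM (𝟙 _)).2 fun m hm => by rw [hM0 m hm, Gm.dsFn_zero]

/-- Roots of the rational points of a split torus. -/
theorem exists_pow_eq {r : ℕ} {n : ℕ} (hn : n ≠ 0) (y : pt ⟶ Red.DS (Spec (CommRingCat.of k)) (Fin r → ℤ)) :
    ∃ z, z ^ n = y := by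
  let ψ : (Fin r → ℤ) →+ (Fin r → ℤ) := n • AddMonoidHom.id (Fin r → ℤ)
  obtain ⟨-, hs⟩ := Loci.ff_DSmap (Spec (CommRingCat.of k)) (φ := ψ) fun p q h => by
    simpa [ψ] using smul_right_injective (Fin r → ℤ) hn h
  haveI := hs
  haveI := Tori.DS.locallyOfFinitePresentation (Spec (CommRingCat.of k)) (Fin r → ℤ)
  haveI : IsAffineHom (Red.DS (Spec (CommRingCat.of k)) (Fin r → ℤ)).hom :=
    Tori.DS.isAffineHom (Spec (CommRingCat.of k)) (Fin r → ℤ)
  obtain ⟨y', hy'⟩ := GrpSch.exists_lift_point (Red.DSmap (Spec (CommRingCat.of k)) ψ) y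
  exact ⟨y', Gm.dsFn_ext fun i => by
    rw [← hy', Gm.dsFn_DSmap, Gm.dsFn_pow, ← Gm.dsFn_nsmul]
    rfl⟩

/-- An extension of a torus by a central kernel, with central commutators, is commutative. -/
theorem commute_preimage {C P : Over (Spec (CommRingCat.of k))} [GrpObj C] [GrpObj P] [LocallyOfFiniteType C.hom]
    [Smooth P.hom] [QuasiCompact P.hom] {r : ℕ} (b : P ⟶ C) [IsMonHom b]
    (π : P ⟶ Red.DS (Spec (CommRingCat.of k)) (Fin r → ℤ)) [IsMonHom π] (hπ : GrpQ.IsCover π)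
    (hker : ∀ (X : Over (Spec (CommRingCat.of k))) (p : X ⟶ P) (z : X ⟶ C), p ≫ π = 1 → Commute (p ≫ b) z)
    (hcom : ∀ (X : Over (Spec (CommRingCat.of k))) (p q : X ⟶ P) (z : X ⟶ C),
      Commute ((p ≫ b) * (q ≫ b) * (p ≫ b)⁻¹ * (q ≫ b)⁻¹) z)
    (X : Over (Spec (CommRingCat.of k))) (p q : X ⟶ P) : Commute (p ≫ b) (q ≫ b) := by
  haveI : Surjective π.left := hπ.2.1
  haveI := Tori.DS.locallyOfFinitePresentation (Spec (CommRingCat.of k)) (Fin r → ℤ)
  have key : ∀ (x : pt ⟶ P) (Z : Over (Spec (CommRingCat.of k))) (p : Z ⟶ P),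
      Commute (toUnit Z ≫ x ≫ b) (p ≫ b) := by
    intro x
    let f : P ⟶ C := (toUnit P ≫ x ≫ b) * b * (toUnit P ≫ x ≫ b)⁻¹ * b⁻¹
    have hf : ∀ (Z : Over (Spec (CommRingCat.of k))) (p : Z ⟶ P),
        p ≫ f = (toUnit Z ≫ x ≫ b) * (p ≫ b) * (toUnit Z ≫ x ≫ b)⁻¹ * (p ≫ b)⁻¹ := fun Z p => by
      simp only [f, MonObj.comp_mul, GrpObj.comp_inv, ← Category.assoc, toUnit_unique (p ≫ toUnit _) (toUnit Z)]
    have hfc : ∀ (Z : Over (Spec (CommRingCat.of k))) (p : Z ⟶ P) (z : Z ⟶ C), Commute (p ≫ f) z := fun Z p z => by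
      rw [hf]
      simpa only [Category.assoc] using hcom Z (toUnit Z ≫ x) p z
    haveI : IsMonHom f := HomDS.isMonHom_of_points f fun Z w w' => by
      have h₂ := hfc Z w' (w ≫ b)
      rw [hf] at h₂
      rw [hf, hf, hf, MonObj.mul_comp w w' b]
      generalize w ≫ b = P₁ at *
      generalize w' ≫ b = P₂ at *
      generalize toUnit Z ≫ x ≫ b = A at *
      calc A * (P₁ * P₂) * A⁻¹ * (P₁ * P₂)⁻¹
          = A * P₁ * A⁻¹ * ((A * P₂ * A⁻¹ * P₂⁻¹) * P₁⁻¹) := by group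
        _ = A * P₁ * A⁻¹ * (P₁⁻¹ * (A * P₂ * A⁻¹ * P₂⁻¹)) := by
          rw [((h₂.inv_right).eq : (A * P₂ * A⁻¹ * P₂⁻¹) * P₁⁻¹ = _)]
        _ = A * P₁ * A⁻¹ * P₁⁻¹ * (A * P₂ * A⁻¹ * P₂⁻¹) := by group
    obtain ⟨fb, hfb⟩ := GrpQ.exists_desc hπ f fun Z a c hac => by
      have hn : (a⁻¹ * c) ≫ π = 1 := by rw [MonObj.mul_comp a⁻¹ c π, GrpObj.inv_comp a π, hac, inv_mul_cancel]
      have h1 : (a⁻¹ * c) ≫ f = 1 := by
        rw [hf, mul_inv_eq_one, mul_inv_eq_iff_eq_mul]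
        exact (hker Z _ _ hn).eq.symm
      rwa [MonObj.mul_comp, GrpObj.inv_comp, inv_mul_eq_one] at h1
    haveI : IsMonHom (π ≫ fb) := by rw [hfb]; infer_instance
    haveI : IsMonHom fb := GrpQ.isMonHom_of_cover hπ fb
    have h1 : fb = 1 := hom_eq_one_of_torsion fb fun n hn u hu => by
      obtain ⟨p, rfl⟩ := GrpSch.exists_lift_point π u
      obtain ⟨y, hy⟩ := exists_pow_eq hn (x ≫ π)
      obtain ⟨r, rfl⟩ := GrpSch.exists_lift_point π y
      rw [Category.assoc, hfb, hf]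
      rw [← pow_comp_hom π p n] at hu
      have hz : ((r ^ n)⁻¹ * x) ≫ π = 1 := by
        rw [MonObj.mul_comp _ x π, GrpObj.inv_comp (r ^ n) π, pow_comp_hom π, hy, inv_mul_cancel]
      have h2 : Commute ((r ≫ b) ^ n) (p ≫ b) := (commute_pow_of_central (p ≫ b) (r ≫ b)
        (fun z => hcom _ p r z) n (by rw [← pow_comp_hom]; exact hker _ _ _ hu)).symm
      rw [toUnit_unique (toUnit _) (𝟙 _), Category.id_comp, mul_inv_eq_one, mul_inv_eq_iff_eq_mul]
      rw [show x = r ^ n * ((r ^ n)⁻¹ * x) by group, MonObj.mul_comp, pow_comp_hom]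
      exact (h2.mul_left (hker _ _ _ hz)).eq
    intro Z p
    have h3 : p ≫ f = 1 := by rw [← hfb, h1, MonObj.comp_one, MonObj.comp_one]
    rwa [hf, mul_inv_eq_one, mul_inv_eq_iff_eq_mul] at h3
  haveI := GrpSch.isSeparated_of_field C
  haveI : Smooth (P ⊗ P).hom := GrpQ.smooth_tensor
  haveI : QuasiCompact (P ⊗ P).hom := by rw [Over.tensorObj_hom]; infer_instance
  haveI : IsReduced (P ⊗ P).left := GrpSch.isReduced_of_smooth_field (P ⊗ P).hom
  have huniv : (fst P P ≫ b) * (snd P P ≫ b) = (snd P P ≫ b) * (fst P P ≫ b) := ext_of_rat _ _ fun z => by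
    rw [MonObj.comp_mul, MonObj.comp_mul, ← Category.assoc z, ← Category.assoc z]
    have := key (z ≫ fst P P) _ (z ≫ snd P P)
    rw [toUnit_unique (toUnit _) (𝟙 _), Category.id_comp] at this
    exact this.eq
  have h := congrArg (lift p q ≫ ·) huniv
  show _ = _
  simpa only [MonObj.comp_mul, lift_fst_assoc, lift_snd_assoc] using h

section Points

open Groth.Agent.H1.Classical Groth.Agent.H1.Classical.Torus
open Groth.Agent.Lib.RedPts.Points Scheme' MaxTorusScheme MaxTorusApply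

attribute [local instance] baseAlgebra

/-- On points: a group all of whose elements act trivially on a maximal torus modulo the centre, is solvable. -/
theorem isSolvable_of_points {A : Type u} [CommRing A] [HopfAlgebra k A] [Algebra.FiniteType k A] [IsDomain A]
    {T₀ : Subgroup (H1.Classical.HopfPts.Pt k A)}
    (hMax : H1.Classical.Torus.MaxTorus.IsMax (H1.Classical.HopfPts.D k A) T₀)
    (hc : ∀ n, (∀ t ∈ T₀, n * t * n⁻¹ ∈ T₀) → ∀ t ∈ T₀, ∀ v, Commute (n * t * n⁻¹ * t⁻¹) v) :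
    Group.IsSolvable (H1.Classical.HopfPts.Pt k A) := by
  obtain ⟨W, _, σ, hσ⟩ := GenRep.exists_gen (HopfPts.D k A) hasMul_pts pts_ext
  obtain ⟨B, hB, hTB⟩ := CartanOpen.exists_bor_containing hMax.tor
  have hcomm : ∀ n, (∀ t ∈ T₀, n * t * n⁻¹ ∈ T₀) → ∀ t ∈ T₀, n * t = t * n := by
    intro n hn
    have hnp : ∀ i : ℕ, ∀ t ∈ T₀, n ^ i * t * (n ^ i)⁻¹ ∈ T₀ ∧
        n ^ i * t * (n ^ i)⁻¹ = (n * t * n⁻¹ * t⁻¹) ^ i * t := fun i t ht => by
      induction i with
      | zero => simpa using ht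
      | succ i ih =>
        have e : n ^ (i + 1) * t * (n ^ (i + 1))⁻¹ = n * (n ^ i * t * (n ^ i)⁻¹) * n⁻¹ := by
          rw [pow_succ']; group
        rw [e]
        refine ⟨hn _ ih.1, ?_⟩
        rw [ih.2]
        have hd := ((hc n hn t ht n).pow_left i).eq
        calc n * ((n * t * n⁻¹ * t⁻¹) ^ i * t) * n⁻¹
            = (n * (n * t * n⁻¹ * t⁻¹) ^ i) * t * n⁻¹ := by group
          _ = (n * t * n⁻¹ * t⁻¹) ^ i * (n * t * n⁻¹ * t⁻¹) * t := by rw [← hd]; group
          _ = (n * t * n⁻¹ * t⁻¹) ^ (i + 1) * t := by rw [pow_succ]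
    obtain ⟨i, j, hij, he⟩ := Set.Finite.exists_lt_map_eq_of_forall_mem
      (f := fun i : ℕ => (fun t : T₀ => n ^ i * (t : H1.Classical.HopfPts.Pt k A) * (n ^ i)⁻¹))
      (fun i => by exact ⟨n ^ i, fun t ht => (hnp i t ht).1, rfl⟩)
      (H1.Classical.Torus.WeylFinite.finite_actions hσ hMax.tor)
    intro t ht
    obtain ⟨s, hs, rfl⟩ := H1.Classical.SemisimpleComm.exists_root hσ hMax.tor
      (show j - i ≠ 0 by omega) t ht
    have h1 : n ^ i * s * (n ^ i)⁻¹ = n ^ j * s * (n ^ j)⁻¹ := congrFun he ⟨s, hs⟩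
    rw [(hnp i s hs).2, (hnp j s hs).2, mul_left_inj, show j = i + (j - i) by omega, pow_add,
      left_eq_mul] at h1
    set d := n * s * n⁻¹ * s⁻¹ with hd
    have e2 : n * s ^ (j - i) * n⁻¹ = d ^ (j - i) * s ^ (j - i) := by
      rw [← conj_pow, show n * s * n⁻¹ = d * s by rw [hd]; group, (hc n hn s hs s).mul_pow]
    rw [h1, _root_.one_mul, mul_inv_eq_iff_eq_mul] at e2
    exact e2
  have hall : ∀ s ∈ (T₀ : Set _), ∀ g, g⁻¹ * s * g ∈ B :=
    CharRad.mem_borel_of_comm_normalizer hasMul_pts hσ hB hMax hTB hMax.tor.irr T₀.one_mem (fun s hs => hs)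
      fun s hs n hn => hcomm n hn s hs
  haveI := hB.solv
  have htop : ∀ z, z ∈ B := fun z => by
    obtain ⟨x, hx⟩ := Torus.Union.exists_conj_mem (HopfPts.D k A) hσ HopfPts.sirr_univ hasMul_pts hB.cl hB.irr hB.abs hB.comp z
    have hTB' : T₀ ≤ B.map (MulAut.conj x).toMonoidHom := fun s hs =>
      (H1.Classical.Image.mem_map_conj x B s).mpr (hall s hs x)
    obtain ⟨m, hmT, hmB⟩ := Torus.WeylFinite.exists_normalizer hasMul_pts hσ (B := B.map (MulAut.conj x).toMonoidHom) hB hMax hTB' hTB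
        (g := x⁻¹) (SetLike.ext fun y => by
          rw [Image.mem_map_conj, Image.mem_map_conj]
          simp only [_root_.inv_inv]; rw [show x⁻¹ * (x * y * x⁻¹) * x = y by group])
    have hm : m ∈ B := Torus.MaxTorus.centralizer_le HopfPts.sirr_univ hasMul_pts hσ hB hMax hTB
        (Subgroup.mem_centralizer_iff.mpr fun t ht =>
          (hcomm m (fun t ht => hmT.le ⟨t, ht, rfl⟩) t ht).symm)
    have h1 : m * z * m⁻¹ ∈ B := hmB.le ⟨z, (H1.Classical.Image.mem_map_conj x B z).mpr hx, rfl⟩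
    have := B.mul_mem (B.mul_mem (B.inv_mem hm) h1) hm
    rwa [show m⁻¹ * (m * z * m⁻¹) * m = z by group] at this
  exact Group.isSolvable_of_surjective (f := B.subtype) fun z => ⟨⟨z, htop z⟩, rfl⟩

end Points

/-- The preimage of a torus of a quotient by a central connected kernel is commutative. -/
theorem commute_preimage_torus {C Q M P : Over (Spec (CommRingCat.of k))} [GrpObj C] [GrpObj Q] [GrpObj M]
    [GrpObj P] [Smooth C.hom] [Smooth P.hom] [QuasiCompact P.hom] (hM : Red.IsTorus M)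
    (ρ : C ⟶ Q) [IsMonHom ρ] (iM : M ⟶ Q) [IsMonHom iM] (b : P ⟶ C) [IsMonHom b] (π : P ⟶ M) [IsMonHom π]
    [Flat π.left] [Surjective π.left] (hsq : π ≫ iM = b ≫ ρ)
    (hcent : ∀ (X : Over (Spec (CommRingCat.of k))) (x y : X ⟶ C), x ≫ ρ = 1 → Commute x y)
    (X : Over (Spec (CommRingCat.of k))) (p q : X ⟶ P) : Commute (p ≫ b) (q ≫ b) := by
  obtain ⟨r, ⟨eM⟩⟩ := TorusIn.exists_split M hM
  let E := Tori.BaseChange.overIso eM
  haveI : IsMonHom E.hom := inferInstanceAs (IsMonHom (Tori.BaseChange.overIso eM).hom)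
  haveI : IsIso E.hom.left := ((Over.forget _).mapIso E).isIso_hom
  haveI : Flat (π ≫ E.hom).left := by rw [Over.comp_left]; infer_instance
  haveI : Surjective (π ≫ E.hom).left := by rw [Over.comp_left]; infer_instance
  have hρb : ∀ (Z : Over (Spec (CommRingCat.of k))) (z : Z ⟶ P), (z ≫ b) ≫ ρ = (z ≫ π) ≫ iM := fun Z z => by
    rw [Category.assoc, Category.assoc, hsq]
  refine commute_preimage b (π ≫ E.hom) (GrpQ.isCover_hom _) (fun Z z w hz => hcent Z _ w ?_)
    (fun Z z z' w => hcent Z _ w ?_) X p q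
  · have h1 : z ≫ π = 1 := by
      rw [← cancel_mono E.hom, MonObj.one_comp, Category.assoc, hz]
    rw [hρb, h1, MonObj.one_comp]
  · simp only [MonObj.mul_comp, GrpObj.inv_comp, hρb]
    rw [mul_inv_eq_one, mul_inv_eq_iff_eq_mul, ← MonObj.mul_comp (z ≫ π) (z' ≫ π) iM,
      ← MonObj.mul_comp (z' ≫ π) (z ≫ π) iM, Tori.Comm.mul_comm_of_isTorus hM]

/-- Conjugation by a lift of an element normalising a torus acts on it through the central torus. -/
theorem exists_fac_commutator {C Q M T P : Over (Spec (CommRingCat.of k))} [GrpObj C] [GrpObj Q] [GrpObj M]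
    [GrpObj T] [GrpObj P] [Smooth C.hom] [Smooth P.hom] [QuasiCompact P.hom] (hM : Red.IsTorus M)
    (ρ : C ⟶ Q) [IsMonHom ρ] (iM : M ⟶ Q) [IsMonHom iM] [IsClosedImmersion iM.left]
    (b : P ⟶ C) [IsMonHom b] (π : P ⟶ M) [IsMonHom π] [Flat π.left] [Surjective π.left]
    (hsq : π ≫ iM = b ≫ ρ)
    (huniv : ∀ (X : Over (Spec (CommRingCat.of k))) (x : X ⟶ C), (∃ y, y ≫ iM = x ≫ ρ) → ∃ z, z ≫ b = x)
    (hcent : ∀ (X : Over (Spec (CommRingCat.of k))) (x y : X ⟶ C), x ≫ ρ = 1 → Commute x y)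
    (t : T ⟶ C) (hT : Red.IsMaximalTorus t)
    (hc : ∀ (X : Over (Spec (CommRingCat.of k))) (s : X ⟶ T) (g : X ⟶ C), Commute (s ≫ t) g)
    (w : pt ⟶ C)
    (hw : ∀ y : pt ⟶ M, ∃ y' : pt ⟶ M, y' ≫ iM = (w ≫ ρ) * (y ≫ iM) * (w ≫ ρ)⁻¹)
    (y : pt ⟶ M) : ∃ l : pt ⟶ T, (l ≫ t) ≫ ρ = (w ≫ ρ) * (y ≫ iM) * (w ≫ ρ)⁻¹ * (y ≫ iM)⁻¹ := by
  haveI := hT.1
  haveI := hT.2.1
  haveI := Tori.Basic.smooth_of_isTorus hM
  haveI : LocallyOfFiniteType M.hom := inferInstance
  haveI : IsReduced P.left := GrpSch.isReduced_of_smooth_field P.hom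
  have hρb : ∀ (Z : Over (Spec (CommRingCat.of k))) (z : Z ⟶ P), (z ≫ b) ≫ ρ = (z ≫ π) ≫ iM := fun Z z => by
    rw [Category.assoc, Category.assoc, hsq]
  have hPcomm := commute_preimage_torus hM ρ iM b π hsq hcent
  have hπc : GrpQ.IsCover π := GrpQ.isCover_hom π
  let cw : P ⟶ C := (toUnit P ≫ w) * b * (toUnit P ≫ w)⁻¹
  have key : ∀ (X : Over (Spec (CommRingCat.of k))) (p : X ⟶ P),
      p ≫ cw = (toUnit X ≫ w) * (p ≫ b) * (toUnit X ≫ w)⁻¹ := fun X p => by
    simp only [cw, MonObj.comp_mul, GrpObj.comp_inv, ← Category.assoc, toUnit_unique (p ≫ toUnit _) (toUnit X)]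
  obtain ⟨a₀, ha₀⟩ := exists_fac_of_points iM (cw ≫ ρ) fun p => by
    obtain ⟨y', hy'⟩ := hw (p ≫ π)
    refine ⟨y', ?_⟩
    rw [hy', ← Category.assoc, key, toUnit_unique (toUnit _) (𝟙 _), Category.id_comp, MonObj.mul_comp,
      MonObj.mul_comp, GrpObj.inv_comp, hρb]
  obtain ⟨a, ha⟩ := huniv P _ ⟨a₀, ha₀⟩
  let f : P ⟶ C := cw * b⁻¹
  have hf : ∀ (X : Over (Spec (CommRingCat.of k))) (p : X ⟶ P),
      p ≫ f = (toUnit X ≫ w) * (p ≫ b) * (toUnit X ≫ w)⁻¹ * (p ≫ b)⁻¹ := fun X p => by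
    simp only [f, MonObj.comp_mul, GrpObj.comp_inv, key]
  haveI : IsMonHom f := HomDS.isMonHom_of_points f fun X p q => by
    have h1 := hPcomm X p (q ≫ a)
    have h2 := hPcomm X p q
    rw [Category.assoc, ha, key] at h1
    rw [hf, hf, hf, MonObj.mul_comp p q b]
    generalize p ≫ b = P₁ at *
    generalize q ≫ b = P₂ at *
    generalize toUnit X ≫ w = W at *
    have h3 : Commute (W * P₂ * W⁻¹ * P₂⁻¹) P₁⁻¹ := ((h1.symm.mul_left h2.symm.inv_left)).inv_right
    calc W * (P₁ * P₂) * W⁻¹ * (P₁ * P₂)⁻¹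
        = W * P₁ * W⁻¹ * ((W * P₂ * W⁻¹ * P₂⁻¹) * P₁⁻¹) := by group
      _ = W * P₁ * W⁻¹ * P₁⁻¹ * (W * P₂ * W⁻¹ * P₂⁻¹) := by rw [h3.eq]; group
  obtain ⟨fb, hfb⟩ := GrpQ.exists_desc hπc f fun Z u v huv => by
    have hn' : (u⁻¹ * v) ≫ π = 1 := by rw [MonObj.mul_comp u⁻¹ v π, GrpObj.inv_comp u π, huv, inv_mul_cancel]
    have h1 : (u⁻¹ * v) ≫ f = 1 := by
      rw [hf, mul_inv_eq_one, mul_inv_eq_iff_eq_mul]
      exact (hcent Z _ _ (by rw [hρb, hn', MonObj.one_comp])).eq.symm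
    rwa [MonObj.mul_comp, GrpObj.inv_comp, inv_mul_eq_one] at h1
  haveI : IsMonHom (π ≫ fb) := by rw [hfb]; infer_instance
  haveI : IsMonHom fb := GrpQ.isMonHom_of_cover hπc fb
  obtain ⟨l, hl⟩ := TorusIn.exists_fac_field t fb hT.2.2.1 hM
    (fun T' _ j _ _ g hT' hg => maximal_of_isMaximalTorus hT j g hT' hg) fun X x z => (hc X x _).eq
  obtain ⟨p, rfl⟩ := GrpSch.exists_lift_point π y
  refine ⟨(p ≫ π) ≫ l, ?_⟩
  rw [Category.assoc (p ≫ π), hl, Category.assoc p, hfb, hf, toUnit_unique (toUnit _) (𝟙 _), Category.id_comp]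
  simp only [MonObj.mul_comp, GrpObj.inv_comp, hρb]

/-- A smooth connected group with central maximal torus is solvable. -/
theorem isSolvableGrp_of_central_maxTorus {C T : Over (Spec (CommRingCat.of k))} [GrpObj C] [GrpObj T]
    [Smooth C.hom] [QuasiCompact C.hom] [ConnectedSpace C.left] (t : T ⟶ C) (hT : Red.IsMaximalTorus t)
    (hc : ∀ (X : Over (Spec (CommRingCat.of k))) (s : X ⟶ T) (g : X ⟶ C), Commute (s ≫ t) g) :
    Red.IsSolvableGrp C := by
  obtain ⟨Q, hQg, ρ, N, hNg, i, hρ, hQa, hQs, hQc, hsur, hflat, hlfp, hi, hicl, hNs, hNc, hK, hcent⟩ :=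
    exists_affHull C
  haveI := hρ
  haveI := hsur
  haveI := hflat
  haveI := hlfp
  haveI := hT.1
  haveI := hT.2.1
  haveI := GrpSch.isSeparated_of_field Q
  obtain ⟨M, hMg, iM, hM⟩ := H1.Classical.MaxTorusExists.exists_maxTorus Q
  obtain ⟨A, _, _, _, _, e, he⟩ := H1.Classical.MaxTorusApply.exists_GA Q
  haveI := he
  haveI := hM.1
  haveI := hM.2.1
  have hM' := H1.Classical.MaxTorusApply.isMaxTorus_comp e hM
  haveI := H1.Classical.MaxTorusScheme.locallyOfFiniteType (k := k) (A := A)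
  obtain ⟨hMcl, hMsm, -, -⟩ := H1.Classical.TorusPts.torus_props (iM ≫ e.hom) hM'.2.2.1
  haveI := hMcl
  haveI := hMsm
  haveI : IsClosedImmersion iM.left := by
    haveI : IsIso e.inv.left := ((Over.forget _).mapIso e).isIso_inv
    rw [show iM = (iM ≫ e.hom) ≫ e.inv by simp]
    simp only [Over.comp_left]
    infer_instance
  obtain ⟨P, hPg, b, π, hb, hπ, hbcl, hsq, hpb, huniv⟩ := BorelHull.exists_preimage ρ iM
  haveI := hb
  haveI := hπ
  haveI : QuasiCompact ρ.left := GrpQ.quasiCompact_left ρ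
  haveI : Smooth ρ.left := BorelHull.smooth_of_kernel ρ i hK
  haveI : Smooth π.left := MorphismProperty.of_isPullback hpb ‹Smooth ρ.left›
  haveI : Surjective π.left := MorphismProperty.of_isPullback hpb ‹Surjective ρ.left›
  haveI : QuasiCompact π.left := MorphismProperty.of_isPullback hpb ‹QuasiCompact ρ.left›
  haveI : IsAffine M.left := isAffine_of_isAffineHom iM.left
  haveI : QuasiCompact P.hom := by rw [← Over.w π]; infer_instance
  haveI : Smooth P.hom := by rw [← Over.w π]; infer_instance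
  let Φ : H1.Classical.HopfPts.Pt k A →* (pt ⟶ Q) :=
    (H1.Classical.Scheme'.postcomp e.inv _).comp (H1.Classical.Scheme'.ptHom _)
  have hΦ : ∀ χ, Φ χ = H1.Classical.Scheme'.ptHom _ χ ≫ e.inv := fun χ => rfl
  have hΦs : Function.Surjective Φ := fun y => by
    obtain ⟨χ, hχ⟩ := H1.Classical.Scheme'.ptHom_surjective (y ≫ e.hom)
    exact ⟨χ, by rw [hΦ, hχ, Category.assoc, e.hom_inv_id, Category.comp_id]⟩
  have hΦi : Function.Injective Φ := fun a c h =>
    H1.Classical.Scheme'.ptHom_injective ((cancel_mono e.inv).mp h)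
  have hmem : ∀ χ, χ ∈ H1.Classical.Scheme'.ptsOf (iM ≫ e.hom) ↔ ∃ y, y ≫ iM = Φ χ := fun χ => by
    constructor
    · rintro ⟨x, hx⟩
      exact ⟨x, by rw [hΦ, ← show x ≫ iM ≫ e.hom = H1.Classical.Scheme'.ptHom _ χ from hx]; simp⟩
    · rintro ⟨y, hy⟩
      refine ⟨y, ?_⟩
      show y ≫ iM ≫ e.hom = H1.Classical.Scheme'.ptHom pt χ
      rw [← Category.assoc, hy, hΦ, Category.assoc, e.inv_hom_id, Category.comp_id]
  haveI : Group.IsSolvable (H1.Classical.HopfPts.Pt k A) := by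
    refine isSolvable_of_points (H1.Classical.MaxTorusScheme.isMax_ptsOf_torus (iM ≫ e.hom) hM') fun n hn s hs v => ?_
    obtain ⟨w, hw⟩ := GrpSch.exists_lift_point ρ (Φ n)
    obtain ⟨y, hy⟩ := (hmem s).mp hs
    obtain ⟨l, hl⟩ := exists_fac_commutator hM.2.2.1 ρ iM b π hsq huniv hcent t hT hc w (fun z => by
      obtain ⟨χ, hχ⟩ := hΦs (z ≫ iM)
      obtain ⟨z', hz'⟩ := (hmem _).mp (hn χ ((hmem χ).mpr ⟨z, hχ.symm⟩))
      exact ⟨z', by rw [hz', hw, ← hχ, map_mul, map_mul, map_inv]⟩) y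
    obtain ⟨g, hg⟩ := GrpSch.exists_lift_point ρ (Φ v)
    have h3 := congrArg (· ≫ ρ) (hc pt l g).eq
    simp only [MonObj.mul_comp, hl, hw, hy, hg, ← map_inv, ← map_mul] at h3
    exact hΦi h3
  haveI : Group.IsSolvable (pt ⟶ Q) := Group.isSolvable_of_surjective hΦs
  exact BorelHull.isSolvableGrp_of_central (𝟙 C) ρ
    (fun X x y hx => by simpa only [Category.comp_id] using hcent X x y hx) (S3276.isSolvableGrp_of_points Q)

end Groth.Agent.Lib.SmWeil.CartanSolvable
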