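import Groth.Agent.Lib.SmWeil.MonoLocus
import Groth.Agent.Lib.FreeRes.Transporter
import Groth.Agent.Lib.FreeRes.SubGrp
import Groth.Agent.Lib.GrpSch.ConnFibre
import Groth.Agent.Lib.AlgSpMor.Cancel

/-!
# Closed centralizers, normalizers and transporters for connected smooth subgroups
-/

set_option autoImplicit false
set_option linter.style.haveILetI false

universe u

open CategoryTheory CategoryTheory.Limits AlgebraicGeometry MonoidalCategory CartesianMonoidalCategory
open CategoryTheory.MonObj CategoryTheory.GrpObj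
open Groth.Agent.Lib Groth.Agent.Lib.FreeRes

namespace Groth.Agent.Lib.SmWeil

variable {S : Scheme.{u}} {W G K X : Over S}

theorem geometricallyConnected_grp (H : Over S) [GrpObj H]
    (hconn : ∀ s : S, ConnectedSpace ↥(Limits.pullback H.hom (S.fromSpecResidueField s))) :
    GeometricallyConnected H.hom :=
  GrpSch.geometricallyConnected_of_section H.hom η[H].left (Over.w η[H]) hconn

/-- The preimage of a monomorphism. -/
theorem exists_preimage_mono (u : W ⟶ G) (j : K ⟶ G) [Mono j] :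
    ∃ (Y : Over S) (y : Y ⟶ W), Mono y ∧
      (LocallyOfFinitePresentation j.left → LocallyOfFinitePresentation y.left) ∧
      (IsClosedImmersion j.left → IsClosedImmersion y.left) ∧
      ∀ {T : Over S} (w : T ⟶ W), (∃ z, z ≫ y = w) ↔ ∃ κ, κ ≫ j = w ≫ u := by
  let Y : Over S := Over.mk (pullback.fst u.left j.left ≫ W.hom)
  let y : Y ⟶ W := Over.homMk (pullback.fst u.left j.left) rfl
  haveI : Mono j.left := inferInstance
  haveI : Mono y.left := inferInstanceAs (Mono (pullback.fst u.left j.left))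
  refine ⟨Y, y, GrpQ.mono_of_left y, fun h => ?_, fun h => ?_, fun {T} w => ⟨?_, ?_⟩⟩
  · exact MorphismProperty.of_isPullback (IsPullback.of_hasPullback u.left j.left).flip h
  · exact MorphismProperty.of_isPullback (IsPullback.of_hasPullback u.left j.left).flip h
  · rintro ⟨z, rfl⟩
    refine ⟨z ≫ Over.homMk (pullback.snd u.left j.left) ?_, ?_⟩
    · show _ ≫ K.hom = pullback.fst u.left j.left ≫ W.hom
      rw [← Over.w j, ← Over.w u, pullback.condition_assoc]
    · rw [Category.assoc, Category.assoc]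
      congr 1
      exact Over.OverMorphism.ext pullback.condition.symm
  · rintro ⟨κ, hκ⟩
    exact ⟨Over.homMk (pullback.lift w.left κ.left congr($(hκ.symm).left))
      (by show _ ≫ pullback.fst u.left j.left ≫ W.hom = _; rw [pullback.lift_fst_assoc, Over.w w]),
      Over.OverMorphism.ext (pullback.lift_fst _ _ _)⟩

/-- The diagonal of an object locally of finite type. -/
theorem diag_props [LocallyOfFiniteType G.hom] :
    Mono (lift (𝟙 G) (𝟙 G)) ∧ LocallyOfFinitePresentation (lift (𝟙 G) (𝟙 G)).left := by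
  refine ⟨⟨fun a b h => ?_⟩, ?_⟩
  · simpa using congrArg (· ≫ fst G G) h
  · haveI : LocallyOfFiniteType (fst G G).left :=
      MorphismProperty.of_isPullback (IsPullback.of_hasPullback G.hom G.hom).flip
        (inferInstanceAs (LocallyOfFiniteType G.hom))
    refine AlgSpMor.Cancel.locallyOfFinitePresentation_of_comp (g := (fst G G).left) ?_ inferInstance
    rw [← Over.comp_left, lift_fst, Over.id_left]
    infer_instance

theorem lfp_left (i : X ⟶ G) [LocallyOfFinitePresentation X.hom] [LocallyOfFiniteType G.hom] :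
    LocallyOfFinitePresentation i.left :=
  AlgSpMor.Cancel.locallyOfFinitePresentation_of_comp (g := G.hom) (by rw [Over.w]; infer_instance)
    inferInstance

variable [GrpObj G] [GrpObj X] [Smooth X.hom] [GeometricallyConnected X.hom] [QuasiSeparated X.hom]

/-- The transporter of a connected smooth subgroup into a subgroup. -/
theorem exists_transporter_mono [GrpObj K] (i : X ⟶ G) [IsMonHom i] (j : K ⟶ G) [IsMonHom j] [Mono j]
    [LocallyOfFinitePresentation j.left] :
    ∃ (C : Over S) (c : C ⟶ G), IsClosedImmersion c.left ∧ LocallyOfFinitePresentation c.left ∧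
      ∀ {T : Over S} (g : T ⟶ G), (∃ z, z ≫ c = g) ↔
        ∀ (T' : Over S) (x : T' ⟶ T) (h : T' ⟶ X),
          ∃ κ : T' ⟶ K, (x ≫ g) * (h ≫ i) * (x ≫ g)⁻¹ = κ ≫ j := by
  let u : G ⊗ X ⟶ G := fst G X * (snd G X ≫ i) * (fst G X)⁻¹
  obtain ⟨Y, y, hym, hyfp, -, hy⟩ := exists_preimage_mono u j
  haveI := hyfp inferInstance
  have hu : ∀ {T : Over S} (g : T ⟶ G) (a : T ⟶ X), lift g a ≫ u = g * (a ≫ i) * g⁻¹ := fun g a => by
    simp only [u, MonObj.comp_mul, GrpObj.comp_inv, lift_fst, lift_snd_assoc]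
  obtain ⟨C, c, hc, hcfp, hC⟩ := exists_closed_factor_mono y
    ((hy _).2 ⟨1, by rw [hu, MonObj.one_comp, MonObj.one_comp, _root_.mul_one, mul_inv_cancel]⟩)
    (fun g a b ha hb => by
      rw [hy, hu] at ha hb ⊢
      obtain ⟨κ₁, h₁⟩ := ha
      obtain ⟨κ₂, h₂⟩ := hb
      exact ⟨κ₁ * κ₂, by rw [MonObj.mul_comp, h₁, h₂, MonObj.mul_comp]; group⟩)
  refine ⟨C, c, hc, hcfp, fun g => ?_⟩
  rw [hC, hy, forall_pair_factor_iff]
  simp only [hu]

/-- The centralizer of a connected smooth subgroup. -/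
theorem exists_centralizer_mono [LocallyOfFiniteType G.hom] (i : X ⟶ G) [IsMonHom i] :
    ∃ (C : Over S) (c : C ⟶ G), IsClosedImmersion c.left ∧ LocallyOfFinitePresentation c.left ∧
      ∀ {T : Over S} (g : T ⟶ G), (∃ z, z ≫ c = g) ↔
        ∀ (T' : Over S) (x : T' ⟶ T) (h : T' ⟶ X), (x ≫ g) * (h ≫ i) = (h ≫ i) * (x ≫ g) := by
  obtain ⟨hm, hfp⟩ := diag_props (G := G)
  let u : G ⊗ X ⟶ G ⊗ G := lift (fst G X * (snd G X ≫ i)) ((snd G X ≫ i) * fst G X)
  obtain ⟨Y, y, hym, hyfp, -, hy⟩ := exists_preimage_mono u (lift (𝟙 G) (𝟙 G))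
  haveI := hyfp hfp
  have hu : ∀ {T : Over S} (g : T ⟶ G) (a : T ⟶ X),
      (∃ z, z ≫ y = lift g a) ↔ g * (a ≫ i) = (a ≫ i) * g := fun g a => by
    rw [hy]
    constructor
    · rintro ⟨κ, hκ⟩
      have h1 := congrArg (· ≫ fst G G) hκ
      have h2 := congrArg (· ≫ snd G G) hκ
      simp only [u, comp_lift, lift_fst, lift_snd, Category.comp_id, MonObj.comp_mul, lift_snd_assoc] at h1 h2
      exact h1.symm.trans h2
    · intro h
      refine ⟨g * (a ≫ i), ?_⟩
      apply CartesianMonoidalCategory.hom_ext <;>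
        simp only [u, comp_lift, lift_fst, lift_snd, Category.comp_id, MonObj.comp_mul, lift_snd_assoc]
      exact h
  obtain ⟨C, c, hc, hcfp, hC⟩ := exists_closed_factor_mono y
    ((hu _ _).2 (by rw [MonObj.one_comp, _root_.mul_one, _root_.one_mul]))
    (fun g a b ha hb => by
      rw [hu] at ha hb ⊢
      rw [MonObj.mul_comp, ← _root_.mul_assoc, ha, _root_.mul_assoc, hb, _root_.mul_assoc])
  refine ⟨C, c, hc, hcfp, fun {T} g => ?_⟩
  rw [hC]
  constructor
  · rintro ⟨l, hl⟩ T' x h
    exact (hu (x ≫ g) h).1 ⟨lift x h ≫ l, by rw [Category.assoc, hl, lift_whiskerRight]⟩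
  · intro h
    obtain ⟨l, hl⟩ := (hu (fst T X ≫ g) (snd T X)).2 (h _ (fst T X) (snd T X))
    exact ⟨l, hl.trans (by apply CartesianMonoidalCategory.hom_ext <;> simp)⟩

end Groth.Agent.Lib.SmWeil
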