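import Groth.Agent.Lib.GrpQ.AffKer
import Groth.Agent.Lib.SmWeil.MonoApps
import Groth.Agent.Lib.GrpQ.AntiAffSmooth
import Groth.Agent.Lib.GrpQ.KerRho
import Groth.Agent.Lib.GrpSch.SmoothReduced
import Groth.Agent.Lib.GrpSch.Translate
import Groth.Agent.Lib.FreeRes.SubGrp
import Groth.Agent.H1.Classical.Smooth
import Groth.Agent.H56.GeomDescent

/-!
# The affine quotient of a smooth connected algebraic group by a central connected subgroup
-/

set_option autoImplicit false
set_option linter.style.haveILetI false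

universe u

open CategoryTheory CategoryTheory.Limits AlgebraicGeometry MonoidalCategory CartesianMonoidalCategory
open CategoryTheory.MonObj CategoryTheory.GrpObj
open Groth.Agent.Lib

namespace Groth.Agent.Lib.SmWeil

variable {k : Type u} [Field k] [IsAlgClosed k]

/-- A homomorphism onto a connected group with connected kernel has connected source. -/
theorem connectedSpace_of_kernel {H D N : Over (Spec (CommRingCat.of k))} [GrpObj H] [GrpObj D] [GrpObj N]
    [LocallyOfFiniteType H.hom] [QuasiCompact H.hom] [LocallyOfFiniteType D.hom] (f : H ⟶ D) [IsMonHom f]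
    [Flat f.left] [LocallyOfFinitePresentation f.left] [Surjective f.left] (i : N ⟶ H)
    (hi : ∀ x : 𝟙_ (Over (Spec (CommRingCat.of k))) ⟶ H, x ≫ f = 1 → ∃ n, n ≫ i = x)
    [ConnectedSpace N.left] [ConnectedSpace D.left] : ConnectedSpace H.left := by
  haveI : JacobsonSpace D.left := LocallyOfFiniteType.jacobsonSpace D.hom
  haveI : Nonempty H.left := ⟨η[H].left (IsLocalRing.closedPoint k)⟩
  haveI : PreconnectedSpace H.left := by
    refine preconnectedSpace_iff_clopen.2 fun U hU => ?_
    by_contra hne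
    push Not at hne
    obtain ⟨h0, h1⟩ := hne
    have hopen := f.left.isOpenMap
    obtain ⟨d, -, hd⟩ := (isPreconnected_univ (α := D.left)) (f.left '' U) (f.left '' Uᶜ)
      (hopen _ hU.2) (hopen _ hU.1.isOpen_compl)
      (fun d _ => by
        obtain ⟨x, rfl⟩ := f.left.surjective d
        by_cases hx : x ∈ U
        · exact Or.inl ⟨x, hx, rfl⟩
        · exact Or.inr ⟨x, hx, rfl⟩)
      (by simpa using h0.image f.left)
      (by simpa using (Set.nonempty_compl.2 h1).image f.left)
    obtain ⟨y, hy, hyc⟩ := nonempty_inter_closedPoints ⟨d, hd⟩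
      ((hopen _ hU.2).inter (hopen _ hU.1.isOpen_compl)).isLocallyClosed
    have hcl : IsClosed (f.left ⁻¹' {y}) := hyc.preimage f.left.continuous
    obtain ⟨x, hx⟩ := GrpSch.exists_point_mem (W := f.left ⁻¹' {y} ∩ U) (hcl.inter hU.1)
      (by obtain ⟨a, ha, e⟩ := hy.1; exact ⟨a, e, ha⟩)
    obtain ⟨x', hx'⟩ := GrpSch.exists_point_mem (W := f.left ⁻¹' {y} ∩ Uᶜ) (hcl.inter hU.2.isClosed_compl)
      (by obtain ⟨a, ha, e⟩ := hy.2; exact ⟨a, e, ha⟩)
    let o : ↥(𝟙_ (Over (Spec (CommRingCat.of k)))).left := IsLocalRing.closedPoint k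
    have exf : x ≫ f = x' ≫ f :=
      Over.OverMorphism.ext (ext_of_apply_closedPoint_eq D.hom (Over.w _) (Over.w _)
        ((hx ⟨o, rfl⟩).1.trans (hx' ⟨o, rfl⟩).1.symm))
    obtain ⟨n, hn⟩ := hi (x⁻¹ * x') (by rw [MonObj.mul_comp, GrpObj.inv_comp, exf, inv_mul_cancel])
    let t : N ⟶ H := (toUnit N ≫ x) * i
    have ht : ∀ m : 𝟙_ (Over (Spec (CommRingCat.of k))) ⟶ N, m ≫ t = x * (m ≫ i) := fun m => by
      rw [MonObj.comp_mul, ← Category.assoc, toUnit_unique (m ≫ toUnit N) (𝟙 _), Category.id_comp]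
    obtain ⟨n₀, hn₀⟩ := hi 1 (by rw [MonObj.one_comp])
    have e₀ : n₀ ≫ t = x := by rw [ht, hn₀, _root_.mul_one]
    have e₁ : n ≫ t = x' := by rw [ht, hn, mul_inv_cancel_left]
    have hsub := (isPreconnected_range t.left.continuous).subset_isClopen hU
      ⟨x.left o, ⟨n₀.left o, by rw [← Scheme.Hom.comp_apply, ← Over.comp_left, e₀]⟩, (hx ⟨o, rfl⟩).2⟩
    exact (hx' ⟨o, rfl⟩).2 (hsub ⟨n.left o, by rw [← Scheme.Hom.comp_apply, ← Over.comp_left, e₁]⟩)
  exact { toNonempty := inferInstance }

variable (G : Over (Spec (CommRingCat.of k))) [GrpObj G] [Smooth G.hom] [QuasiCompact G.hom]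
  [ConnectedSpace G.left]

/-- A smooth connected group is an extension of a smooth connected affine group by a central connected subgroup. -/
theorem exists_affHull :
    ∃ (Q : Over (Spec (CommRingCat.of k))) (_ : GrpObj Q) (ρ : G ⟶ Q) (N : Over (Spec (CommRingCat.of k)))
      (_ : GrpObj N) (i : N ⟶ G),
      IsMonHom ρ ∧ IsAffine Q.left ∧ Smooth Q.hom ∧ ConnectedSpace Q.left ∧ Surjective ρ.left ∧ Flat ρ.left ∧
      LocallyOfFinitePresentation ρ.left ∧
      IsMonHom i ∧ IsClosedImmersion i.left ∧ Smooth N.hom ∧ ConnectedSpace N.left ∧ AlgGrp.IsKernel i ρ ∧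
      ∀ (X : Over (Spec (CommRingCat.of k))) (x y : X ⟶ G), x ≫ ρ = 1 → Commute x y := by
  haveI := GrpSch.isSeparated_of_field G
  obtain ⟨hQ, hρ⟩ := GrpQ.Affinization.exists_grp G
  obtain ⟨hsur, hflat, hlft⟩ := GrpQ.Affinization.rho_faithfullyFlat G
  haveI := hρ
  haveI := hsur
  haveI := hflat
  haveI := hlft
  haveI : IsReduced G.left := GrpSch.isReduced_of_smooth_field G.hom
  haveI : IsReduced (GrpQ.Affinization.aff G).left :=
    H56.GeomDescent.isReduced_of_flat_surjective (GrpQ.Affinization.rho G).left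
  haveI : Smooth (GrpQ.Affinization.aff G).hom := by
    haveI : GrpObj (Over.mk (GrpQ.Affinization.aff G).hom) := inferInstanceAs (GrpObj (GrpQ.Affinization.aff G))
    exact H1.Classical.Smooth.smooth_of_isReduced (GrpQ.Affinization.aff G).hom
  haveI : ConnectedSpace (GrpQ.Affinization.aff G).left :=
    (GrpQ.Affinization.rho G).left.surjective.connectedSpace (GrpQ.Affinization.rho G).left.continuous
  haveI := GrpSch.isSeparated_of_field (GrpQ.Affinization.aff G)
  obtain ⟨N, hN, i, hi, hcl, hK, -⟩ := GrpQ.exists_kernel (GrpQ.Affinization.rho G)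
  haveI := hcl
  haveI : LocallyOfFiniteType N.hom := by rw [← Over.w i]; infer_instance
  haveI : QuasiCompact N.hom := by rw [← Over.w i]; infer_instance
  have hc := GrpQ.KerRho.isIso_appTop_kernel i hK
  have hbij : Function.Bijective ((Scheme.ΓSpecIso (CommRingCat.of k)).inv ≫ N.hom.appTop).hom :=
    ConcreteCategory.bijective_of_isIso _
  haveI : LocallyOfFinitePresentation (GrpQ.Affinization.rho G).left := by
    exact lfp_left (GrpQ.Affinization.rho G)
  refine ⟨GrpQ.Affinization.aff G, hQ, GrpQ.Affinization.rho G, N, hN, i, hρ, inferInstance, inferInstance,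
    inferInstance, hsur, hflat, inferInstance, hi, hcl, GrpQ.AntiAffSmooth.smooth N hbij,
    GrpQ.AntiAff.connectedSpace hbij, hK, fun X x y hx => ?_⟩
  have := GrpQ.AffKer.commute_of_killed (𝟙 G) x (show GrpQ.AffKer.Killed x from hx.trans (by
    rw [Hom.one_def, ← IsMonHom.one_hom (f := GrpQ.Affinization.rho G)])) y
  simp only [Category.comp_id] at this
  exact this

end Groth.Agent.Lib.SmWeil
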