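import Groth.Agent.Lib.SmWeil.MonoApps
import Groth.Agent.Lib.GrpSch.SmoothCrit
import Groth.Agent.Lib.MultAvg.Hom
import Groth.Agent.Lib.MultAvg.Points
import Groth.Agent.H87.GmFibre
import Groth.Agent.H87.TorusIn
import Groth.Agent.Lib.RedPts.BC

/-!
# Smooth centralizers and transporters of tori in smooth groups (not assumed affine)
-/

set_option autoImplicit false
set_option linter.style.haveILetI false

universe u

open CategoryTheory CategoryTheory.Limits AlgebraicGeometry MonoidalCategory CartesianMonoidalCategory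
open CategoryTheory.MonObj CategoryTheory.GrpObj
open Groth.Agent.Lib Groth.Agent.H87 Groth.Agent.H87.HomDS
open Groth.Agent.Lib.RedPts

namespace Groth.Agent.Lib.SmWeil

variable {S : Scheme.{u}}

theorem locSplit_of_isTorus {T : Over S} [GrpObj T] (hT : Red.IsTorus T) : MultAvg.LocSplit T := by
  obtain ⟨S', f, h1, h2, h3, h4⟩ := GmFibre.isMultTypeFT_of_isTorus hT
  exact ⟨S', f, h1, h2, h3, fun s' => by
    obtain ⟨U, hU, M, iM, -, he⟩ := h4 s'
    exact ⟨U, hU, M, iM, he⟩⟩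

theorem connectedSpace_fibre_of_isTorus {T : Over S} [GrpObj T] (hT : Red.IsTorus T) (s : S) :
    ConnectedSpace ↥(Limits.pullback T.hom (S.fromSpecResidueField s)) := by
  let k := S.residueField s
  let K := AlgebraicClosure k
  obtain ⟨r, ⟨e⟩⟩ := TorusIn.exists_split (Red.bc (Red.geomPt s) T) (Tori.Basic.isTorus_bc hT _)
  haveI := GmFibre.connectedSpace_ds K r
  let eo := Tori.BaseChange.overIso e
  haveI : IsIso eo.inv.left := inferInstanceAs (IsIso ((Over.forget _).map eo.inv))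
  haveI : ConnectedSpace ↥(Red.bc (Red.geomPt s) T).left :=
    eo.inv.left.homeomorph.surjective.connectedSpace eo.inv.left.homeomorph.continuous
  let ψ : Spec (CommRingCat.of K) ⟶ Spec k := Spec.map (CommRingCat.ofHom (algebraMap k K))
  haveI : Surjective ψ := ⟨fun x => ⟨IsLocalRing.closedPoint K,
    @Subsingleton.elim _ (inferInstanceAs (Subsingleton (PrimeSpectrum k))) _ _⟩⟩
  let q : Limits.pullback T.hom (Red.geomPt s) ⟶ Limits.pullback T.hom (S.fromSpecResidueField s) :=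
    pullback.lift (pullback.fst _ _) (pullback.snd _ _ ≫ ψ) (by
      rw [Category.assoc, pullback.condition]; rfl)
  have sq : IsPullback q (pullback.snd T.hom (Red.geomPt s)) (pullback.snd T.hom (S.fromSpecResidueField s)) ψ := by
    refine IsPullback.of_right ?_ (pullback.lift_snd _ _ _) (IsPullback.of_hasPullback T.hom (S.fromSpecResidueField s))
    rw [pullback.lift_fst]
    exact IsPullback.of_hasPullback T.hom (Red.geomPt s)
  haveI : Surjective q := MorphismProperty.of_isPullback sq.flip inferInstance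
  haveI : ConnectedSpace ↥(Limits.pullback T.hom (Red.geomPt s)) := ‹ConnectedSpace ↥(Red.bc (Red.geomPt s) T).left›
  exact q.surjective.connectedSpace q.continuous

theorem geometricallyConnected_of_isTorus {T : Over S} [GrpObj T] (hT : Red.IsTorus T) :
    GeometricallyConnected T.hom :=
  geometricallyConnected_grp T (connectedSpace_fibre_of_isTorus hT)

variable {G T T₁ T₂ : Over S} [GrpObj G] [GrpObj T] [GrpObj T₁] [GrpObj T₂]

/-- **The centralizer of a torus is a smooth closed subgroup.** -/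
theorem exists_centralizer_torus [Smooth G.hom] (hT : Red.IsTorus T) (i : T ⟶ G) [IsMonHom i] [Mono i] :
    ∃ (C : Over S) (_ : GrpObj C) (c : C ⟶ G),
      Red.IsCentralizerOf i c ∧ IsClosedImmersion c.left ∧ Smooth C.hom := by
  haveI := Tori.Basic.smooth_of_isTorus hT
  haveI := Tori.Basic.isAffineHom_of_isTorus hT
  haveI := geometricallyConnected_of_isTorus hT
  obtain ⟨C, c, hc, hfp, hC⟩ := exists_centralizer_mono i
  haveI : Mono c := GrpQ.mono_of_left c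
  obtain ⟨hG, hcG⟩ := FreeRes.exists_grpObj_of_mono c
    (fun T => (hC 1).2 fun T' x h => by simp)
    (fun {T} a b => (hC _).2 fun T' x h => by
      have ha : Commute (x ≫ a ≫ c) (h ≫ i) := (hC (a ≫ c)).1 ⟨a, rfl⟩ T' x h
      have hb : Commute (x ≫ b ≫ c) (h ≫ i) := (hC (b ≫ c)).1 ⟨b, rfl⟩ T' x h
      rw [MonObj.comp_mul]
      exact ha.mul_left hb)
    (fun {T} a => (hC _).2 fun T' x h => by
      have ha : Commute (x ≫ a ≫ c) (h ≫ i) := (hC (a ≫ c)).1 ⟨a, rfl⟩ T' x h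
      rw [GrpObj.comp_inv]
      exact ha.inv_left)
  refine ⟨C, hG, c, ⟨hcG, inferInstance, fun _ g => hC g⟩, hc, ?_⟩
  haveI : LocallyOfFinitePresentation C.hom := by rw [← Over.w c]; infer_instance
  refine GrpSch.smooth_of_liftings C.hom fun A J hJ t c₀ hc₀ => ?_
  let z₀ : test t (MultAvg.mkA J) ⟶ C := Over.homMk c₀ hc₀
  have h₀ : MultAvg.Rel i i (z₀ ≫ c) := fun Y p h => by
    rw [(hC (z₀ ≫ c)).1 ⟨z₀, rfl⟩ Y p h, mul_inv_cancel_right]
  obtain ⟨g, hg, hrel⟩ := MultAvg.exists_rel_lift (locSplit_of_isTorus hT) i i t J ⟨2, hJ⟩ (z₀ ≫ c) h₀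
  obtain ⟨z, hz⟩ := (hC g).2 fun Y p h => mul_inv_eq_iff_eq_mul.1 (hrel Y p h)
  refine ⟨z.left, by rw [Over.w z]; simp, ?_⟩
  rw [← cancel_mono c.left, Category.assoc, ← Over.comp_left, hz]
  exact congrArg CommaMorphism.left hg

/-- The strict transporter of one torus to another. -/
theorem exists_transporter_torus [Smooth G.hom] (h₁ : Red.IsTorus T₁) (h₂ : Red.IsTorus T₂)
    (i₁ : T₁ ⟶ G) [IsMonHom i₁] [Mono i₁] (i₂ : T₂ ⟶ G) [IsMonHom i₂] [Mono i₂] :
    ∃ (C : Over S) (c : C ⟶ G), IsClosedImmersion c.left ∧ Smooth C.hom ∧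
      ∀ {X : Over S} (g : X ⟶ G), (∃ z, z ≫ c = g) ↔
        ∀ (X' : Over S) (x : X' ⟶ X),
          (∀ a : X' ⟶ T₁, ∃ b : X' ⟶ T₂, (x ≫ g) * (a ≫ i₁) * (x ≫ g)⁻¹ = b ≫ i₂) ∧
          (∀ b : X' ⟶ T₂, ∃ a : X' ⟶ T₁, (x ≫ g)⁻¹ * (b ≫ i₂) * (x ≫ g) = a ≫ i₁) := by
  haveI := Tori.Basic.smooth_of_isTorus h₁
  haveI := Tori.Basic.smooth_of_isTorus h₂
  haveI := Tori.Basic.isAffineHom_of_isTorus h₁
  haveI := Tori.Basic.isAffineHom_of_isTorus h₂
  haveI := geometricallyConnected_of_isTorus h₁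
  haveI := geometricallyConnected_of_isTorus h₂
  haveI := lfp_left i₁
  haveI := lfp_left i₂
  obtain ⟨C₁, c₁, hc₁, hfp₁, hC₁⟩ := exists_transporter_mono i₁ i₂
  obtain ⟨C₂, c₂, hc₂, hfp₂, hC₂⟩ := exists_transporter_mono i₂ i₁
  haveI : Mono c₂ := GrpQ.mono_of_left c₂
  obtain ⟨C, y, -, hyfp, hyc, hy⟩ := exists_preimage_mono c₁⁻¹ c₂
  haveI := hyc hc₂
  haveI := hyfp hfp₂
  let c : C ⟶ G := y ≫ c₁
  haveI hclosed : IsClosedImmersion c.left := inferInstanceAs (IsClosedImmersion (y.left ≫ c₁.left))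
  haveI hfp : LocallyOfFinitePresentation c.left :=
    inferInstanceAs (LocallyOfFinitePresentation (y.left ≫ c₁.left))
  have hC : ∀ {X : Over S} (g : X ⟶ G), (∃ z, z ≫ c = g) ↔
        ∀ (X' : Over S) (x : X' ⟶ X),
          (∀ a : X' ⟶ T₁, ∃ b : X' ⟶ T₂, (x ≫ g) * (a ≫ i₁) * (x ≫ g)⁻¹ = b ≫ i₂) ∧
          (∀ b : X' ⟶ T₂, ∃ a : X' ⟶ T₁, (x ≫ g)⁻¹ * (b ≫ i₂) * (x ≫ g) = a ≫ i₁) := by
    intro X g
    have h2 := hC₂ g⁻¹
    simp only [GrpObj.comp_inv, _root_.inv_inv] at h2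
    constructor
    · rintro ⟨z, rfl⟩ X' x
      refine ⟨fun a => (hC₁ _).1 ⟨z ≫ y, Category.assoc _ _ _⟩ X' x a, fun b => h2.1 ?_ X' x b⟩
      obtain ⟨κ, hκ⟩ := (hy (z ≫ y)).1 ⟨z, rfl⟩
      refine ⟨κ, ?_⟩
      rw [hκ, GrpObj.comp_inv]
      simp only [c, Category.assoc]
    · intro hg
      obtain ⟨w, hw⟩ := (hC₁ g).2 fun X' x a => (hg X' x).1 a
      obtain ⟨κ, hκ⟩ := h2.2 fun X' x b => (hg X' x).2 b
      obtain ⟨z, hz⟩ := (hy w).2 ⟨κ, by rw [GrpObj.comp_inv, hw, hκ]⟩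
      exact ⟨z, by simp only [c, reassoc_of% hz, hw]⟩
  refine ⟨C, c, hclosed, ?_, hC⟩
  haveI : LocallyOfFinitePresentation C.hom := by rw [← Over.w c]; infer_instance
  refine GrpSch.smooth_of_liftings C.hom fun A J hJ t c₀ hc₀ => ?_
  let z₀ : test t (MultAvg.mkA J) ⟶ C := Over.homMk c₀ hc₀
  let e₀ : (Over.map t).obj (test (𝟙 (Spec A)) (MultAvg.mkA J)) ⟶ test t (MultAvg.mkA J) :=
    Over.homMk (𝟙 _) (by simp)
  let g₀ : test (𝟙 (Spec A)) (MultAvg.mkA J) ⟶ Red.bc t G := BC.up t (e₀ ≫ z₀ ≫ c)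
  have hg₀ := fun X' x => (hC (z₀ ≫ c)).1 ⟨z₀, rfl⟩ X' x
  haveI : Smooth (Red.bc t G).hom := MorphismProperty.pullback_snd (P := @Smooth) _ _ inferInstance
  obtain ⟨φ, hφm, hrel₀⟩ := MultAvg.exists_conj_iso (J := J) ⟨2, hJ⟩
    (locSplit_of_isTorus (Tori.Basic.isTorus_bc h₁ t)) (locSplit_of_isTorus (Tori.Basic.isTorus_bc h₂ t))
    ((Over.pullback t).map i₁) ((Over.pullback t).map i₂) g₀
    (fun Y q x => by
      obtain ⟨b, hb⟩ := (hg₀ _ ((Over.map t).map q ≫ e₀)).1 (BC.down t x)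
      refine ⟨BC.up t b, BC.down_injective ?_⟩
      rw [BC.down_mul, BC.down_mul, BC.down_inv, BC.down_comp, BC.down_map, BC.down_map, BC.down_up,
        BC.down_up, ← hb]
      simp only [g₀, Category.assoc])
    (fun Y q x => by
      obtain ⟨a, ha⟩ := (hg₀ _ ((Over.map t).map q ≫ e₀)).2 (BC.down t x)
      refine ⟨BC.up t a, BC.down_injective ?_⟩
      rw [BC.down_mul, BC.down_mul, BC.down_inv, BC.down_comp, BC.down_map, BC.down_map, BC.down_up,
        BC.down_up, ← ha]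
      simp only [g₀, Category.assoc])
  haveI := hφm
  haveI : IsMonHom (φ.hom ≫ (Over.pullback t).map i₂) := inferInstance
  obtain ⟨g, hg, hrel⟩ := MultAvg.exists_rel_lift (locSplit_of_isTorus (Tori.Basic.isTorus_bc h₁ t))
    ((Over.pullback t).map i₁) (φ.hom ≫ (Over.pullback t).map i₂) (𝟙 _) J ⟨2, hJ⟩ g₀ hrel₀
  let b : test t (𝟙 A) ⟶ (Over.map t).obj (test (𝟙 (Spec A)) (𝟙 A)) := Over.homMk (𝟙 _) (by simp)
  let gm : test t (𝟙 A) ⟶ G := b ≫ BC.down t g
  obtain ⟨z, hz⟩ := (hC gm).2 fun X' x => by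
    let Y : Over (Spec A) := Over.mk (x.left ≫ Spec.map (𝟙 A))
    let p : Y ⟶ test (𝟙 (Spec A)) (𝟙 A) := Over.homMk x.left (by simp [Y])
    let ε : (Over.map t).obj Y ≅ X' := Over.isoMk (Iso.refl _) (by
      have := Over.w x
      simp [Y] at this ⊢
      exact this.symm)
    have hx : (Over.map t).map p = ε.hom ≫ x ≫ b := by
      apply Over.OverMorphism.ext
      simp [p, ε, b]
    have key : ∀ a : X' ⟶ T₁, (x ≫ gm) * (a ≫ i₁) * (x ≫ gm)⁻¹ =
        (ε.inv ≫ BC.down t (BC.up t (ε.hom ≫ a) ≫ φ.hom)) ≫ i₂ := fun a => by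
      have h := congrArg (fun w => ε.inv ≫ BC.down t w) (hrel Y p (BC.up t (ε.hom ≫ a)))
      rw [BC.down_mul, BC.down_mul, BC.down_inv, BC.down_comp, BC.down_map, BC.down_up, hx,
        ← Category.assoc (BC.up t (ε.hom ≫ a)), BC.down_map] at h
      simpa [gm, MonObj.comp_mul, GrpObj.comp_inv] using h
    refine ⟨fun a => ⟨_, key a⟩, fun b' => ⟨ε.inv ≫ BC.down t (BC.up t (ε.hom ≫ b') ≫ φ.inv), ?_⟩⟩
    have h := key (ε.inv ≫ BC.down t (BC.up t (ε.hom ≫ b') ≫ φ.inv))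
    simp only [Iso.hom_inv_id_assoc, BC.up_down, Category.assoc, Iso.inv_hom_id, Category.comp_id,
      BC.down_up, Iso.inv_hom_id_assoc] at h
    simp only [Category.assoc]
    rw [← h]
    group
  refine ⟨z.left, by rw [Over.w z]; simp, ?_⟩
  rw [← cancel_mono c.left, Category.assoc, ← Over.comp_left, hz]
  have e : Spec.map (MultAvg.mkA J) ≫ g.left = g₀.left := congrArg CommaMorphism.left hg
  show Spec.map (MultAvg.mkA J) ≫ 𝟙 _ ≫ (BC.down t g).left = c₀ ≫ c.left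
  rw [Category.id_comp, BC.down_left, reassoc_of% e, ← BC.down_left, BC.down_up]
  show 𝟙 _ ≫ c₀ ≫ c.left = _
  rw [Category.id_comp]

end Groth.Agent.Lib.SmWeil
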