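import Groth.Agent.Lib.SmWeil.TorusSpec
import Groth.Agent.Lib.SmWeil.FieldTori
import Groth.Agent.Lib.SmWeil.TorusCentralizer
import Groth.Agent.H87.TorusIn
import Groth.Agent.H87.LocalForm
import Groth.Agent.H87.Loci

/-!
# Maximal tori of smooth separated group schemes are stable under base change
-/

set_option autoImplicit false
set_option linter.style.haveILetI false

universe u

open CategoryTheory CategoryTheory.Limits AlgebraicGeometry MonoidalCategory CartesianMonoidalCategory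
open CategoryTheory.MonObj CategoryTheory.GrpObj
open Groth.Agent.Lib Groth.Agent.Lib.RedPts Groth.Agent.Lib.Tori Groth.Agent.H87

namespace Groth.Agent.Lib.SmWeil.MaxTorusBC

theorem exists_phi {K : Type u} [Field K] {M N : Type} [AddCommGroup M] [AddCommGroup N] [AddGroup.FG N]
    (v : Red.DS (Spec (CommRingCat.of K)) M ⟶ Red.DS (Spec (CommRingCat.of K)) N) [IsMonHom v] [Mono v] :
    ∃ φ : N →+ M, Function.Surjective φ ∧ v = Red.DSmap _ φ := by
  let S := Spec (CommRingCat.of K)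
  obtain ⟨φ, U, hU, h⟩ := LocalForm.exists_local_form_spec v (IsLocalRing.closedPoint K : S)
  have hr : Set.range (Red.DS S M).hom ⊆ Set.range U.ι := by
    rintro x -
    rw [Scheme.Opens.range_ι]
    rwa [Subsingleton.elim (α := PrimeSpectrum K) x (IsLocalRing.closedPoint K)]
  have e : v = Red.DSmap S φ := by
    simpa using h (Red.DS S M) (Over.homMk (IsOpenImmersion.lift U.ι _ hr) (IsOpenImmersion.lift_fac _ _ _)) (𝟙 _)
  have hm : Mono (Red.DSmap S φ) := by rw [← e]; infer_instance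
  exact ⟨φ, Loci.surjective_of_mono hm, e⟩

theorem isMonHom_of_mono_comp {C : Type*} [Category C] [CartesianMonoidalCategory C] {X Y Z : C}
    [MonObj X] [MonObj Y] [MonObj Z] (a : X ⟶ Y) (b : Y ⟶ Z) [IsMonHom b] [Mono b] [IsMonHom (a ≫ b)] :
    IsMonHom a := by
  constructor
  · rw [← cancel_mono b, Category.assoc, IsMonHom.one_hom, IsMonHom.one_hom]
  · rw [← cancel_mono b]
    simp only [Category.assoc, IsMonHom.mul_hom, IsMonHom.mul_hom_assoc]
    rw [← MonoidalCategory.tensorHom_comp_tensorHom_assoc]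

theorem mono_comp_iso {C : Type*} [Category C] {X Y Z : C} (a : X ⟶ Y) [Mono a] (e : Y ≅ Z) : Mono (a ≫ e.hom) :=
  mono_comp _ _

theorem mono_iso_comp_iso {C : Type*} [Category C] {W X Y Z : C} (e : W ≅ X) (a : X ⟶ Y) [Mono a] (e' : Y ≅ Z) :
    Mono (e.hom ≫ a ≫ e'.hom) := mono_comp _ _

theorem isIso_of_iso_comp_iso {C : Type*} [Category C] {W X Y Z : C} (e : W ≅ X) (a : X ⟶ Y) (e' : Y ≅ Z)
    (h : IsIso (e.hom ≫ a ≫ e'.hom)) : IsIso a := by
  haveI : IsIso (a ≫ e'.hom) := IsIso.of_isIso_comp_left e.hom _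
  exact IsIso.of_isIso_comp_right a e'.hom

theorem isIso_of_inv_comp {C : Type*} [Category C] {W X Y : C} (e : W ≅ X) (a : W ⟶ Y)
    (h : IsIso (e.inv ≫ a)) : IsIso a := IsIso.of_isIso_comp_left e.inv a

theorem sq3 {C : Type*} [Category C] {A₁ A₂ A₃ A₄ B₁ B₂ B₃ B₄ : C} {f₁ : A₁ ⟶ B₁} {f₂ : A₂ ⟶ B₂} {f₃ : A₃ ⟶ B₃}
    {f₄ : A₄ ⟶ B₄} {v₁ : B₁ ⟶ B₂} {v₂ : B₂ ⟶ B₃} {v₃ : B₃ ⟶ B₄} {u₁ : A₁ ⟶ A₂} {u₂ : A₂ ⟶ A₃} {u₃ : A₃ ⟶ A₄}
    (e₁ : f₁ ≫ v₁ = u₁ ≫ f₂) (e₂ : f₂ ≫ v₂ = u₂ ≫ f₃) (e₃ : f₃ ≫ v₃ = u₃ ≫ f₄) :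
    f₁ ≫ v₁ ≫ v₂ ≫ v₃ = (u₁ ≫ u₂ ≫ u₃) ≫ f₄ := by
  rw [reassoc_of% e₁, reassoc_of% e₂, e₃]
  simp only [Category.assoc]

theorem commute_DS {S : Scheme.{u}} {M : Type} [AddCommGroup M] {X : Over S} (a b : X ⟶ Red.DS S M) :
    a * b = b * a :=
  Gm.dsFn_ext fun m => by rw [Gm.dsFn_mul, Gm.dsFn_mul, _root_.mul_comm]

theorem commute_of_isTorus {K : Type u} [Field K] [IsAlgClosed K] {T : Over (Spec (CommRingCat.of K))}
    [GrpObj T] (hT : Red.IsTorus T) {X : Over (Spec (CommRingCat.of K))} (a b : X ⟶ T) : a * b = b * a := by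
  obtain ⟨m, ⟨e⟩⟩ := TorusIn.exists_split T hT
  haveI := BaseChange.isMonHom_overIso e
  exact (cancel_mono (BaseChange.overIso e).hom).1 (by
    rw [@MonObj.mul_comp _ _ _ _ _ _ _ _ a b (BaseChange.overIso e).hom (BaseChange.isMonHom_overIso e),
      @MonObj.mul_comp _ _ _ _ _ _ _ _ b a (BaseChange.overIso e).hom (BaseChange.isMonHom_overIso e), commute_DS])

section Field

variable {K : Type u} [Field K] [IsAlgClosed K] {G T : Over (Spec (CommRingCat.of K))} [GrpObj G] [GrpObj T]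
  {K' : Type u} [Field K'] [IsAlgClosed K'] [Algebra K K']

/-- A maximal torus over an algebraically closed field stays maximal over a larger one. -/
theorem isIso_of_maximal_ext [Smooth G.hom] [IsSeparated G.hom] (i : T ⟶ G) [IsMonHom i] [Mono i]
    (hT : Red.IsTorus T)
    (hmax : ∀ (T' : Over (Spec (CommRingCat.of K))) [GrpObj T'] (j : T' ⟶ G) [IsMonHom j] [Mono j] (f : T ⟶ T'),
      Red.IsTorus T' → f ≫ j = i → IsIso f)
    {T' : Over (Spec (CommRingCat.of K'))} [GrpObj T']
    (j : T' ⟶ Red.bc (TorusSpec.base (K := K) K') G) [IsMonHom j] [Mono j]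
    (f : Red.bc (TorusSpec.base (K := K) K') T ⟶ T') (hT' : Red.IsTorus T')
    (hf : f ≫ j = (Over.pullback (TorusSpec.base (K := K) K')).map i) : IsIso f := by
  let g := TorusSpec.base (K := K) K'
  let S := Spec (CommRingCat.of K)
  let S' := Spec (CommRingCat.of K')
  obtain ⟨C, hCg, c, hcC, hcimm, hcsm⟩ := exists_centralizer_torus hT i
  obtain ⟨hchom, hcmono, hC⟩ := hcC
  haveI := hchom
  haveI := hcmono
  haveI : IsSeparated C.hom := by
    haveI := hcimm
    rw [← Over.w c]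
    infer_instance
  -- `T'` commutes with `T`
  have hcomm : ∀ (X' : Over S) (x : X' ⟶ (Over.map g).obj T') (h : X' ⟶ T),
      (x ≫ BC.down g j) * (h ≫ i) = (h ≫ i) * (x ≫ BC.down g j) := by
    intro X' x h
    let X'' : Over S' := Over.mk (x.left ≫ T'.hom)
    let ε : (Over.map g).obj X'' ≅ X' := Over.isoMk (Iso.refl _) (by
      show 𝟙 _ ≫ X'.hom = (x.left ≫ T'.hom) ≫ g
      rw [Category.id_comp, Category.assoc]
      exact (Over.w x).symm)
    let x'' : X'' ⟶ T' := Over.homMk x.left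
    let h'' : X'' ⟶ T' := BC.up g (ε.hom ≫ h) ≫ f
    have e1 : BC.down g (x'' ≫ j) = ε.hom ≫ x ≫ BC.down g j := by
      rw [BC.down_comp, ← Category.assoc]
      congr 1
    have e2 : BC.down g (h'' ≫ j) = ε.hom ≫ h ≫ i := by
      show BC.down g ((BC.up g (ε.hom ≫ h) ≫ f) ≫ j) = _
      rw [Category.assoc, hf, BC.down_map, BC.down_up, Category.assoc]
    have e3 := congrArg (fun z => BC.down g (z ≫ j)) (commute_of_isTorus hT' x'' h'')
    simp only [MonObj.mul_comp, BC.down_mul, e1, e2, ← MonObj.comp_mul] at e3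
    exact (cancel_epi ε.hom).1 e3
  obtain ⟨z, hz⟩ := (hC _ (BC.down g j)).2 hcomm
  let jC : T' ⟶ Red.bc g C := BC.up g z
  have hjC : jC ≫ (Over.pullback g).map c = j := BC.down_injective (by
    rw [BC.down_map, BC.down_up, hz])
  haveI : Mono ((Over.pullback g).map c) := inferInstance
  haveI : IsMonHom ((Over.pullback g).map c) := inferInstance
  haveI : IsMonHom (jC ≫ (Over.pullback g).map c) := by rw [hjC]; infer_instance
  haveI : IsMonHom jC := isMonHom_of_mono_comp jC ((Over.pullback g).map c)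
  haveI : Mono jC := by
    haveI : Mono (jC ≫ (Over.pullback g).map c) := by rw [hjC]; infer_instance
    exact mono_of_mono jC ((Over.pullback g).map c)
  -- split
  obtain ⟨m, ⟨eT⟩⟩ := TorusIn.exists_split T hT
  obtain ⟨r, ⟨eT'⟩⟩ := TorusIn.exists_split T' hT'
  let eD := DS.dsBC (S := S) (Fin r → ℤ) g ≪≫ eT'.symm
  haveI : IsMonHom (BaseChange.overIso eD).hom := inferInstance
  let h : Red.bc g (Red.DS S (Fin r → ℤ)) ⟶ Red.bc g C := (BaseChange.overIso eD).hom ≫ jC
  haveI : IsMonHom h := inferInstanceAs (IsMonHom ((BaseChange.overIso eD).hom ≫ jC))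
  haveI : Mono h := inferInstanceAs (Mono ((BaseChange.overIso eD).hom ≫ jC))
  obtain ⟨N, jN, hr, hjN, hjNm⟩ := TorusSpec.exists_specialization h
  haveI := hjN
  haveI := hjNm
  obtain ⟨w, hw⟩ := TorusIn.exists_fac_field i (jN ≫ c) hT (TorusIn.isTorus_DS N) hmax fun X t x => by
    have e := (hC _ (jN ≫ c)).1 ⟨jN, rfl⟩ X x t
    exact e.symm
  haveI : IsMonHom (w ≫ i) := by rw [hw]; infer_instance
  haveI : IsMonHom w := isMonHom_of_mono_comp w i
  haveI : Mono w := by
    haveI : Mono (w ≫ i) := by rw [hw]; exact mono_comp _ _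
    exact mono_of_mono w i
  haveI : AddGroup.FG (Fin m → ℤ) := Module.Finite.iff_addGroup_fg.1 inferInstance
  haveI := BaseChange.isMonHom_overIso eT
  haveI : Mono (w ≫ (BaseChange.overIso eT).hom) := mono_comp_iso w _
  obtain ⟨φ, hφ, -⟩ := exists_phi (w ≫ (BaseChange.overIso eT).hom)
  have hrm : r ≤ m := by
    haveI : Module.Finite ℤ N := Module.Finite.iff_addGroup_fg.mpr ((AddGroup.fg_iff_addSubgroup_fg N).mpr
      (Submodule.fg_iff_addSubgroup_fg N.toIntSubmodule |>.mp (IsNoetherian.noetherian _)))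
    refine hr.trans ?_
    have h1 := LinearMap.finrank_range_le φ.toIntLinearMap
    rw [LinearMap.range_eq_top.2 hφ, finrank_top] at h1
    simpa using h1
  -- `f` is an isomorphism
  haveI : IsMonHom ((Over.pullback g).map i) := inferInstance
  haveI : Mono ((Over.pullback g).map i) := inferInstance
  haveI : IsMonHom (f ≫ j) := by rw [hf]; infer_instance
  haveI : IsMonHom f := isMonHom_of_mono_comp f j
  haveI : Mono f := by
    haveI : Mono (f ≫ j) := by rw [hf]; infer_instance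
    exact mono_of_mono f j
  let eB := (BaseChange.bcMapIso g eT ≪≫ DS.dsBC (S := S) (Fin m → ℤ) g).symm
  haveI : IsMonHom (BaseChange.overIso eB).hom := inferInstance
  haveI : IsMonHom (BaseChange.overIso eT').hom := inferInstance
  haveI : IsMonHom ((BaseChange.overIso eB).hom ≫ f ≫ (BaseChange.overIso eT').hom) := inferInstance
  haveI : Mono ((BaseChange.overIso eB).hom ≫ f ≫ (BaseChange.overIso eT').hom) :=
    mono_iso_comp_iso _ f _
  obtain ⟨ψ, hψ, hv⟩ := exists_phi ((BaseChange.overIso eB).hom ≫ f ≫ (BaseChange.overIso eT').hom)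
  haveI : AddGroup.FG (Fin r → ℤ) := Module.Finite.iff_addGroup_fg.1 inferInstance
  have hmr : m ≤ r := by
    have h1 := LinearMap.finrank_range_le ψ.toIntLinearMap
    rw [LinearMap.range_eq_top.2 hψ, finrank_top] at h1
    simpa using h1
  obtain rfl : r = m := le_antisymm hrm hmr
  have hbij : Function.Bijective ψ :=
    ⟨OrzechProperty.injective_of_surjective_endomorphism ψ.toIntLinearMap hψ, hψ⟩
  haveI : IsIso ((BaseChange.overIso eB).hom ≫ f ≫ (BaseChange.overIso eT').hom) := by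
    rw [hv]
    exact inferInstanceAs (IsIso (DS.dsOverIso _ (AddEquiv.ofBijective ψ hbij)).hom)
  exact isIso_of_iso_comp_iso (BaseChange.overIso eB) f (BaseChange.overIso eT') inferInstance

end Field

theorem bcComp_naturality {S S' S'' : Scheme.{u}} (g : S'' ⟶ S') (f : S' ⟶ S) {X Y : Over S} [GrpObj X] [GrpObj Y]
    (φ : X ⟶ Y) :
    (Over.pullback (g ≫ f)).map φ ≫ (BaseChange.overIso (BaseChange.bcComp g f Y)).hom =
      (BaseChange.overIso (BaseChange.bcComp g f X)).hom ≫ (Over.pullback g).map ((Over.pullback f).map φ) := by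
  simp [BaseChange.overIso, BaseChange.bcComp, Functor.mapIso_trans]
  erw [Category.comp_id, Category.comp_id]
  exact (Over.pullbackComp g f).hom.naturality φ

theorem bcCongr_naturality {S S' : Scheme.{u}} {f f' : S' ⟶ S} (h : f = f') {X Y : Over S} [GrpObj X] [GrpObj Y]
    (φ : X ⟶ Y) :
    (Over.pullback f).map φ ≫ (BaseChange.overIso (BaseChange.bcCongr h Y)).hom =
      (BaseChange.overIso (BaseChange.bcCongr h X)).hom ≫ (Over.pullback f').map φ := by
  subst h
  simp [BaseChange.overIso, BaseChange.bcCongr]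
  erw [Category.comp_id]

theorem exists_transport {S S' : Scheme.{u}} {A B : Scheme.{u}} (p : A ⟶ S') (f : S' ⟶ S) (g : A ⟶ B) (q : B ⟶ S)
    (hsq : p ≫ f = g ≫ q) {G T : Over S} [GrpObj G] [GrpObj T] (i : T ⟶ G) :
    ∃ (eG : Grp.mk (Red.bc p (Red.bc f G)) ≅ Grp.mk (Red.bc g (Red.bc q G)))
      (eT : Grp.mk (Red.bc p (Red.bc f T)) ≅ Grp.mk (Red.bc g (Red.bc q T))),
      (Over.pullback p).map ((Over.pullback f).map i) ≫ (BaseChange.overIso eG).hom =
        (BaseChange.overIso eT).hom ≫ (Over.pullback g).map ((Over.pullback q).map i) := by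
  refine ⟨(BaseChange.bcComp p f G).symm ≪≫ BaseChange.bcCongr hsq G ≪≫ BaseChange.bcComp g q G,
    (BaseChange.bcComp p f T).symm ≪≫ BaseChange.bcCongr hsq T ≪≫ BaseChange.bcComp g q T, ?_⟩
  have e1 : (Over.pullback p).map ((Over.pullback f).map i) ≫ (BaseChange.overIso (BaseChange.bcComp p f G)).inv =
      (BaseChange.overIso (BaseChange.bcComp p f T)).inv ≫ (Over.pullback (p ≫ f)).map i := by
    rw [Iso.eq_inv_comp, ← Category.assoc, Iso.comp_inv_eq]
    exact (bcComp_naturality p f i).symm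
  have e2 := bcCongr_naturality hsq i
  have e3 := bcComp_naturality g q i
  exact sq3 e1 e2 e3

variable {S S' : Scheme.{u}} {G T : Over S} [GrpObj G] [GrpObj T]

/-- **Maximal tori are stable under base change.** -/
theorem isMaximalTorus_bc [Smooth G.hom] [IsSeparated G.hom] (i : T ⟶ G) (hT : Red.IsMaximalTorus i)
    (f : S' ⟶ S) : Red.IsMaximalTorus ((Over.pullback f).map i) := by
  obtain ⟨hi, hmono, hTt, hmax⟩ := hT
  haveI := hi
  haveI := hmono
  refine ⟨inferInstance, inferInstance, Basic.isTorus_bc hTt f, fun s' T' _ j _ _ a hT' ha => ?_⟩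
  letI : Algebra (S.residueField (f s')) (AlgebraicClosure (S'.residueField s')) :=
    ((algebraMap (S'.residueField s') (AlgebraicClosure (S'.residueField s'))).comp (f.residueFieldMap s').hom).toAlgebra
  let σ : AlgebraicClosure (S.residueField (f s')) →ₐ[S.residueField (f s')]
      AlgebraicClosure (S'.residueField s') := IsAlgClosed.lift
  letI : Algebra (AlgebraicClosure (S.residueField (f s'))) (AlgebraicClosure (S'.residueField s')) :=
    σ.toRingHom.toAlgebra
  let g := TorusSpec.base (K := AlgebraicClosure (S.residueField (f s'))) (AlgebraicClosure (S'.residueField s'))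
  have hsq : Red.geomPt s' ≫ f = g ≫ Red.geomPt (f s') := by
    rw [Category.assoc, ← Scheme.Hom.SpecMap_residueFieldMap_fromSpecResidueField, ← Spec.map_comp_assoc,
      ← Category.assoc, ← Spec.map_comp]
    refine congrArg (· ≫ S.fromSpecResidueField _) (congrArg Spec.map (CommRingCat.hom_ext ?_))
    exact σ.comp_algebraMap.symm
  haveI : Smooth (Red.bc (Red.geomPt (f s')) G).hom := inferInstanceAs (Smooth (pullback.snd _ _))
  haveI : IsSeparated (Red.bc (Red.geomPt (f s')) G).hom := inferInstanceAs (IsSeparated (pullback.snd _ _))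
  obtain ⟨eG, eT, hnat⟩ := exists_transport (Red.geomPt s') f g (Red.geomPt (f s')) hsq i
  haveI := BaseChange.isMonHom_overIso eG
  haveI : IsMonHom (j ≫ (BaseChange.overIso eG).hom) := inferInstance
  haveI : Mono (j ≫ (BaseChange.overIso eG).hom) := mono_comp_iso j _
  refine isIso_of_inv_comp (BaseChange.overIso eT) a ?_
  exact isIso_of_maximal_ext ((Over.pullback (Red.geomPt (f s'))).map i) (Basic.isTorus_bc hTt _)
    (fun T₁ _ j₁ _ _ f₁ h₁ e₁ => hmax (f s') T₁ j₁ f₁ h₁ e₁) (j ≫ (BaseChange.overIso eG).hom)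
    ((BaseChange.overIso eT).inv ≫ a) hT' (by
      rw [Category.assoc, reassoc_of% ha, hnat, Iso.inv_hom_id_assoc])

end Groth.Agent.Lib.SmWeil.MaxTorusBC
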