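import Groth.Agent.Lib.SmWeil.BorelTori
import Groth.Agent.Lib.SmWeil.CartanTorus
import Groth.Agent.Lib.SmWeil.TorusCentralizer
import Groth.Agent.S8406
import Groth.Agent.H56.DimBaseChange

/-!
# The dimension of Cartan subgroups is at most that of centralizers of tori
-/

set_option autoImplicit false
set_option linter.style.haveILetI false
set_option linter.unusedSectionVars false

universe u

open CategoryTheory CategoryTheory.Limits AlgebraicGeometry MonoidalCategory CartesianMonoidalCategory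
open CategoryTheory.MonObj CategoryTheory.GrpObj
open Groth.Agent.Lib

namespace Groth.Agent.Lib.SmWeil.CartanDim

/-- Two centralizers of the same subgroup are isomorphic. -/
theorem exists_iso {S : Scheme.{u}} {G H C C₁ : Over S} [GrpObj G] [GrpObj H] [GrpObj C] [GrpObj C₁] {i : H ⟶ G}
    {c : C ⟶ G} {c₁ : C₁ ⟶ G} (h : Red.IsCentralizerOf i c) (h₁ : Red.IsCentralizerOf i c₁) :
    ∃ e : C ≅ C₁, e.hom ≫ c₁ = c := by
  haveI := h.2.1
  haveI := h₁.2.1
  obtain ⟨a, ha⟩ := (h₁.2.2 C c).2 ((h.2.2 C c).1 ⟨𝟙 C, Category.id_comp c⟩)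
  obtain ⟨b, hb⟩ := (h.2.2 C₁ c₁).2 ((h₁.2.2 C₁ c₁).1 ⟨𝟙 C₁, Category.id_comp c₁⟩)
  exact ⟨⟨a, b, by rw [← cancel_mono c, Category.assoc, hb, ha, Category.id_comp],
    by rw [← cancel_mono c₁, Category.assoc, ha, hb, Category.id_comp]⟩, ha⟩

/-- Over an algebraically closed field, a Cartan subgroup has dimension at most that of the centralizer of a torus. -/
theorem dim_le {K : Type u} [Field K] [IsAlgClosed K] {G T C C' : Over (Spec (CommRingCat.of K))} [GrpObj G]
    [GrpObj T] [GrpObj C] [GrpObj C'] [Smooth G.hom] [QuasiCompact G.hom] [IsAffine G.left] (j : T ⟶ G)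
    [IsMonHom j] [Mono j] (hT : Red.IsTorus T) (c : C ⟶ G) (hC : Red.IsCentralizerOf j c) (c' : C' ⟶ G)
    (hC' : SGA3x.IsCartanOver K c') : topologicalKrullDim ↥C'.left ≤ topologicalKrullDim ↥C.left := by
  obtain ⟨G₀, _, j₀, hj₀, hj₀cl, -, hs, hq, hc, hlift⟩ := BorelTori.exists_idComp G
  haveI := hj₀
  haveI := hj₀cl
  haveI := hs
  haveI := hq
  haveI := hc
  haveI : IsAffine G₀.left := isAffine_of_isAffineHom j₀.left
  haveI := (BorelTori.torus_props hT).2.2.1
  obtain ⟨jT, hjT⟩ := hlift T j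
  haveI : Mono j₀ := Over.mono_of_mono_left _
  haveI : IsMonHom (jT ≫ j₀) := hjT.symm ▸ inferInstance
  haveI : IsMonHom jT := MaxTorusBC.isMonHom_of_mono_comp jT j₀
  obtain ⟨M, _, m, w, hM, hw⟩ := S8406.exists_maxTorus_over hT jT
  haveI := hM.1
  haveI := hM.2.1
  have hm : Red.IsMaximalTorus (m ≫ j₀) := BorelTori.isMaximalTorus_comp_idComp j₀ hlift m
    (SmWeil.isMaximalTorus_of_maximal m hM.2.2.1 fun T' _ i _ _ f hT' hf => hM.2.2.2 T' i f hT' hf)
  obtain ⟨hc'm, hc'mono, T', _, t', ht', hct'⟩ := hC'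
  haveI := hc'm
  haveI := ht'.1
  haveI := ht'.2.1
  obtain ⟨g, φ, hφ⟩ := SmWeil.exists_conjBy ht' hm
  rw [← CartanTorus.comp_conjIso] at hφ
  haveI := CartanTorus.isMonHom_conjIso g
  have hj : φ.inv ≫ t' ≫ (CartanTorus.conjIso g).hom = m ≫ j₀ := by rw [hφ, Iso.inv_hom_id_assoc]
  obtain ⟨v, hv⟩ := (hC.2.2 C' (c' ≫ (CartanTorus.conjIso g).hom)).2 fun X' x h => by
    have key := congrArg (· ≫ (CartanTorus.conjIso g).hom)
      ((hct'.2.2 C' c').1 ⟨𝟙 C', Category.id_comp c'⟩ X' x (h ≫ w ≫ φ.inv))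
    rw [show h ≫ j = (h ≫ w ≫ φ.inv) ≫ t' ≫ (CartanTorus.conjIso g).hom by
      simp only [Category.assoc, hj]; rw [← Category.assoc w, hw, hjT]]
    simpa only [MonObj.mul_comp, Category.assoc] using key
  haveI : IsClosedImmersion c'.left := by
    obtain ⟨C₁, _, c₁, hC₁, hcl, -⟩ := exists_centralizer_torus ht'.2.2.1 t'
    haveI := hcl
    obtain ⟨e, he⟩ := exists_iso hct' hC₁
    haveI : IsIso e.hom.left := ((Over.forget _).mapIso e).isIso_hom
    rw [← he, Over.comp_left]
    infer_instance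
  haveI : IsIso (CartanTorus.conjIso g).hom.left := ((Over.forget _).mapIso (CartanTorus.conjIso g)).isIso_hom
  haveI : IsClosedImmersion (v.left ≫ c.left) := by
    rw [← Over.comp_left, hv, Over.comp_left]
    infer_instance
  haveI := hC.2.1
  haveI : Mono c.left := inferInstanceAs (Mono ((Over.forget _).map c))
  haveI : IsClosedImmersion v.left := IsClosedImmersion.of_comp v.left c.left
  exact v.left.isClosedEmbedding.isInducing.topologicalKrullDim_le

end Groth.Agent.Lib.SmWeil.CartanDim
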