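import Groth.Agent.Lib.SmWeil.AffHull
import Groth.Agent.Lib.SubEq.Subgroup
import Groth.Agent.H4.KernelSquare
import Groth.Agent.S3276
import Groth.Agent.H1.Classical.BorelExists
import Groth.Agent.H1.Classical.BorelConj

/-!
# Borel subgroups of smooth connected groups are preimages of Borel subgroups of the affine hull
-/

set_option autoImplicit false
set_option linter.style.haveILetI false
set_option linter.unusedSectionVars false

universe u

open CategoryTheory CategoryTheory.Limits AlgebraicGeometry MonoidalCategory CartesianMonoidalCategory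
open CategoryTheory.MonObj CategoryTheory.GrpObj
open Groth.Agent.Lib

namespace Groth.Agent.Lib.SmWeil.BorelHull

open Groth.Agent.H1.Classical

variable {k : Type u} [Field k] [IsAlgClosed k]

local notation3 "pt" => (𝟙_ (Over (Spec (CommRingCat.of k))))

/-- Rational points lift along surjective morphisms of finite type. -/
theorem exists_point_lift {X Y : Over (Spec (CommRingCat.of k))} (f : X ⟶ Y) [Surjective f.left]
    [LocallyOfFiniteType X.hom] [QuasiCompact X.hom] [LocallyOfFiniteType Y.hom] [IsSeparated Y.hom] (y : pt ⟶ Y) :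
    ∃ x : pt ⟶ X, x ≫ f = y := by
  let o : ↥(pt).left := IsLocalRing.closedPoint k
  haveI : IsClosedImmersion y.left := isClosedImmersion_of_comp_eq_id Y.hom y.left (Over.w y)
  have hy : IsClosed (Set.range y.left) := y.left.isClosedEmbedding.isClosed_range
  obtain ⟨x, hx⟩ := GrpSch.exists_point_mem (W := f.left ⁻¹' Set.range y.left) (hy.preimage f.left.continuous)
    (by obtain ⟨a, ha⟩ := f.left.surjective (y.left o); exact ⟨a, o, ha.symm⟩)
  obtain ⟨o', ho'⟩ := hx ⟨o, rfl⟩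
  refine ⟨x, Over.OverMorphism.ext (ext_of_apply_closedPoint_eq Y.hom (Over.w _) (Over.w _) ?_)⟩
  haveI : Subsingleton ↥(pt).left := inferInstanceAs (Subsingleton ↥(Spec (CommRingCat.of k)))
  rw [Subsingleton.elim o' o] at ho'
  exact ho'.symm

/-- A homomorphism with smooth kernel that is faithfully flat is smooth. -/
theorem smooth_of_kernel {X Y N : Over (Spec (CommRingCat.of k))} [GrpObj X] [GrpObj Y] (f : X ⟶ Y) [IsMonHom f]
    [Surjective f.left] [Flat f.left] [QuasiCompact f.left] (i : N ⟶ X) (hN : AlgGrp.IsKernel i f)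
    [Smooth N.hom] : Smooth f.left :=
  H4.KernelSquare.left_of_hom (P := @Smooth) f i hN inferInstance

/-- The preimage of a closed subgroup. -/
theorem exists_preimage {G Q B : Over (Spec (CommRingCat.of k))} [GrpObj G] [GrpObj Q] [GrpObj B] (ρ : G ⟶ Q)
    [IsMonHom ρ] (bQ : B ⟶ Q) [IsMonHom bQ] [IsClosedImmersion bQ.left] :
    ∃ (P : Over (Spec (CommRingCat.of k))) (_ : GrpObj P) (b : P ⟶ G) (π : P ⟶ B),
      IsMonHom b ∧ IsMonHom π ∧ IsClosedImmersion b.left ∧ π ≫ bQ = b ≫ ρ ∧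
      IsPullback b.left π.left ρ.left bQ.left ∧
      ∀ (X : Over (Spec (CommRingCat.of k))) (x : X ⟶ G), (∃ y, y ≫ bQ = x ≫ ρ) → ∃ z, z ≫ b = x := by
  haveI : Mono bQ := Over.mono_of_mono_left _
  obtain ⟨hg, hb⟩ := SubEq.exists_grpObj ρ bQ
  let P : Over (Spec (CommRingCat.of k)) := Over.mk (pullback.fst ρ.left bQ.left ≫ G.hom)
  let b : P ⟶ G := H87.CentralEq.proj ρ bQ
  let π : P ⟶ B := Over.homMk (pullback.snd ρ.left bQ.left) (by
    show _ = pullback.fst ρ.left bQ.left ≫ G.hom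
    rw [← Over.w bQ, ← pullback.condition_assoc, Over.w ρ])
  have hsq : π ≫ bQ = b ≫ ρ := Over.OverMorphism.ext pullback.condition.symm
  haveI : IsMonHom b := hb
  haveI : IsMonHom π := by
    refine ⟨?_, ?_⟩
    · rw [← cancel_mono bQ, Category.assoc, hsq, IsMonHom.one_hom_assoc, IsMonHom.one_hom, IsMonHom.one_hom]
    · rw [← cancel_mono bQ, Category.assoc, hsq, IsMonHom.mul_hom_assoc, IsMonHom.mul_hom, Category.assoc,
        IsMonHom.mul_hom, tensorHom_comp_tensorHom_assoc, tensorHom_comp_tensorHom_assoc, hsq]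
  refine ⟨P, hg, b, π, hb, inferInstance, ?_, hsq, IsPullback.of_hasPullback ρ.left bQ.left, fun X x hx => ?_⟩
  · show IsClosedImmersion (pullback.fst ρ.left bQ.left)
    infer_instance
  · exact (SubEq.exists_proj_fac ρ bQ x).mpr hx

/-- An extension of a solvable group by a central subgroup is solvable. -/
theorem isSolvableGrp_of_central {G B P : Over (Spec (CommRingCat.of k))} [GrpObj G] [GrpObj B] [GrpObj P]
    (b : P ⟶ G) [IsMonHom b] [Mono b] (π : P ⟶ B) [IsMonHom π]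
    (hc : ∀ (X : Over (Spec (CommRingCat.of k))) (x y : X ⟶ P), x ≫ π = 1 → Commute (x ≫ b) (y ≫ b))
    (hB : Red.IsSolvableGrp B) : Red.IsSolvableGrp P := by
  obtain ⟨n, hn⟩ := hB
  refine ⟨n + 1, fun X => ?_⟩
  rw [derivedSeries_succ]
  rw [Subgroup.commutator_eq_bot_iff_le_centralizer]
  intro x hx
  rw [Subgroup.mem_centralizer_iff]
  intro y _
  have h1 : Scheme'.postcomp π X x ∈ derivedSeries (X ⟶ B) n :=
    map_derivedSeries_le_derivedSeries (Scheme'.postcomp π X) n ⟨x, hx, rfl⟩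
  rw [hn X, Subgroup.mem_bot] at h1
  have h2 := hc X x y h1
  rw [← cancel_mono b, MonObj.mul_comp, MonObj.mul_comp]
  exact h2.eq.symm

/-- The image of a smooth connected solvable group in an affine group. -/
theorem exists_image_solvable {H Q : Over (Spec (CommRingCat.of k))} [GrpObj H] [GrpObj Q] [IsAffine Q.left]
    [Smooth H.hom] [QuasiCompact H.hom] [ConnectedSpace H.left] (u : H ⟶ Q) [IsMonHom u]
    (hH : Red.IsSolvableGrp H) :
    ∃ (C : Over (Spec (CommRingCat.of k))) (_ : GrpObj C) (c : C ⟶ Q) (p : H ⟶ C),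
      IsMonHom c ∧ IsClosedImmersion c.left ∧ Smooth C.hom ∧ ConnectedSpace C.left ∧ Red.IsSolvableGrp C ∧
      p ≫ c = u ∧ Surjective p.left := by
  obtain ⟨C, hC, p, c, hp, hc, hpc, hstd, hcl⟩ := GrpQ.Image.exists_image u
  haveI := hp
  haveI := hc
  haveI := hstd
  haveI := hcl
  haveI : IsAffine C.left := isAffine_of_isAffineHom c.left
  haveI : IsReduced H.left := GrpSch.isReduced_of_smooth_field H.hom
  obtain ⟨hflat, hsur⟩ := GrpQ.Image.flat_surjective p
  haveI := hflat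
  haveI := hsur
  haveI : LocallyOfFiniteType C.hom := GrpQ.Image.locallyOfFiniteType_of_std p
  haveI : IsReduced C.left := H56.GeomDescent.isReduced_of_flat_surjective p.left
  haveI : Smooth C.hom := by
    haveI : GrpObj (Over.mk C.hom) := inferInstanceAs (GrpObj C)
    exact H1.Classical.Smooth.smooth_of_isReduced C.hom
  haveI : ConnectedSpace C.left := p.left.surjective.connectedSpace p.left.continuous
  haveI := GrpSch.isSeparated_of_field C
  haveI : Group.IsSolvable (pt ⟶ H) := ⟨⟨hH.choose, hH.choose_spec _⟩⟩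
  haveI : Group.IsSolvable (pt ⟶ C) := Group.isSolvable_of_surjective (f := Scheme'.postcomp p pt)
    (exists_point_lift p)
  exact ⟨C, hC, c, p, hc, hcl, inferInstance, inferInstance, S3276.isSolvableGrp_of_points C, hpc, hsur⟩

/-- A closed smooth connected solvable subgroup of a connected affine group lies in a Borel subgroup. -/
theorem exists_borel_ge {Q C : Over (Spec (CommRingCat.of k))} [GrpObj Q] [GrpObj C] [IsAffine Q.left]
    [Smooth Q.hom] [ConnectedSpace Q.left] (c : C ⟶ Q) [IsMonHom c] [IsClosedImmersion c.left] [Smooth C.hom]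
    [ConnectedSpace C.left] (hC : Red.IsSolvableGrp C) :
    ∃ (B : Over (Spec (CommRingCat.of k))) (_ : GrpObj B) (b : B ⟶ Q) (f : C ⟶ B),
      Red.IsBorelOver k b ∧ f ≫ b = c := by
  obtain ⟨A, _, _, e, he⟩ := H1.Hopf.exists_iso Q
  haveI := he
  haveI : Algebra.FiniteType k A := Scheme'.finiteType_of_iso e
  haveI := Scheme'.isDomain_of_iso e
  haveI : IsIso e.hom.left := ((Over.forget _).mapIso e).isIso_hom
  haveI : IsClosedImmersion (c ≫ e.hom).left := by rw [Over.comp_left]; infer_instance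
  obtain ⟨hirr', hsol', hpts'⟩ := Scheme'.ptsOf_props (c ≫ e.hom) hC
  obtain ⟨B0, hcl, hirr, hsol, habs⟩ := HopfPts.exists_borel (k := k) (A := A)
  obtain ⟨a, ha⟩ := habs _ hsol' hirr'
  obtain ⟨B, hBg, iB, hB, hfac, -⟩ :=
    Scheme'.exists_borel_of_isMax ((Image.isMax_of_absorbing hcl hirr hsol habs).conj a)
  haveI : IsAffine C.left := isAffine_of_isAffineHom c.left
  obtain ⟨f, hf⟩ := hfac C (c ≫ e.hom) (Scheme'.algHomOf_eq_zero _ fun x => by
    obtain ⟨t, ht, hxt⟩ := hpts' x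
    exact ⟨t, (Image.mem_map_conj a B0 t).mpr (ha t ht), hxt⟩)
  haveI : IsMonHom e.symm.hom := inferInstanceAs (IsMonHom e.inv)
  refine ⟨B, hBg, iB ≫ e.inv, f, Scheme'.isBorelOver_comp hB e.symm, ?_⟩
  rw [reassoc_of% hf, e.hom_inv_id, Category.comp_id]

/-- A morphism from a reduced scheme factors through a closed subscheme if it does so on a surjective cover. -/
theorem exists_fac_of_surjective {P B C Q : Over (Spec (CommRingCat.of k))} (π : P ⟶ B) [Surjective π.left]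
    [IsReduced B.left] (c : C ⟶ Q) [IsClosedImmersion c.left] (x : B ⟶ Q) (w : P ⟶ C) (hw : w ≫ c = π ≫ x) :
    ∃ f : B ⟶ C, f ≫ c = x := by
  haveI : Surjective (pullback.fst x.left c.left) := by
    refine ⟨fun y => ?_⟩
    obtain ⟨p, rfl⟩ := π.left.surjective y
    refine ⟨pullback.lift π.left w.left congr(($hw).left).symm p, ?_⟩
    rw [← Scheme.Hom.comp_apply, pullback.lift_fst]
  haveI : IsIso (pullback.fst x.left c.left) := isIso_of_isClosedImmersion_of_surjective _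
  have h : (inv (pullback.fst x.left c.left) ≫ pullback.snd x.left c.left) ≫ c.left = x.left := by
    rw [Category.assoc, ← pullback.condition, IsIso.inv_hom_id_assoc]
  refine ⟨Over.homMk (inv (pullback.fst x.left c.left) ≫ pullback.snd x.left c.left) ?_, Over.OverMorphism.ext h⟩
  rw [← Over.w c, ← Category.assoc, h, Over.w x]

section Hull

variable {G Q N : Over (Spec (CommRingCat.of k))} [GrpObj G] [GrpObj Q] [GrpObj N]
  [Smooth G.hom] [QuasiCompact G.hom] [ConnectedSpace G.left]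
  (ρ : G ⟶ Q) [IsMonHom ρ] [Surjective ρ.left] [Flat ρ.left] [LocallyOfFinitePresentation ρ.left]
  (i : N ⟶ G) [Smooth N.hom] [ConnectedSpace N.left] [IsAffine Q.left] [Smooth Q.hom] [ConnectedSpace Q.left]
  (hK : AlgGrp.IsKernel i ρ)
  (hcent : ∀ (X : Over (Spec (CommRingCat.of k))) (x y : X ⟶ G), x ≫ ρ = 1 → Commute x y)

include hK hcent

omit [Smooth G.hom] [LocallyOfFinitePresentation ρ.left] [Smooth Q.hom] [ConnectedSpace G.left] [ConnectedSpace Q.left] in
/-- The preimage of a Borel subgroup of the affine quotient is a Borel subgroup. -/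
theorem exists_borel_preimage {B : Over (Spec (CommRingCat.of k))} [GrpObj B] (bQ : B ⟶ Q)
    (hB : Red.IsBorelOver k bQ) :
    ∃ (P : Over (Spec (CommRingCat.of k))) (_ : GrpObj P) (b : P ⟶ G), Red.IsBorelOver k b ∧
      ∀ (X : Over (Spec (CommRingCat.of k))) (x : X ⟶ G), (∃ y, y ≫ bQ = x ≫ ρ) ↔ ∃ z, z ≫ b = x := by
  obtain ⟨hbm, hbcl, hBs, hBc, hBsol, hmax⟩ := hB
  haveI := hbm
  haveI := hbcl
  haveI := hBs
  haveI := hBc
  obtain ⟨P, hP, b, π, hb, hπ, hcl, hsq, hpb, huniv⟩ := exists_preimage ρ bQ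
  haveI := hb
  haveI := hπ
  haveI := hcl
  haveI : Mono b := Over.mono_of_mono_left _
  haveI : QuasiCompact ρ.left := GrpQ.quasiCompact_left ρ
  haveI : Smooth ρ.left := smooth_of_kernel ρ i hK
  haveI : Smooth π.left := MorphismProperty.of_isPullback hpb ‹Smooth ρ.left›
  haveI : Surjective π.left := MorphismProperty.of_isPullback hpb ‹Surjective ρ.left›
  haveI : QuasiCompact π.left := MorphismProperty.of_isPullback hpb ‹QuasiCompact ρ.left›
  haveI : Smooth P.hom := by rw [← Over.w π]; infer_instance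
  haveI : IsAffine B.left := isAffine_of_isAffineHom bQ.left
  haveI : QuasiCompact P.hom := by rw [← Over.w π]; infer_instance
  have hkill : ∀ (X : Over (Spec (CommRingCat.of k))) (x : X ⟶ P), x ≫ π = 1 → (x ≫ b) ≫ ρ = 1 := fun X x hx => by
    rw [Category.assoc, ← hsq, ← Category.assoc, hx, MonObj.one_comp]
  obtain ⟨i', hi'⟩ := huniv N i ⟨1, by rw [MonObj.one_comp, GrpQ.kernel_comp hK]⟩
  haveI : ConnectedSpace P.left := SmWeil.connectedSpace_of_kernel π i' fun x hx => by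
    obtain ⟨n, hn⟩ := (GrpQ.mem_kernel hK (x ≫ b)).mpr (hkill _ x hx)
    exact ⟨n, by rw [← cancel_mono b, Category.assoc, hi', hn]⟩
  have hsol : Red.IsSolvableGrp P :=
    isSolvableGrp_of_central b π (fun X x y hx => hcent X _ _ (hkill X x hx)) hBsol
  refine ⟨P, hP, b, ⟨hb, hcl, inferInstance, inferInstance, hsol, ?_⟩,
    fun X x => ⟨huniv X x, fun ⟨z, hz⟩ => ⟨z ≫ π, by rw [Category.assoc, hsq, ← Category.assoc, hz]⟩⟩⟩
  intro B' _ b' _ f hcl' hsm' hconn' hsol' hf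
  haveI := hcl'
  haveI := hsm'
  haveI := hconn'
  haveI : QuasiCompact B'.hom := by rw [← Over.w b']; infer_instance
  obtain ⟨C, hC, c, p, hc, hccl, hCs, hCc, hCsol, hpc, -⟩ := exists_image_solvable (b' ≫ ρ) hsol'
  haveI := hc
  haveI : IsReduced B.left := GrpSch.isReduced_of_smooth_field B.hom
  obtain ⟨f0, hf0⟩ := exists_fac_of_surjective π c bQ (f ≫ p) (by
    rw [Category.assoc, hpc, ← Category.assoc, hf, hsq])
  haveI : IsIso f0 := hmax C c f0 hccl hCs hCc hCsol hf0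
  obtain ⟨g, hg⟩ := huniv B' b' ⟨p ≫ inv f0, by rw [← hpc, Category.assoc, ← hf0, IsIso.inv_hom_id_assoc]⟩
  haveI : Mono b' := Over.mono_of_mono_left _
  exact ⟨g, by rw [← cancel_mono b, Category.assoc, hg, hf, Category.id_comp],
    by rw [← cancel_mono b', Category.assoc, hf, hg, Category.id_comp]⟩

omit [ConnectedSpace G.left] in
/-- Every Borel subgroup is the preimage of a Borel subgroup of the affine quotient. -/
theorem exists_borel_image {P : Over (Spec (CommRingCat.of k))} [GrpObj P] (b : P ⟶ G)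
    (hP : Red.IsBorelOver k b) :
    ∃ (B : Over (Spec (CommRingCat.of k))) (_ : GrpObj B) (bQ : B ⟶ Q), Red.IsBorelOver k bQ ∧
      ∀ (X : Over (Spec (CommRingCat.of k))) (x : X ⟶ G), (∃ y, y ≫ bQ = x ≫ ρ) ↔ ∃ z, z ≫ b = x := by
  obtain ⟨hbm, hbcl, hPs, hPc, hPsol, hmax⟩ := hP
  haveI := hbm
  haveI := hbcl
  haveI := hPs
  haveI := hPc
  haveI : QuasiCompact P.hom := by rw [← Over.w b]; infer_instance
  obtain ⟨C, hC, c, p, hc, hccl, hCs, hCc, hCsol, hpc, -⟩ := exists_image_solvable (b ≫ ρ) hPsol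
  haveI := hc
  obtain ⟨B, hBg, bQ, f, hB, hf⟩ := exists_borel_ge c hCsol
  obtain ⟨P', hP', b', hb', hiff⟩ := exists_borel_preimage ρ i hK hcent bQ hB
  refine ⟨B, hBg, bQ, hB, ?_⟩
  obtain ⟨g, hg⟩ := (hiff P b).mp ⟨p ≫ f, by rw [Category.assoc, hf, hpc]⟩
  haveI := hb'.1
  haveI : IsIso g := hmax P' b' g hb'.2.1 hb'.2.2.1 hb'.2.2.2.1 hb'.2.2.2.2.1 hg
  intro X x
  rw [hiff X x]
  exact ⟨fun ⟨z, hz⟩ => ⟨z ≫ inv g, by rw [Category.assoc, ← hg, IsIso.inv_hom_id_assoc, hz]⟩,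
    fun ⟨z, hz⟩ => ⟨z ≫ g, by rw [Category.assoc, hg, hz]⟩⟩

end Hull

/-- Every rational point of a smooth connected group lies in a Borel subgroup. -/
theorem exists_borel_point (G : Over (Spec (CommRingCat.of k))) [GrpObj G] [Smooth G.hom] [QuasiCompact G.hom]
    [ConnectedSpace G.left] (g : pt ⟶ G) :
    ∃ (B : Over (Spec (CommRingCat.of k))) (_ : GrpObj B) (b : B ⟶ G), Red.IsBorelOver k b ∧ ∃ g', g' ≫ b = g := by
  obtain ⟨Q, hQg, ρ, N, hNg, i, hρ, hQa, hQs, hQc, hsur, hflat, hlfp, hi, hicl, hNs, hNc, hK, hcent⟩ :=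
    exists_affHull G
  haveI := hρ
  haveI := hsur
  haveI := hflat
  haveI := hlfp
  obtain ⟨B, hBg, bQ, hB, g₀, hg₀⟩ := BorelExists.exists_borel_point Q (g ≫ ρ)
  obtain ⟨P, hP, b, hb, hiff⟩ := exists_borel_preimage ρ i hK hcent bQ hB
  exact ⟨P, hP, b, hb, (hiff _ g).mp ⟨g₀, hg₀⟩⟩

/-- Borel subgroups of a smooth connected group are conjugate. -/
theorem exists_conjBy (G : Over (Spec (CommRingCat.of k))) [GrpObj G] [Smooth G.hom] [QuasiCompact G.hom]
    [ConnectedSpace G.left] {B₁ B₂ : Over (Spec (CommRingCat.of k))} [GrpObj B₁] [GrpObj B₂] (b₁ : B₁ ⟶ G)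
    (b₂ : B₂ ⟶ G) (h₁ : Red.IsBorelOver k b₁) (h₂ : Red.IsBorelOver k b₂) :
    ∃ g : pt ⟶ G, SGA3x.ConjBy b₁ b₂ g := by
  obtain ⟨Q, hQg, ρ, N, hNg, i, hρ, hQa, hQs, hQc, hsur, hflat, hlfp, hi, hicl, hNs, hNc, hK, hcent⟩ :=
    exists_affHull G
  haveI := hρ
  haveI := hsur
  haveI := hflat
  haveI := hlfp
  haveI := h₁.2.1
  haveI := h₂.2.1
  haveI : Mono b₁ := Over.mono_of_mono_left _
  haveI : Mono b₂ := Over.mono_of_mono_left _
  obtain ⟨C₁, hC₁g, c₁, hC₁, hiff₁⟩ := exists_borel_image ρ i hK hcent b₁ h₁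
  obtain ⟨C₂, hC₂g, c₂, hC₂, hiff₂⟩ := exists_borel_image ρ i hK hcent b₂ h₂
  obtain ⟨γ₀, φ, hφ⟩ := Scheme'.borel_conj c₁ c₂ hC₁ hC₂
  haveI := GrpSch.isSeparated_of_field Q
  obtain ⟨g, hg⟩ := exists_point_lift ρ γ₀
  let cj : ∀ (X : Over (Spec (CommRingCat.of k))), (pt ⟶ G) → (X ⟶ G) → (X ⟶ G) :=
    fun X z x => (toUnit X ≫ z) * x * (toUnit X ≫ z)⁻¹
  have hρcj : ∀ X z (x : X ⟶ G), cj X z x ≫ ρ = (toUnit X ≫ z ≫ ρ) * (x ≫ ρ) * (toUnit X ≫ z ≫ ρ)⁻¹ :=
    fun X z x => by simp only [cj, MonObj.mul_comp, GrpObj.inv_comp, Category.assoc]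
  have hφ' : ∀ {X : Over (Spec (CommRingCat.of k))} (y : X ⟶ C₁),
      (toUnit X ≫ γ₀) * (y ≫ c₁) * (toUnit X ≫ γ₀)⁻¹ = y ≫ φ.hom ≫ c₂ := fun {X} y => by
    rw [hφ, AGF.conjBy, MonObj.comp_mul, MonObj.comp_mul, GrpObj.comp_inv, ← Category.assoc,
      toUnit_unique (y ≫ toUnit C₁) (toUnit X)]
  obtain ⟨u, hu⟩ : ∃ u : B₁ ⟶ B₂, u ≫ b₂ = cj B₁ g b₁ := by
    obtain ⟨y, hy⟩ := (hiff₁ B₁ b₁).mpr ⟨𝟙 _, Category.id_comp _⟩
    refine (hiff₂ _ _).mp ⟨y ≫ φ.hom, ?_⟩
    rw [Category.assoc, ← hφ', hρcj, hg, hy]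
  obtain ⟨v, hv⟩ : ∃ v : B₂ ⟶ B₁, v ≫ b₁ = cj B₂ g⁻¹ b₂ := by
    obtain ⟨y, hy⟩ := (hiff₂ B₂ b₂).mpr ⟨𝟙 _, Category.id_comp _⟩
    refine (hiff₁ _ _).mp ⟨y ≫ φ.inv, ?_⟩
    have := hφ' (y ≫ φ.inv)
    rw [Category.assoc y φ.inv (φ.hom ≫ c₂), φ.inv_hom_id_assoc, hy] at this
    rw [hρcj, GrpObj.inv_comp, hg, ← this, GrpObj.comp_inv]
    group
  have key : ∀ {X Y : Over (Spec (CommRingCat.of k))} (w : Y ⟶ X) z (x : X ⟶ G), w ≫ cj X z x = cj Y z (w ≫ x) :=
    fun {X Y} w z x => by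
      simp only [cj, MonObj.comp_mul, GrpObj.comp_inv]
      rw [← Category.assoc, toUnit_unique (w ≫ toUnit X) (toUnit Y)]
  refine ⟨g, ⟨u, v, ?_, ?_⟩, hu.symm⟩
  · rw [← cancel_mono b₁, Category.assoc, hv, key, hu]
    simp only [cj, GrpObj.comp_inv, _root_.inv_inv, Category.id_comp]
    group
  · rw [← cancel_mono b₂, Category.assoc, hu, key, hv]
    simp only [cj, GrpObj.comp_inv, _root_.inv_inv, Category.id_comp]
    group

end Groth.Agent.Lib.SmWeil.BorelHull
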