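import Groth.Agent.Lib.SmWeil.BorelHull
import Groth.Agent.Lib.SmWeil.CartanTorus
import Groth.Agent.Lib.SmWeil.CartanOpen
import Groth.Agent.H1.Classical.ParabolicNormalizer

/-!
# Borel subgroups are self-normalizing
-/

set_option autoImplicit false
set_option linter.style.haveILetI false
set_option linter.unusedSectionVars false

universe u

open CategoryTheory CategoryTheory.Limits AlgebraicGeometry MonoidalCategory CartesianMonoidalCategory
open CategoryTheory.MonObj CategoryTheory.GrpObj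
open Groth.Agent.Lib Groth.Agent.H87
open Groth.Agent.Lib.RedPts

namespace Groth.Agent.Lib.SmWeil.BorelNormalizer

open Groth.Agent.H1.Classical.ParabolicNormalizer (Fwd)

section Field

variable {k : Type u} [Field k] [IsAlgClosed k]

/-- A point normalising a Borel subgroup of a smooth connected group lies in it. -/
theorem factor_of_fwd {G B : Over (Spec (CommRingCat.of k))} [GrpObj G] [GrpObj B] [Smooth G.hom]
    [QuasiCompact G.hom] [ConnectedSpace G.left] (b : B ⟶ G) (hB : Red.IsBorelOver k b)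
    {X : Over (Spec (CommRingCat.of k))} (g : X ⟶ G) (hg : Fwd b g) : ∃ z, z ≫ b = g := by
  obtain ⟨Q, hQg, ρ, N, hNg, i, hρ, hQa, hQs, hQc, hsur, hflat, hlfp, hi, hicl, hNs, hNc, hK, hcent⟩ :=
    exists_affHull G
  haveI := hρ
  haveI := hsur
  haveI := hflat
  haveI := hlfp
  obtain ⟨C, hCg, c, hC, hiff⟩ := BorelHull.exists_borel_image ρ i hK hcent b hB
  haveI := hC.1
  haveI := hC.2.1
  haveI : Mono c := Over.mono_of_mono_left _
  refine (hiff X g).mp ((H1.Classical.ParabolicNormalizer.props_closed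
    ⟨hC.1, hC.2.1, hC.2.2.1, C, inferInstance, 𝟙 C, by rw [Category.id_comp]; exact hC⟩).2 (g ≫ ρ) fun X' x h => ?_)
  obtain ⟨T', p, y, hp, hy⟩ := GrpQ.exists_lift (q := ρ) (GrpQ.isCover_hom ρ) (h ≫ c)
  obtain ⟨z, hz⟩ := (hiff T' y).mp ⟨p ≫ h, by rw [Category.assoc, hy]⟩
  obtain ⟨h', hh'⟩ := hg T' (p ≫ x) z
  obtain ⟨w, hw⟩ := (hiff T' (h' ≫ b)).mpr ⟨h', rfl⟩
  obtain ⟨v, hv⟩ := GrpQ.exists_factor c ((x ≫ g ≫ ρ) * (h ≫ c) * (x ≫ g ≫ ρ)⁻¹) hp w (by
    rw [hw, ← hh', hz, MonObj.mul_comp, MonObj.mul_comp, GrpObj.inv_comp, hy, MonObj.comp_mul, MonObj.comp_mul,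
      GrpObj.comp_inv]
    simp only [Category.assoc])
  exact ⟨v, hv.symm⟩

end Field

/-- A Borel subgroup scheme of a group with connected fibres is its own normalizer, and closed. -/
theorem self_normalizing {S : Scheme.{u}} (G : Over S) [GrpObj G] [Smooth G.hom] [QuasiCompact G.hom]
    [QuasiSeparated G.hom] (hconn : ∀ s : S, _root_.IsConnected (G.hom.base ⁻¹' {s}))
    (B : Over S) [GrpObj B] (b : B ⟶ G) [IsMonHom b] [Mono b] [Smooth B.hom]
    (hB : ∀ s : S, Red.IsBorelOver (AlgebraicClosure (S.residueField s)) ((Over.pullback (Red.geomPt s)).map b)) :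
    Red.IsNormalizerOf b b ∧ IsClosedImmersion b.left := by
  haveI : Mono b.left := inferInstanceAs (Mono ((Over.forget S).map b))
  haveI : QuasiSeparated B.hom := by rw [← Over.w b]; infer_instance
  haveI := CartanOpen.geometricallyConnected_of_fibres G hconn
  have hBconn : ∀ s : S, _root_.IsConnected (B.hom.base ⁻¹' {s}) := fun s => by
    haveI := (hB s).2.2.2.1
    have h := isConnected_range (pullback.fst B.hom (Red.geomPt s)).continuous
      (α := ↥(Red.bc (Red.geomPt s) B).left)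
    rw [show B.hom.base ⁻¹' {s} = Set.range (pullback.fst B.hom (Red.geomPt s)) from ?_]
    · exact h
    rw [Scheme.Pullback.range_fst]
    refine congrArg (B.hom ⁻¹' ·) (Set.eq_singleton_iff_unique_mem.2 ⟨?_, ?_⟩).symm
    · exact ⟨IsLocalRing.closedPoint _, Scheme.fromSpecResidueField_apply s _⟩
    · rintro _ ⟨x, rfl⟩
      exact Scheme.fromSpecResidueField_apply s _
  haveI := CartanOpen.geometricallyConnected_of_fibres B hBconn
  haveI := lfp_left b
  obtain ⟨C, c, hc, hcfp, hC⟩ := exists_transporter_mono b b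
  haveI := hc
  haveI : Mono c := GrpQ.mono_of_left c
  haveI : LocallyOfFiniteType C.hom := by rw [← Over.w c]; infer_instance
  have hself : ∀ {X : Over S} (y : X ⟶ B) (X' : Over S) (x : X' ⟶ X) (h : X' ⟶ B),
      ∃ κ : X' ⟶ B, (x ≫ y ≫ b) * (h ≫ b) * (x ≫ y ≫ b)⁻¹ = κ ≫ b := fun y X' x h =>
    ⟨(x ≫ y) * h * (x ≫ y)⁻¹, by simp only [MonObj.mul_comp, GrpObj.inv_comp, Category.assoc]⟩
  obtain ⟨u, hu⟩ := (hC b).2 fun X' x h => by
    have := hself (𝟙 B) X' x h
    simpa only [Category.id_comp] using this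
  haveI : Mono u := mono_of_mono_fac hu
  haveI : IsIso u := CartanAux.isIso_of_geom_fibres u fun s => by
    let g := Red.geomPt s
    haveI : Smooth (Red.bc g G).hom := MorphismProperty.pullback_snd (P := @Smooth) _ _ inferInstance
    haveI : QuasiCompact (Red.bc g G).hom := MorphismProperty.pullback_snd (P := @QuasiCompact) _ _ inferInstance
    haveI : ConnectedSpace ↥(Red.bc g G).left := by
      refine connectedSpace_iff_univ.2 ?_
      convert CartanOpen.isConnected_fibres g G (IsLocalRing.closedPoint _) using 1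
      exact (Set.eq_univ_of_forall fun x => Subsingleton.elim (α := PrimeSpectrum _) _ _).symm
    obtain ⟨r, hr⟩ := factor_of_fwd ((Over.pullback g).map b) (hB s) ((Over.pullback g).map c) fun Y y h => by
      obtain ⟨κ, hκ⟩ := (hC (BC.down g y ≫ c)).1 ⟨_, rfl⟩ _ (𝟙 _) (BC.down g h)
      refine ⟨BC.up g κ, BC.down_injective ?_⟩
      rw [BC.down_mul, BC.down_mul, BC.down_inv, BC.down_map, BC.down_map, BC.down_map, BC.down_up]
      simpa only [Category.id_comp] using hκ
    refine CartanTorus.isIso_of_split _ r ?_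
    rw [← cancel_mono ((Over.pullback g).map c), Category.assoc, ← Functor.map_comp, hu, hr, Category.id_comp]
  have hcb : c = CategoryTheory.inv u ≫ b := by rw [← hu, IsIso.inv_hom_id_assoc]
  refine ⟨⟨inferInstance, inferInstance, fun X g => ⟨?_, fun hg => ?_⟩⟩, ?_⟩
  · rintro ⟨z, rfl⟩ X' x h
    exact ⟨⟨(x ≫ z) * h * (x ≫ z)⁻¹, by simp only [MonObj.mul_comp, GrpObj.inv_comp, Category.assoc]⟩,
      ⟨(x ≫ z)⁻¹ * h * (x ≫ z), by simp only [MonObj.mul_comp, GrpObj.inv_comp, Category.assoc]⟩⟩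
  · obtain ⟨z, hz⟩ := (hC g).2 fun X' x h => (hg X' x h).1
    exact ⟨z ≫ CategoryTheory.inv u, by rw [Category.assoc, ← hcb, hz]⟩
  · haveI : IsIso ((Over.forget S).map u) := inferInstance
    haveI : IsIso u.left := ‹IsIso ((Over.forget S).map u)›
    rw [← hu, Over.comp_left]
    infer_instance

end Groth.Agent.Lib.SmWeil.BorelNormalizer
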