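import Groth.Agent.Lib.SmWeil.CartanSolvable
import Groth.Agent.Lib.SmWeil.TorusConjEtale
import Groth.Agent.Lib.SmWeil.CartanAux
import Groth.Agent.Lib.SmWeil.CartanTorus
import Groth.Agent.H87.SplitMax

/-!
# Borel subgroups, maximal tori and Cartan subgroups of smooth groups over algebraically closed fields
-/

set_option autoImplicit false
set_option linter.style.haveILetI false
set_option linter.unusedSectionVars false

universe u

open CategoryTheory CategoryTheory.Limits AlgebraicGeometry MonoidalCategory CartesianMonoidalCategory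
open CategoryTheory.MonObj CategoryTheory.GrpObj
open Groth.Agent.Lib Groth.Agent.H87
open Groth.Agent.Lib.RedPts

namespace Groth.Agent.Lib.SmWeil.BorelTori

variable {k : Type u} [Field k] [IsAlgClosed k]

local notation3 "pt" => (𝟙_ (Over (Spec (CommRingCat.of k))))

section IdComp

open Groth.Agent.H63.GrpConnected Groth.Agent.H63.GrpIdentity Groth.Agent.H63.GrpComponent Groth.Agent.H63.GrpIrred

/-- The identity component, with its universal property. -/
theorem exists_idComp (G : Over (Spec (CommRingCat.of k))) [GrpObj G] [Smooth G.hom] [QuasiCompact G.hom] :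
    ∃ (G₀ : Over (Spec (CommRingCat.of k))) (_ : GrpObj G₀) (j : G₀ ⟶ G), IsMonHom j ∧ IsClosedImmersion j.left ∧
      IsOpenImmersion j.left ∧ Smooth G₀.hom ∧ QuasiCompact G₀.hom ∧ ConnectedSpace G₀.left ∧
      ∀ (U : Over (Spec (CommRingCat.of k))) [GrpObj U] (i : U ⟶ G) [IsMonHom i] [ConnectedSpace U.left],
        ∃ i₀ : U ⟶ G₀, i₀ ≫ j = i := by
  haveI := GrpSch.isSeparated_of_field G
  letI := idGrp G
  haveI := isMonHom_idHom G
  haveI : IsClosedImmersion (idHom G).left := isClosedImmersion_idIncl G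
  haveI : Flat (idHom G).left := flat_idIncl G
  haveI : IsLocallyNoetherian G.left := LocallyOfFiniteType.isLocallyNoetherian G.hom
  haveI : IsOpenImmersion (idHom G).left := IsOpenImmersion.of_flat_of_mono _
  haveI : Smooth (idObj G).hom := by rw [← Over.w (idHom G)]; infer_instance
  haveI : QuasiCompact (idObj G).hom := by rw [← Over.w (idHom G)]; infer_instance
  haveI : ConnectedSpace (idObj G).left := by
    have h : _root_.IsPreconnected (Set.range (idHom G).left) := by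
      show _root_.IsPreconnected (Set.range (idIncl G))
      rw [range_idIncl, ← connectedComponent_unit]
      exact isPreconnected_connectedComponent
    haveI : PreconnectedSpace (idObj G).left := by
      refine ⟨?_⟩
      rw [← Set.image_univ] at h
      exact ((idHom G).left.isClosedEmbedding.isInducing.isPreconnected_image).mp h
    exact { toNonempty := ⟨η[idObj G].left (IsLocalRing.closedPoint k)⟩ }
  refine ⟨idObj G, inferInstance, idHom G, inferInstance, inferInstance, inferInstance, inferInstance,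
    inferInstance, inferInstance, fun U _ i _ _ => ?_⟩
  exact exists_lift G i fun t => by
    rw [← connectedComponent_unit]
    have hsub : Set.range i.left ⊆ connectedComponent (unitPt G) :=
      (isPreconnected_range i.left.continuous).subset_connectedComponent
        ⟨η[U].left (IsLocalRing.closedPoint k), by
          rw [← Scheme.Hom.comp_apply, ← Over.comp_left, IsMonHom.one_hom (f := i)]⟩
    exact hsub ⟨t, rfl⟩

end IdComp

/-- Elementary properties of a torus. -/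
theorem torus_props {T : Over (Spec (CommRingCat.of k))} [GrpObj T] (hT : Red.IsTorus T) :
    Smooth T.hom ∧ QuasiCompact T.hom ∧ ConnectedSpace T.left ∧ Red.IsSolvableGrp T := by
  haveI := Tori.Basic.smooth_of_isTorus hT
  haveI := Tori.Basic.isAffineHom_of_isTorus hT
  obtain ⟨r, ⟨e⟩⟩ := TorusIn.exists_split T hT
  haveI := GmFibre.connectedSpace_ds k r
  let eo := Tori.BaseChange.overIso e
  haveI : IsIso eo.inv.left := inferInstanceAs (IsIso ((Over.forget _).map eo.inv))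
  refine ⟨inferInstance, inferInstance,
    eo.inv.left.homeomorph.surjective.connectedSpace eo.inv.left.homeomorph.continuous, 1, fun X => ?_⟩
  rw [derivedSeries_one]
  refine le_bot_iff.mp (Subgroup.commutator_le.mpr fun a _ b _ => ?_)
  rw [Subgroup.mem_bot, commutatorElement_eq_one_iff_mul_comm]
  exact Tori.Comm.mul_comm_of_isTorus hT a b

/-- A Borel subgroup lies in the identity component and is a Borel subgroup of it. -/
theorem isBorelOver_lift {G G₀ B : Over (Spec (CommRingCat.of k))} [GrpObj G] [GrpObj G₀] [GrpObj B]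
    (j : G₀ ⟶ G) [IsMonHom j] [IsClosedImmersion j.left]
    (hlift : ∀ (U : Over (Spec (CommRingCat.of k))) [GrpObj U] (i : U ⟶ G) [IsMonHom i] [ConnectedSpace U.left],
        ∃ i₀ : U ⟶ G₀, i₀ ≫ j = i)
    (b : B ⟶ G) (hB : Red.IsBorelOver k b) : ∃ b₀ : B ⟶ G₀, b₀ ≫ j = b ∧ Red.IsBorelOver k b₀ := by
  obtain ⟨hbm, hbcl, hBs, hBc, hBsol, hmax⟩ := hB
  haveI := hbm
  haveI := hbcl
  haveI := hBc
  haveI : Mono j := Over.mono_of_mono_left _
  obtain ⟨b₀, hb₀⟩ := hlift B b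
  haveI : IsMonHom (b₀ ≫ j) := hb₀.symm ▸ hbm
  haveI : IsMonHom b₀ := H1.Classical.CentralizerBorel.isMonHom_of_mono_comp b₀ j
  haveI : IsClosedImmersion (b₀.left ≫ j.left) := by rw [← Over.comp_left, hb₀]; exact hbcl
  refine ⟨b₀, hb₀, inferInstance, IsClosedImmersion.of_comp b₀.left j.left, hBs, hBc, hBsol,
    fun B' _ i' _ f hcl hsm hcn hsol hf => ?_⟩
  haveI := hcl
  exact hmax B' (i' ≫ j) f (by rw [Over.comp_left]; infer_instance) hsm hcn hsol (by rw [← Category.assoc, hf, hb₀])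

/-- Borel subgroups of a smooth group are conjugate. -/
theorem exists_conjBy (G : Over (Spec (CommRingCat.of k))) [GrpObj G] [Smooth G.hom] [QuasiCompact G.hom]
    {B₁ B₂ : Over (Spec (CommRingCat.of k))} [GrpObj B₁] [GrpObj B₂] (b₁ : B₁ ⟶ G) (b₂ : B₂ ⟶ G)
    (h₁ : Red.IsBorelOver k b₁) (h₂ : Red.IsBorelOver k b₂) : ∃ g : pt ⟶ G, SGA3x.ConjBy b₁ b₂ g := by
  obtain ⟨G₀, hG₀, j, hj, hjcl, -, hs, hq, hc, hlift⟩ := exists_idComp G
  haveI := hj
  haveI := hjcl
  obtain ⟨a₁, ha₁, hA₁⟩ := isBorelOver_lift j hlift b₁ h₁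
  obtain ⟨a₂, ha₂, hA₂⟩ := isBorelOver_lift j hlift b₂ h₂
  obtain ⟨g, φ, hφ⟩ := BorelHull.exists_conjBy G₀ a₁ a₂ hA₁ hA₂
  refine ⟨g ≫ j, φ, ?_⟩
  have h := congrArg (· ≫ j) hφ
  simpa only [MonObj.mul_comp, GrpObj.inv_comp, Category.assoc, ha₁, ha₂] using h

/-- A smooth connected solvable subgroup of a connected group lies in a Borel subgroup. -/
theorem exists_borel_ge {G H : Over (Spec (CommRingCat.of k))} [GrpObj G] [GrpObj H] [Smooth G.hom]
    [QuasiCompact G.hom] [ConnectedSpace G.left] [Smooth H.hom] [QuasiCompact H.hom] [ConnectedSpace H.left]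
    (u : H ⟶ G) [IsMonHom u] (hH : Red.IsSolvableGrp H) :
    ∃ (B : Over (Spec (CommRingCat.of k))) (_ : GrpObj B) (b : B ⟶ G) (v : H ⟶ B),
      Red.IsBorelOver k b ∧ v ≫ b = u := by
  obtain ⟨Q, hQg, ρ, N, hNg, i, hρ, hQa, hQs, hQc, hsur, hflat, hlfp, hi, hicl, hNs, hNc, hK, hcent⟩ :=
    exists_affHull G
  haveI := hρ
  haveI := hsur
  haveI := hflat
  haveI := hlfp
  obtain ⟨C, hC, c, p, hc, hccl, hCs, hCc, hCsol, hpc, -⟩ := BorelHull.exists_image_solvable (u ≫ ρ) hH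
  haveI := hc
  haveI := hccl
  haveI := hCs
  haveI := hCc
  obtain ⟨B₁, hB₁g, bQ, f, hB₁, hf⟩ := BorelHull.exists_borel_ge c hCsol
  obtain ⟨P, hP, b, hb, hiff⟩ := BorelHull.exists_borel_preimage ρ i hK hcent bQ hB₁
  obtain ⟨v, hv⟩ := (hiff H u).mp ⟨p ≫ f, by rw [Category.assoc, hf, hpc]⟩
  exact ⟨P, hP, b, v, hb, hv⟩

/-- A torus is conjugate into any maximal torus. -/
theorem exists_conj_into {G T₁ T₂ : Over (Spec (CommRingCat.of k))} [GrpObj G] [GrpObj T₁] [GrpObj T₂]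
    [Smooth G.hom] [QuasiCompact G.hom] [ConnectedSpace G.left] (i₁ : T₁ ⟶ G) [IsMonHom i₁] [Mono i₁]
    (hT₁ : Red.IsTorus T₁) (i₂ : T₂ ⟶ G) (h₂ : Red.IsMaximalTorus i₂) :
    ∃ (g : pt ⟶ G) (w : T₁ ⟶ T₂), w ≫ i₂ = i₁ ≫ (CartanTorus.conjIso g).hom := by
  obtain ⟨Q, hQg, ρ, N, hNg, i, hρ, hQa, hQs, hQc, hsur, hflat, hlfp, hi, hicl, hNs, hNc, hK, hcent⟩ :=
    exists_affHull G
  haveI := hρ
  haveI := hsur
  haveI := hflat
  haveI := hlfp
  haveI := h₂.1
  haveI := h₂.2.1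
  obtain ⟨M₁, _, m₁, w₁, hM₁, hw₁⟩ := S8406.exists_maxTorus_over hT₁ (i₁ ≫ ρ)
  obtain ⟨M₂, _, m₂, w₂, hM₂, hw₂⟩ := S8406.exists_maxTorus_over h₂.2.2.1 (i₂ ≫ ρ)
  obtain ⟨g₀, φ, hφ⟩ := H1.Classical.MaxTorusApply.maxTorus_conj hM₁ hM₂
  obtain ⟨g, hg⟩ := GrpSch.exists_lift_point ρ g₀
  haveI := hM₂.1
  haveI := CartanTorus.isMonHom_conjIso g
  haveI : Mono (i₁ ≫ (CartanTorus.conjIso g).hom) := MaxTorusBC.mono_comp_iso i₁ _
  obtain ⟨a, hac⟩ : ∃ a : T₁ ⟶ G, a = i₁ ≫ (CartanTorus.conjIso g).hom := ⟨_, rfl⟩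
  have ha : a = (toUnit T₁ ≫ g) * i₁ * (toUnit T₁ ≫ g)⁻¹ := hac.trans (CartanTorus.comp_conjIso i₁ g)
  haveI : Mono a := hac ▸ ‹Mono (i₁ ≫ (CartanTorus.conjIso g).hom)›
  haveI : IsMonHom a := hac ▸ inferInstance
  have haρ : a ≫ ρ = (w₁ ≫ φ.hom) ≫ m₂ := by
    rw [Category.assoc, hφ, ← hg, ha]
    simp only [MonObj.mul_comp, GrpObj.inv_comp, AGF.conjBy, MonObj.comp_mul, GrpObj.comp_inv, hw₁, ← Category.assoc,
      toUnit_unique (w₁ ≫ toUnit _) (toUnit T₁)]
  have hcomm : ∀ (X : Over (Spec (CommRingCat.of k))) (x : X ⟶ T₁) (y : X ⟶ T₂),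
      Commute (x ≫ a) (y ≫ i₂) := by
    refine SmWeil.commute_of_central hT₁ h₂.2.2.1 a i₂ fun X x y z => hcent X _ z ?_
    rw [MonObj.mul_comp, MonObj.mul_comp, MonObj.mul_comp, GrpObj.inv_comp, GrpObj.inv_comp, Category.assoc,
      Category.assoc, haρ, ← hw₂, ← Category.assoc x, ← Category.assoc y, mul_inv_eq_one, mul_inv_eq_iff_eq_mul,
      ← MonObj.mul_comp, ← MonObj.mul_comp, Lib.Tori.Comm.mul_comm_of_isTorus hM₂.2.2.1]
  obtain ⟨w, hw⟩ := TorusIn.exists_fac_field i₂ a h₂.2.2.1 hT₁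
    (fun T' _ j _ _ f hT' hf => SmWeil.maximal_of_isMaximalTorus h₂ j f hT' hf)
    (fun X t r => (hcomm X r t).eq.symm)
  exact ⟨g, w, hw.trans hac⟩

/-- Maximal tori of a Borel subgroup of a connected group are maximal tori. -/
theorem isMaximalTorus_comp_connected {G B T : Over (Spec (CommRingCat.of k))} [GrpObj G] [GrpObj B] [GrpObj T]
    [Smooth G.hom] [QuasiCompact G.hom] [ConnectedSpace G.left] (b : B ⟶ G) (hB : Red.IsBorelOver k b)
    (t : T ⟶ B) (hT : Red.IsMaximalTorus t) : Red.IsMaximalTorus (t ≫ b) := by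
  obtain ⟨hbm, hbcl, hBs, hBc, hBsol, -⟩ := id hB
  haveI := hbm
  haveI := hbcl
  haveI := hBs
  haveI := hBc
  haveI := hT.1
  haveI := hT.2.1
  haveI : Mono b := Over.mono_of_mono_left _
  haveI : QuasiCompact B.hom := by rw [← Over.w b]; infer_instance
  haveI : Mono (t ≫ b) := mono_comp _ _
  refine isMaximalTorus_of_maximal (t ≫ b) hT.2.2.1 fun T' _ j _ _ f hT' hf => ?_
  obtain ⟨hs', hq', hc', hsol'⟩ := torus_props hT'
  haveI := hs'
  haveI := hq'
  haveI := hc'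
  obtain ⟨B', hB'g, b', u', hB', hu'⟩ := exists_borel_ge j hsol'
  obtain ⟨g, φ, hφ⟩ := BorelHull.exists_conjBy G b' b hB' hB
  haveI := CartanTorus.isMonHom_conjIso g
  have hu : (u' ≫ φ.hom) ≫ b = j ≫ (CartanTorus.conjIso g).hom := by
    rw [Category.assoc, ← hφ, ← CartanTorus.comp_conjIso, ← Category.assoc, hu']
  haveI : Mono (j ≫ (CartanTorus.conjIso g).hom) := MaxTorusBC.mono_comp_iso j _
  haveI : Mono (u' ≫ φ.hom) := mono_of_mono_fac hu
  haveI : IsMonHom ((u' ≫ φ.hom) ≫ b) := hu.symm ▸ inferInstance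
  haveI : IsMonHom (u' ≫ φ.hom) := MaxTorusBC.isMonHom_of_mono_comp _ b
  obtain ⟨g₂, w, hw⟩ := exists_conj_into (u' ≫ φ.hom) hT' t hT
  haveI := CartanTorus.isMonHom_conjIso g₂
  haveI : Mono ((u' ≫ φ.hom) ≫ (CartanTorus.conjIso g₂).hom) := MaxTorusBC.mono_comp_iso (u' ≫ φ.hom) _
  haveI : Mono w := mono_of_mono_fac hw
  haveI : IsMonHom (w ≫ t) := hw.symm ▸ inferInstance
  haveI : IsMonHom w := MaxTorusBC.isMonHom_of_mono_comp w t
  haveI : Mono f := mono_of_mono_fac hf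
  haveI : IsMonHom (f ≫ j) := hf.symm ▸ inferInstance
  haveI : IsMonHom f := MaxTorusBC.isMonHom_of_mono_comp f j
  obtain ⟨r, hr⟩ := TorusIn.exists_split T hT.2.2.1
  haveI : IsMonHom (f ≫ w) := inferInstance
  haveI : Mono (f ≫ w) := mono_comp _ _
  haveI : IsIso (f ≫ w) := SplitMax.isIso_of_split hr hr (f ≫ w)
  haveI : IsIso w := CartanTorus.isIso_of_split w (CategoryTheory.inv (f ≫ w) ≫ f) (by
    rw [Category.assoc, IsIso.inv_hom_id])
  exact IsIso.of_isIso_comp_right f w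

/-- Maximal tori of the identity component are maximal tori. -/
theorem isMaximalTorus_comp_idComp {G G₀ T : Over (Spec (CommRingCat.of k))} [GrpObj G] [GrpObj G₀] [GrpObj T]
    (j : G₀ ⟶ G) [IsMonHom j] [IsClosedImmersion j.left]
    (hlift : ∀ (U : Over (Spec (CommRingCat.of k))) [GrpObj U] (i : U ⟶ G) [IsMonHom i] [ConnectedSpace U.left],
        ∃ i₀ : U ⟶ G₀, i₀ ≫ j = i)
    (t : T ⟶ G₀) (hT : Red.IsMaximalTorus t) : Red.IsMaximalTorus (t ≫ j) := by
  haveI : Mono j := Over.mono_of_mono_left _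
  haveI := hT.1
  haveI := hT.2.1
  haveI : Mono (t ≫ j) := mono_comp _ _
  refine isMaximalTorus_of_maximal (t ≫ j) hT.2.2.1 fun T' _ i' _ _ f hT' hf => ?_
  haveI := (torus_props hT').2.2.1
  obtain ⟨i₀, hi₀⟩ := hlift T' i'
  haveI : IsMonHom (i₀ ≫ j) := hi₀.symm ▸ inferInstance
  haveI : IsMonHom i₀ := MaxTorusBC.isMonHom_of_mono_comp i₀ j
  haveI : Mono i₀ := mono_of_mono_fac hi₀
  exact maximal_of_isMaximalTorus hT i₀ f hT' (by rw [← cancel_mono j, Category.assoc, hi₀, hf])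

/-- Maximal tori of a Borel subgroup are maximal tori. -/
theorem isMaximalTorus_comp {G B T : Over (Spec (CommRingCat.of k))} [GrpObj G] [GrpObj B] [GrpObj T]
    [Smooth G.hom] [QuasiCompact G.hom] (b : B ⟶ G) (hB : Red.IsBorelOver k b)
    (t : T ⟶ B) (hT : Red.IsMaximalTorus t) : Red.IsMaximalTorus (t ≫ b) := by
  obtain ⟨G₀, hG₀, j, hj, hjcl, -, hs, hq, hc, hlift⟩ := exists_idComp G
  haveI := hj
  haveI := hjcl
  obtain ⟨b₀, hb₀, hB₀⟩ := isBorelOver_lift j hlift b hB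
  rw [← hb₀, ← Category.assoc]
  exact isMaximalTorus_comp_idComp j hlift (t ≫ b₀) (isMaximalTorus_comp_connected b₀ hB₀ t hT)

/-- The centralizer of a maximal torus of a connected group lies in every Borel subgroup containing the torus. -/
theorem exists_factor_borel {G B T Z : Over (Spec (CommRingCat.of k))} [GrpObj G] [GrpObj B] [GrpObj T] [GrpObj Z]
    [Smooth G.hom] [QuasiCompact G.hom] [ConnectedSpace G.left] (b : B ⟶ G) (hB : Red.IsBorelOver k b)
    (t : T ⟶ B) (hT : Red.IsMaximalTorus (t ≫ b)) (z : Z ⟶ G) (hZ : Red.IsCentralizerOf (t ≫ b) z) :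
    ∃ v : Z ⟶ B, v ≫ b = z := by
  haveI := hT.1
  haveI := hT.2.1
  haveI := hZ.1
  haveI := hZ.2.1
  obtain ⟨hzcl, hZs, hZc⟩ := connectedSpace_centralizer hT.2.2.1 (t ≫ b) z hZ
  haveI := hzcl
  haveI := hZs
  haveI := hZc
  haveI : QuasiCompact Z.hom := by rw [← Over.w z]; infer_instance
  obtain ⟨t₀, ht₀⟩ := (hZ.2.2 T (t ≫ b)).2 fun Y y h => by
    rw [← MonObj.mul_comp, ← MonObj.mul_comp, Groth.Agent.Lib.Tori.Comm.mul_comm_of_isTorus hT.2.2.1]
  haveI : IsMonHom (t₀ ≫ z) := by rw [ht₀]; infer_instance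
  haveI : IsMonHom t₀ := MaxTorusBC.isMonHom_of_mono_comp t₀ z
  haveI : Mono t₀ := mono_of_mono_fac ht₀
  have hT₀ : Red.IsMaximalTorus t₀ := isMaximalTorus_of_maximal t₀ hT.2.2.1 fun T' _ i' _ _ f hT' hf => by
    haveI : Mono (i' ≫ z) := mono_comp _ _
    exact maximal_of_isMaximalTorus hT (i' ≫ z) f hT' (by rw [← Category.assoc, hf, ht₀])
  have hsol : Red.IsSolvableGrp Z := CartanSolvable.isSolvableGrp_of_central_maxTorus t₀ hT₀ fun X s g => by
    show _ = _
    rw [← cancel_mono z, MonObj.mul_comp, MonObj.mul_comp, Category.assoc, ht₀]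
    exact ((hZ.2.2 X (g ≫ z)).1 ⟨g, rfl⟩ X (𝟙 _) s).symm.trans (by rw [Category.id_comp]) |>.trans (by rfl)
  obtain ⟨B', hB'g, b', v', hB', hv'⟩ := exists_borel_ge z hsol
  obtain ⟨hb'm, hb'cl, hB's, hB'c, -, -⟩ := id hB'
  haveI := hb'm
  haveI := hb'cl
  haveI := hB's
  haveI := hB'c
  haveI := hB.1
  haveI := hB.2.1
  haveI : Mono b := Over.mono_of_mono_left _
  haveI : Mono b' := Over.mono_of_mono_left _
  haveI : QuasiCompact B'.hom := by rw [← Over.w b']; infer_instance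
  obtain ⟨g, φ, hφ⟩ := BorelHull.exists_conjBy G b b' hB hB'
  rw [← CartanTorus.comp_conjIso] at hφ
  haveI := CartanTorus.isMonHom_conjIso g
  have liftMax : ∀ (x : T ⟶ B'), Red.IsMaximalTorus (x ≫ b') → Red.IsMaximalTorus x := fun x hx => by
    haveI := hx.1
    haveI := hx.2.1
    haveI : IsMonHom x := MaxTorusBC.isMonHom_of_mono_comp x b'
    haveI : Mono x := mono_of_mono x b'
    refine isMaximalTorus_of_maximal x hx.2.2.1 fun T' _ i' _ _ f hT' hf => ?_
    haveI : Mono (i' ≫ b') := mono_comp _ _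
    exact maximal_of_isMaximalTorus hx (i' ≫ b') f hT' (by rw [← Category.assoc, hf])
  have h₁ : Red.IsMaximalTorus (t₀ ≫ v') := liftMax _ (by rwa [Category.assoc, hv', ht₀])
  have h₂ : Red.IsMaximalTorus (t ≫ φ.hom) := liftMax _
    (CartanAux.isMaximalTorus_congr (CartanTorus.conjIso g) (Iso.refl T) inferInstance
      (inferInstanceAs (IsMonHom (𝟙 T))) (by
        rw [Iso.refl_hom, Category.id_comp, Category.assoc, Category.assoc, hφ]) hT)
  obtain ⟨β, ψ, hψ⟩ := SmWeil.exists_conjBy h₂ h₁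
  -- `n` normalises the torus
  let n : pt ⟶ G := (β ≫ b') * g
  have hn : ∀ (X : Over (Spec (CommRingCat.of k))) (h : X ⟶ T),
      (toUnit X ≫ n) * (h ≫ t ≫ b) * (toUnit X ≫ n)⁻¹ = (h ≫ ψ.hom) ≫ t ≫ b := fun X h => by
    have e1 : (toUnit X ≫ g) * (h ≫ t ≫ b) * (toUnit X ≫ g)⁻¹ = (h ≫ t ≫ φ.hom) ≫ b' := by
      rw [← CartanTorus.comp_conjIso, Category.assoc, Category.assoc, hφ, Category.assoc, Category.assoc]
    have e2 := congrArg (fun w => (h ≫ w) ≫ b') hψ
    simp only [MonObj.comp_mul, GrpObj.comp_inv, MonObj.mul_comp, GrpObj.inv_comp, ← Category.assoc,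
      toUnit_unique (h ≫ toUnit _) (toUnit X)] at e2
    simp only [Category.assoc] at e1 e2
    rw [hv', ht₀] at e2
    simp only [n, MonObj.comp_mul]
    rw [show (toUnit X ≫ β ≫ b') * (toUnit X ≫ g) * (h ≫ t ≫ b) * ((toUnit X ≫ β ≫ b') * (toUnit X ≫ g))⁻¹ =
      (toUnit X ≫ β ≫ b') * ((toUnit X ≫ g) * (h ≫ t ≫ b) * (toUnit X ≫ g)⁻¹) * (toUnit X ≫ β ≫ b')⁻¹ by group,
      e1, e2]
    simp only [Category.assoc]
  obtain ⟨z₁, hz₁⟩ := (hZ.2.2 Z ((toUnit Z ≫ n) * z * (toUnit Z ≫ n)⁻¹)).2 fun X x h => by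
    have hh := (hn X (h ≫ ψ.inv)).symm
    simp only [Category.assoc, Iso.inv_hom_id_assoc] at hh
    simp only [MonObj.comp_mul, GrpObj.comp_inv, ← Category.assoc, toUnit_unique (x ≫ toUnit _) (toUnit X)]
    simp only [Category.assoc]
    rw [hh]
    have hc := (hZ.2.2 Z z).1 ⟨𝟙 _, Category.id_comp _⟩ X x (h ≫ ψ.inv)
    simp only [Category.assoc] at hc
    generalize toUnit X ≫ n = W at *
    generalize x ≫ z = A at *
    generalize h ≫ ψ.inv ≫ t ≫ b = R at *
    calc W * A * W⁻¹ * (W * R * W⁻¹) = W * (A * R) * W⁻¹ := by group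
      _ = W * (R * A) * W⁻¹ := by rw [hc]
      _ = W * R * W⁻¹ * (W * A * W⁻¹) := by group
  -- hence `g` conjugates the centralizer into `B'`
  refine ⟨((toUnit Z ≫ β)⁻¹ * (z₁ ≫ v') * (toUnit Z ≫ β)) ≫ φ.inv, ?_⟩
  rw [← cancel_mono (CartanTorus.conjIso g).hom, Category.assoc, Category.assoc, hφ, Iso.inv_hom_id_assoc,
    CartanTorus.comp_conjIso]
  simp only [MonObj.mul_comp, GrpObj.inv_comp, Category.assoc, hv', hz₁, n, MonObj.comp_mul]
  group

/-- Cartan subgroups of a Borel subgroup of a connected group are Cartan subgroups. -/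
theorem isCartanOver_comp {G B C : Over (Spec (CommRingCat.of k))} [GrpObj G] [GrpObj B] [GrpObj C]
    [Smooth G.hom] [QuasiCompact G.hom] [ConnectedSpace G.left] (b : B ⟶ G) (hB : Red.IsBorelOver k b)
    (c : C ⟶ B) (hC : SGA3x.IsCartanOver k c) : SGA3x.IsCartanOver k (c ≫ b) := by
  obtain ⟨hcm, hcmono, T, _, t, hT, hcen⟩ := hC
  haveI := hcm
  haveI := hcmono
  haveI := hB.1
  haveI := hB.2.1
  haveI : Mono b := Over.mono_of_mono_left _
  have hTG := isMaximalTorus_comp_connected b hB t hT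
  haveI := hTG.1
  haveI := hTG.2.1
  obtain ⟨Z, _, z, hZ, -, -⟩ := exists_centralizer_torus hTG.2.2.1 (t ≫ b)
  obtain ⟨v, hv⟩ := exists_factor_borel b hB t hTG z hZ
  refine ⟨inferInstance, mono_comp _ _, T, inferInstance, t ≫ b, hTG, inferInstance, mono_comp _ _,
    fun X g => ⟨?_, fun H => ?_⟩⟩
  · rintro ⟨c₀, rfl⟩ X' x h
    have := congrArg (· ≫ b) ((hcen.2.2 X (c₀ ≫ c)).1 ⟨c₀, rfl⟩ X' x h)
    simpa only [MonObj.mul_comp, Category.assoc] using this
  · obtain ⟨z₀, rfl⟩ := (hZ.2.2 X g).2 H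
    obtain ⟨c₀, hc₀⟩ := (hcen.2.2 X (z₀ ≫ v)).2 fun X' x h => by
      rw [← cancel_mono b]
      have := H X' x h
      simpa only [MonObj.mul_comp, Category.assoc, hv] using this
    exact ⟨c₀, by rw [← Category.assoc, hc₀, Category.assoc, hv]⟩

end Groth.Agent.Lib.SmWeil.BorelTori
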