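import Groth.Agent.Lib.SmWeil.BorelTori
import Groth.Agent.Lib.SmWeil.BorelNormalizer
import Groth.Agent.Lib.GrpQ.RedSubgroup
import Groth.Agent.Lib.GrpQ.FlatHom
import Groth.Agent.Lib.GrpSch.Translate
import Groth.Agent.H1.GrpIrred
import Groth.Agent.S18825

/-!
# Borel subgroups under surjective homomorphisms with central kernel
-/

set_option autoImplicit false
set_option linter.style.haveILetI false
set_option linter.unusedSectionVars false

universe u

open CategoryTheory CategoryTheory.Limits AlgebraicGeometry MonoidalCategory CartesianMonoidalCategory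
open CategoryTheory.MonObj CategoryTheory.GrpObj
open Groth.Agent.Lib

namespace Groth.Agent.Lib.SmWeil.BorelPreimage

variable {k : Type u} [Field k] [IsAlgClosed k]

local notation3 "pt" => (𝟙_ (Over (Spec (CommRingCat.of k))))

/-- A closed immersion is a monomorphism. -/
theorem mono_of_closed {S : Scheme.{u}} {X Y : Over S} (f : X ⟶ Y) [IsClosedImmersion f.left] : Mono f := by
  haveI : Mono f.left := inferInstance
  exact Over.mono_of_mono_left f

/-- A surjective homomorphism of algebraic groups is surjective on the identity component. -/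
theorem surjective_idComp {R R₀ B : Over (Spec (CommRingCat.of k))} [GrpObj R] [GrpObj R₀] [GrpObj B]
    [LocallyOfFiniteType R.hom] [QuasiCompact R.hom] [LocallyOfFiniteType R₀.hom] [QuasiCompact R₀.hom]
    [Smooth B.hom] [QuasiCompact B.hom] [ConnectedSpace B.left]
    (j : R₀ ⟶ R) [IsMonHom j] [IsOpenImmersion j.left] (f : R ⟶ B) [IsMonHom f] [Surjective f.left] :
    Surjective (j ≫ f).left := by
  haveI := H1.GrpIrred.irreducibleSpace B
  haveI : IsReduced B.left := GrpSch.isReduced_of_smooth_field B.hom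
  haveI : CompactSpace R.left := HasAffineProperty.iff_of_isAffine.mp ‹QuasiCompact R.hom›
  haveI : JacobsonSpace R.left := LocallyOfFiniteType.jacobsonSpace R.hom
  let tr : (pt ⟶ R) → Set R.left := fun h =>
    (GrpSch.translate (GrpSch.regularAction R) h).hom.left '' Set.range j.left
  have hopen : ∀ h, IsOpen (tr h) := fun h => by
    haveI : IsIso (GrpSch.translate (GrpSch.regularAction R) h).hom.left :=
      ((Over.forget _).mapIso (GrpSch.translate (GrpSch.regularAction R) h)).isIso_hom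
    exact (GrpSch.translate (GrpSch.regularAction R) h).hom.left.isOpenEmbedding.isOpenMap _
      j.left.isOpenEmbedding.isOpen_range
  let o : ↥(pt).left := IsLocalRing.closedPoint k
  have hcov : (Set.univ : Set R.left) ⊆ ⋃ h, tr h := by
    intro y _
    by_contra hy
    obtain ⟨c, hc, hcc⟩ := nonempty_inter_closedPoints (X := R.left) (Z := (⋃ h, tr h)ᶜ) ⟨y, hy⟩
      (isOpen_iUnion hopen).isClosed_compl.isLocallyClosed
    obtain ⟨p, hp⟩ := GrpSch.exists_point_mem (W := {c}) hcc (Set.singleton_nonempty c)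
    refine hc (Set.mem_iUnion.2 ⟨p, ?_⟩)
    have e : η[R₀] ≫ j ≫ (GrpSch.translate (GrpSch.regularAction R) p).hom = p := by
      rw [IsMonHom.one_hom_assoc, GrpSch.translate_regular_apply, show η[R] = (1 : pt ⟶ R) by
        rw [Hom.one_def, toUnit_unique (toUnit _) (𝟙 _), Category.id_comp], _root_.mul_one]
    refine ⟨j.left (η[R₀].left o), ⟨_, rfl⟩, ?_⟩
    rw [← Scheme.Hom.comp_apply, ← Over.comp_left, ← Scheme.Hom.comp_apply, ← Over.comp_left, e]
    exact hp ⟨o, rfl⟩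
  obtain ⟨s, hs⟩ := isCompact_univ.elim_finite_subcover tr hopen hcov
  let Z : Set B.left := closure (Set.range (j ≫ f).left)
  let T : (pt ⟶ R) → Set B.left := fun h =>
    (GrpSch.translate (GrpSch.regularAction B) (h ≫ f)).hom.left '' Z
  classical
  obtain ⟨z, hz, hzu⟩ := isIrreducible_iff_sUnion_isClosed.1 (IrreducibleSpace.isIrreducible_univ B.left)
    (s.image T) (fun z hz => by
      obtain ⟨h, -, rfl⟩ := Finset.mem_image.1 hz
      haveI : IsIso (GrpSch.translate (GrpSch.regularAction B) (h ≫ f)).hom.left :=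
        ((Over.forget _).mapIso (GrpSch.translate (GrpSch.regularAction B) (h ≫ f))).isIso_hom
      exact (GrpSch.translate (GrpSch.regularAction B) (h ≫ f)).hom.left.isClosedEmbedding.isClosedMap _ isClosed_closure)
    (fun y _ => by
      obtain ⟨r, rfl⟩ := f.left.surjective y
      obtain ⟨h, hh, a, ⟨a₀, rfl⟩, rfl⟩ := by simpa only [Set.mem_iUnion, exists_prop] using hs (Set.mem_univ r)
      refine Set.mem_sUnion.2 ⟨T h, Finset.mem_coe.2 (Finset.mem_image_of_mem T hh), (j ≫ f).left a₀,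
        subset_closure ⟨a₀, rfl⟩, ?_⟩
      rw [Over.comp_left, Scheme.Hom.comp_apply, ← Scheme.Hom.comp_apply f.left, ← Over.comp_left,
        ← GrpSch.hom_translate_comm, Over.comp_left, Scheme.Hom.comp_apply])
  obtain ⟨h, -, rfl⟩ := Finset.mem_image.1 hz
  have hZ : Z = Set.univ := by
    haveI : IsIso (GrpSch.translate (GrpSch.regularAction B) (h ≫ f)).hom.left :=
      ((Over.forget _).mapIso (GrpSch.translate (GrpSch.regularAction B) (h ≫ f))).isIso_hom
    refine Set.eq_univ_of_forall fun x => ?_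
    obtain ⟨w, hw, e⟩ := hzu (Set.mem_univ ((GrpSch.translate (GrpSch.regularAction B) (h ≫ f)).hom.left x))
    rwa [(GrpSch.translate (GrpSch.regularAction B) (h ≫ f)).hom.left.isClosedEmbedding.injective e] at hw
  obtain ⟨C, hC, p, c, hp, hc, hpc, hstd, hcl⟩ := GrpQ.Image.exists_image (j ≫ f)
  haveI := hcl
  haveI := hstd
  haveI : QuasiCompact (j ≫ f).left := GrpQ.quasiCompact_left _
  haveI : Surjective c.left := ⟨Set.range_eq_univ.1 (Set.univ_subset_iff.1 (hZ ▸
    closure_minimal (by rintro _ ⟨a, rfl⟩; rw [← hpc, Over.comp_left, Scheme.Hom.comp_apply]; exact ⟨_, rfl⟩)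
      c.left.isClosedEmbedding.isClosed_range))⟩
  haveI : Surjective p.left := (S18825.result k R₀ B C (j ≫ f) c p hpc).2
  rw [← hpc, Over.comp_left]
  infer_instance

variable {G G' : Over (Spec (CommRingCat.of k))} [GrpObj G] [GrpObj G'] [Smooth G.hom] [QuasiCompact G.hom]
  [ConnectedSpace G.left] [Smooth G'.hom] [QuasiCompact G'.hom] [ConnectedSpace G'.left]
  (u : G ⟶ G') [IsMonHom u] [Surjective u.left]
  (hker : ∀ (X : Over (Spec (CommRingCat.of k))) (z g : X ⟶ G), z ≫ u = 1 → Commute z g)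

include hker

/-- A central kernel lies in every Borel subgroup. -/
theorem ker_le_borel {B : Over (Spec (CommRingCat.of k))} [GrpObj B] (b : B ⟶ G) (hB : Red.IsBorelOver k b)
    {X : Over (Spec (CommRingCat.of k))} (z : X ⟶ G) (hz : z ≫ u = 1) : ∃ w, w ≫ b = z :=
  BorelNormalizer.factor_of_fwd b hB z fun X' x h => ⟨h, by
    rw [(hker X' (x ≫ z) (h ≫ b) (by rw [Category.assoc, hz, MonObj.comp_one])).eq, mul_inv_cancel_right]⟩

omit hker

section Gen

variable
  (hBor : ∀ {B : Over (Spec (CommRingCat.of k))} [GrpObj B] (b : B ⟶ G), Red.IsBorelOver k b →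
    ∀ {X : Over (Spec (CommRingCat.of k))} (z : X ⟶ G), z ≫ u = 1 → ∃ w, w ≫ b = z)
  (hext : ∀ {P C : Over (Spec (CommRingCat.of k))} [GrpObj P] [GrpObj C] (j : P ⟶ G) [IsMonHom j] [Mono j]
    (π : P ⟶ C) [IsMonHom π],
    (∀ (X : Over (Spec (CommRingCat.of k))) (x : X ⟶ P), x ≫ π = 1 → (x ≫ j) ≫ u = 1) →
    Red.IsSolvableGrp C → Red.IsSolvableGrp P)

include hBor hext

/-- The preimage of a Borel subgroup is a Borel subgroup. -/
theorem exists_borel_preimage_gen {B' : Over (Spec (CommRingCat.of k))} [GrpObj B'] (b' : B' ⟶ G')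
    (hB' : Red.IsBorelOver k b') :
    ∃ (B : Over (Spec (CommRingCat.of k))) (_ : GrpObj B) (b : B ⟶ G), Red.IsBorelOver k b ∧
      ∀ (X : Over (Spec (CommRingCat.of k))) (x : X ⟶ G), (∃ y, y ≫ b' = x ≫ u) ↔ ∃ z, z ≫ b = x := by
  obtain ⟨hb'm, hb'cl, hB's, hB'c, hB'sol, hmax⟩ := hB'
  haveI := hb'm
  haveI := hb'cl
  haveI : Mono b' := mono_of_closed _
  haveI := hB's
  haveI := hB'c
  haveI : QuasiCompact B'.hom := by rw [← Over.w b']; infer_instance
  haveI : IsReduced B'.left := GrpSch.isReduced_of_smooth_field B'.hom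
  obtain ⟨P, hPg, b, π, hb, hπ, hbcl, hsq, hpb, huniv⟩ := BorelHull.exists_preimage u b'
  haveI := hb
  haveI := hπ
  haveI := hbcl
  haveI : Mono b := mono_of_closed _
  haveI : Surjective π.left := MorphismProperty.of_isPullback hpb ‹Surjective u.left›
  haveI : LocallyOfFiniteType P.hom := by rw [← Over.w b]; infer_instance
  haveI : QuasiCompact P.hom := by rw [← Over.w b]; infer_instance
  obtain ⟨R, hRg, iR, hiR, hiRcl, hiRs, hRred⟩ := GrpQ.RedSubgroup.exists_reduced_subgroup P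
  haveI := hiR
  haveI := hiRcl
  haveI := hiRs
  haveI := hRred
  haveI : LocallyOfFiniteType R.hom := by rw [← Over.w iR]; infer_instance
  haveI : QuasiCompact R.hom := by rw [← Over.w iR]; infer_instance
  haveI : Smooth R.hom := by
    haveI : GrpObj (Over.mk R.hom) := inferInstanceAs (GrpObj R)
    exact H1.Classical.Smooth.smooth_of_isReduced R.hom
  obtain ⟨R₀, hR₀g, j, hj, hjcl, hjo, hR₀s, hR₀q, hR₀c, -⟩ := BorelTori.exists_idComp R
  haveI := hj
  haveI := hjcl
  haveI := hjo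
  haveI := hR₀s
  haveI := hR₀q
  haveI := hR₀c
  haveI : Surjective (iR ≫ π).left := by rw [Over.comp_left]; infer_instance
  haveI hπ₀ : Surjective (j ≫ iR ≫ π).left := surjective_idComp j (iR ≫ π)
  haveI : Mono (j ≫ iR ≫ b) := by
    haveI : Mono j := mono_of_closed _
    haveI : Mono iR := mono_of_closed _
    infer_instance
  have hsol : Red.IsSolvableGrp R₀ := hext (j ≫ iR ≫ b) (j ≫ iR ≫ π)
    (fun X x hx => by
      rw [show (x ≫ j ≫ iR ≫ b) ≫ u = (x ≫ j ≫ iR ≫ π) ≫ b' by simp only [Category.assoc, hsq], hx,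
        MonObj.one_comp]) hB'sol
  obtain ⟨B₁, hB₁g, b₁, v, hB₁, hv⟩ := BorelTori.exists_borel_ge (j ≫ iR ≫ b) hsol
  obtain ⟨hb₁m, hb₁cl, hB₁s, hB₁c, hB₁sol, -⟩ := id hB₁
  haveI := hb₁m
  haveI := hb₁cl
  haveI := hB₁s
  haveI := hB₁c
  haveI : QuasiCompact B₁.hom := by rw [← Over.w b₁]; infer_instance
  obtain ⟨B₂, hB₂g, b₂, v₂, hB₂, hv₂⟩ := BorelTori.exists_borel_ge (b₁ ≫ u) hB₁sol
  haveI := hB₂.2.1
  obtain ⟨f, hf⟩ := BorelHull.exists_fac_of_surjective (j ≫ iR ≫ π) b₂ b' (v ≫ v₂) (by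
    rw [Category.assoc v, hv₂, ← Category.assoc v, hv, Category.assoc, Category.assoc, Category.assoc,
      Category.assoc, hsq])
  haveI := hB₂.1
  haveI : IsIso f := hmax B₂ b₂ f hB₂.2.1 hB₂.2.2.1 hB₂.2.2.2.1 hB₂.2.2.2.2.1 hf
  obtain ⟨w, hw⟩ := huniv B₁ b₁ ⟨v₂ ≫ CategoryTheory.inv f, by
    rw [Category.assoc, ← hf, IsIso.inv_hom_id_assoc, hv₂]⟩
  -- the preimage is contained in `B₁`
  haveI : LocallyOfFiniteType R₀.hom := inferInstance
  haveI : Flat (j ≫ iR ≫ π).left := GrpQ.flat_of_surjective_of_smooth (j ≫ iR ≫ π)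
  have hcov : GrpQ.IsCover (j ≫ iR ≫ π) := GrpQ.isCover_hom _
  haveI : Mono b₁ := mono_of_closed _
  have hle : ∀ (X : Over (Spec (CommRingCat.of k))) (x : X ⟶ P), ∃ z, z ≫ b₁ = x ≫ b := fun X x => by
    obtain ⟨T', p, y, hp, hy⟩ := GrpQ.exists_lift hcov (x ≫ π)
    obtain ⟨z₁, hz₁⟩ := hBor b₁ hB₁ (((y ≫ j ≫ iR) ≫ b)⁻¹ * (p ≫ x ≫ b)) (by
      simp only [MonObj.mul_comp, GrpObj.inv_comp, Category.assoc, ← hsq]
      rw [show y ≫ j ≫ iR ≫ π ≫ b' = (y ≫ j ≫ iR ≫ π) ≫ b' by simp only [Category.assoc], hy]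
      simp only [Category.assoc]
      exact inv_mul_cancel _)
    refine GrpQ.exists_factor b₁ (x ≫ b) hp ((y ≫ v) * z₁) ?_
    rw [MonObj.mul_comp, hz₁, Category.assoc, hv]
    simp only [Category.assoc]
    exact mul_inv_cancel_left _ _
  obtain ⟨w', hw'⟩ := hle P (𝟙 P)
  rw [Category.id_comp] at hw'
  exact ⟨B₁, hB₁g, b₁, hB₁, fun X x => ⟨fun h => by
      obtain ⟨z, hz⟩ := huniv X x h
      exact ⟨z ≫ w', by rw [Category.assoc, hw', hz]⟩,
    fun ⟨z, hz⟩ => ⟨z ≫ w ≫ π, by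
      simp only [Category.assoc, hsq]
      rw [← Category.assoc w, hw, ← Category.assoc, hz]⟩⟩⟩

/-- Every Borel subgroup is the preimage of a Borel subgroup. -/
theorem exists_borel_image_gen {B : Over (Spec (CommRingCat.of k))} [GrpObj B] (b : B ⟶ G)
    (hB : Red.IsBorelOver k b) :
    ∃ (B' : Over (Spec (CommRingCat.of k))) (_ : GrpObj B') (b' : B' ⟶ G'), Red.IsBorelOver k b' ∧
      ∀ (X : Over (Spec (CommRingCat.of k))) (x : X ⟶ G), (∃ y, y ≫ b' = x ≫ u) ↔ ∃ z, z ≫ b = x := by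
  haveI := hB.1
  haveI := hB.2.1
  haveI := hB.2.2.1
  haveI := hB.2.2.2.1
  haveI : QuasiCompact B.hom := by rw [← Over.w b]; infer_instance
  obtain ⟨B', hB'g, b', v, hB', hv⟩ := BorelTori.exists_borel_ge (b ≫ u) hB.2.2.2.2.1
  obtain ⟨P, hPg, p, hP, hiff⟩ := exists_borel_preimage_gen u hBor hext b' hB'
  obtain ⟨f, hf⟩ := (hiff B b).mp ⟨v, hv⟩
  haveI := hP.1
  haveI : IsIso f := hB.2.2.2.2.2 P p f hP.2.1 hP.2.2.1 hP.2.2.2.1 hP.2.2.2.2.1 hf
  refine ⟨B', hB'g, b', hB', fun X x => (hiff X x).trans ⟨fun ⟨z, hz⟩ => ⟨z ≫ CategoryTheory.inv f, ?_⟩,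
    fun ⟨z, hz⟩ => ⟨z ≫ f, by rw [Category.assoc, hf, hz]⟩⟩⟩
  rw [Category.assoc, ← hf, IsIso.inv_hom_id_assoc, hz]

end Gen

include hker

/-- The extension condition for a central kernel. -/
theorem ext_of_central {P C : Over (Spec (CommRingCat.of k))} [GrpObj P] [GrpObj C] (j : P ⟶ G) [IsMonHom j] [Mono j]
    (π : P ⟶ C) [IsMonHom π] (h : ∀ (X : Over (Spec (CommRingCat.of k))) (x : X ⟶ P), x ≫ π = 1 → (x ≫ j) ≫ u = 1)
    (hC : Red.IsSolvableGrp C) : Red.IsSolvableGrp P :=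
  BorelHull.isSolvableGrp_of_central j π (fun X x _ hx => hker X _ _ (h X x hx)) hC

/-- The preimage of a Borel subgroup is a Borel subgroup. -/
theorem exists_borel_preimage {B' : Over (Spec (CommRingCat.of k))} [GrpObj B'] (b' : B' ⟶ G')
    (hB' : Red.IsBorelOver k b') :
    ∃ (B : Over (Spec (CommRingCat.of k))) (_ : GrpObj B) (b : B ⟶ G), Red.IsBorelOver k b ∧
      ∀ (X : Over (Spec (CommRingCat.of k))) (x : X ⟶ G), (∃ y, y ≫ b' = x ≫ u) ↔ ∃ z, z ≫ b = x :=
  exists_borel_preimage_gen u (ker_le_borel u hker) (ext_of_central u hker) b' hB'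

/-- Every Borel subgroup is the preimage of a Borel subgroup. -/
theorem exists_borel_image {B : Over (Spec (CommRingCat.of k))} [GrpObj B] (b : B ⟶ G)
    (hB : Red.IsBorelOver k b) :
    ∃ (B' : Over (Spec (CommRingCat.of k))) (_ : GrpObj B') (b' : B' ⟶ G'), Red.IsBorelOver k b' ∧
      ∀ (X : Over (Spec (CommRingCat.of k))) (x : X ⟶ G), (∃ y, y ≫ b' = x ≫ u) ↔ ∃ z, z ≫ b = x :=
  exists_borel_image_gen u (ker_le_borel u hker) (ext_of_central u hker) b hB

end Groth.Agent.Lib.SmWeil.BorelPreimage
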