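import Groth.Agent.Lib.SmWeil.BorelPreimage
import Groth.Agent.Lib.GrpSch.ClosedDescent
import Groth.Agent.Lib.StCurv.Smooth
import Groth.Agent.Lib.GrpQ.InfSub
import Groth.Agent.Lib.GrpQ.Desc
import Groth.Agent.Lib.SmoothDesc.Scheme

/-!
# Borel subgroup schemes under faithfully flat homomorphisms with central kernel
-/

set_option autoImplicit false
set_option linter.style.haveILetI false
set_option linter.unusedSectionVars false

universe u

open CategoryTheory CategoryTheory.Limits AlgebraicGeometry MonoidalCategory CartesianMonoidalCategory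
open CategoryTheory.MonObj CategoryTheory.GrpObj
open Groth.Agent.Lib Groth.Agent.H87
open Groth.Agent.Lib.RedPts

namespace Groth.Agent.Lib.SmWeil.BorelPreimageRel

/-- Being a Borel subgroup is invariant under isomorphisms. -/
theorem isBorelOver_congr {K : Type u} [Field K] [IsAlgClosed K] {G B₁ B₂ : Over (Spec (CommRingCat.of K))}
    [GrpObj G] [GrpObj B₁] [GrpObj B₂] {b₁ : B₁ ⟶ G} (b₂ : B₂ ⟶ G) [IsMonHom b₂] (e : B₂ ≅ B₁)
    (he : e.hom ≫ b₁ = b₂) (h : Red.IsBorelOver K b₁) : Red.IsBorelOver K b₂ := by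
  obtain ⟨h1, h2, h3, h4, h5, h6⟩ := h
  haveI := h1
  haveI := h2
  haveI : Mono b₁ := BorelPreimage.mono_of_closed b₁
  haveI : IsMonHom e.hom := by
    constructor
    · rw [← cancel_mono b₁, Category.assoc, he, IsMonHom.one_hom, IsMonHom.one_hom]
    · rw [← cancel_mono b₁, Category.assoc, he, IsMonHom.mul_hom, Category.assoc, IsMonHom.mul_hom,
        MonoidalCategory.tensorHom_comp_tensorHom_assoc, he]
  haveI : IsIso e.hom.left := ((Over.forget _).mapIso e).isIso_hom
  refine ⟨inferInstance, ?_, ?_, ?_, H1.Classical.Scheme'.isSolvableGrp_of_mono e.hom h5, ?_⟩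
  · rw [← he, Over.comp_left]
    infer_instance
  · rw [← Over.w e.hom]
    haveI := h3
    infer_instance
  · haveI := h4
    exact Function.Surjective.connectedSpace (f := e.inv.left)
      (fun x => ⟨e.hom.left x, by rw [← Scheme.Hom.comp_apply, ← Over.comp_left, e.hom_inv_id]; rfl⟩)
      e.inv.left.continuous
  · intro B' _ b' _ f i2 i3 i4 i5 hf
    haveI := h6 B' b' (e.inv ≫ f) i2 i3 i4 i5 (by rw [Category.assoc, hf, ← he, e.inv_hom_id_assoc])
    rw [show f = e.hom ≫ e.inv ≫ f by rw [e.hom_inv_id_assoc]]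
    infer_instance

/-- Smoothness at a point lying over the image of a base change with smooth projection. -/
theorem smoothCond_of_snd {X Y T : Scheme.{u}} (f : X ⟶ Y) [Flat f] [LocallyOfFinitePresentation f] (g : T ⟶ Y)
    (h : Smooth (pullback.snd f g)) (x : X) (hx : f x ∈ Set.range g) : StCurv.smoothCond f x := by
  have hx' : x ∈ Set.range (pullback.fst f g) := by
    rw [Scheme.Pullback.range_fst]
    exact hx
  obtain ⟨z, rfl⟩ := hx'
  exact StCurv.smoothCond_of_bc (IsPullback.of_hasPullback f g) z ⟨⊤, trivial, by infer_instance⟩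

variable {S : Scheme.{u}} {G G' : Over S} [GrpObj G] [GrpObj G'] [Smooth G.hom] [QuasiCompact G.hom]
  [QuasiSeparated G.hom] [Smooth G'.hom] [QuasiCompact G'.hom] [QuasiSeparated G'.hom]
  (hconn : ∀ s : S, _root_.IsConnected (G.hom.base ⁻¹' {s}))
  (hconn' : ∀ s : S, _root_.IsConnected (G'.hom.base ⁻¹' {s}))
  (u : G ⟶ G') [IsMonHom u] [Flat u.left] [Surjective u.left]
  (hker : ∀ (X : Over S) (z : X ⟶ G), z ≫ u = 1 → ∀ (X' : Over S) (x : X' ⟶ X) (g : X' ⟶ G),
    (x ≫ z) * g = g * (x ≫ z))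

/-- The base change of a group with connected fibres to a geometric point. -/
theorem connected_bc (H : Over S) [GrpObj H] (hH : ∀ s : S, _root_.IsConnected (H.hom.base ⁻¹' {s})) (s : S) :
    ConnectedSpace ↥(Red.bc (Red.geomPt s) H).left := by
  haveI := CartanOpen.geometricallyConnected_of_fibres H hH
  refine connectedSpace_iff_univ.2 ?_
  convert CartanOpen.isConnected_fibres (Red.geomPt s) H (IsLocalRing.closedPoint _) using 1
  exact (Set.eq_univ_of_forall fun x => Subsingleton.elim (α := PrimeSpectrum _) _ _).symm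

/-- The geometric point lies over its point. -/
theorem geomPt_mem (s : S) : s ∈ Set.range (Red.geomPt s) :=
  ⟨IsLocalRing.closedPoint _, Scheme.fromSpecResidueField_apply s _⟩

section Gen

variable
  (hBor : ∀ (s : S) {B : Over (Spec (CommRingCat.of (AlgebraicClosure (S.residueField s))))} [GrpObj B]
    (b : B ⟶ Red.bc (Red.geomPt s) G), Red.IsBorelOver (AlgebraicClosure (S.residueField s)) b →
    ∀ {X : Over (Spec (CommRingCat.of (AlgebraicClosure (S.residueField s))))} (z : X ⟶ Red.bc (Red.geomPt s) G),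
      z ≫ (Over.pullback (Red.geomPt s)).map u = 1 → ∃ w, w ≫ b = z)
  (hext : ∀ (s : S) {P C : Over (Spec (CommRingCat.of (AlgebraicClosure (S.residueField s))))} [GrpObj P] [GrpObj C]
    (j : P ⟶ Red.bc (Red.geomPt s) G) [IsMonHom j] [Mono j] (π : P ⟶ C) [IsMonHom π],
    (∀ (X : Over (Spec (CommRingCat.of (AlgebraicClosure (S.residueField s))))) (x : X ⟶ P),
      x ≫ π = 1 → (x ≫ j) ≫ (Over.pullback (Red.geomPt s)).map u = 1) →
    Red.IsSolvableGrp C → Red.IsSolvableGrp P)

include hconn hconn' hBor hext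

theorem preimage_borel_gen {B' B : Over S} [GrpObj B'] (b' : B' ⟶ G') [IsMonHom b'] [Mono b'] [Smooth B'.hom]
    [QuasiCompact B'.hom]
    (hB' : ∀ s : S, Red.IsBorelOver (AlgebraicClosure (S.residueField s)) ((Over.pullback (Red.geomPt s)).map b'))
    [GrpObj B] (b : B ⟶ G) [IsMonHom b] (v : B ⟶ B') (H : IsPullback b v u b') :
    IsMonHom b ∧ Mono b ∧ Smooth B.hom ∧ QuasiCompact B.hom ∧
      ∀ s : S, Red.IsBorelOver (AlgebraicClosure (S.residueField s)) ((Over.pullback (Red.geomPt s)).map b) := by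
  haveI : Mono b := ⟨fun x y e => H.hom_ext e ((cancel_mono b').1 (by
    rw [Category.assoc, Category.assoc, ← H.w, reassoc_of% e]))⟩
  have hgeo : ∀ s : S, Red.IsBorelOver (AlgebraicClosure (S.residueField s))
      ((Over.pullback (Red.geomPt s)).map b) := fun s => by
    let g := Red.geomPt s
    haveI : Smooth (Red.bc g G).hom := MorphismProperty.pullback_snd (P := @Smooth) _ _ inferInstance
    haveI : QuasiCompact (Red.bc g G).hom := MorphismProperty.pullback_snd (P := @QuasiCompact) _ _ inferInstance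
    haveI : Smooth (Red.bc g G').hom := MorphismProperty.pullback_snd (P := @Smooth) _ _ inferInstance
    haveI : QuasiCompact (Red.bc g G').hom := MorphismProperty.pullback_snd (P := @QuasiCompact) _ _ inferInstance
    haveI := connected_bc G hconn s
    haveI := connected_bc G' hconn' s
    haveI : Surjective ((Over.pullback g).map u).left :=
      MorphismProperty.of_isPullback (Charts.isPullback_map g u) ‹Surjective u.left›
    obtain ⟨B₁, hB₁g, b₁, hB₁, hiff⟩ :=
      BorelPreimage.exists_borel_preimage_gen ((Over.pullback g).map u) (hBor s) (hext s) _ (hB' s)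
    haveI := hB₁.2.1
    haveI : Mono b₁ := BorelPreimage.mono_of_closed b₁
    have HF := H.map (Over.pullback g)
    obtain ⟨f₁, hf₁⟩ := (hiff _ ((Over.pullback g).map b)).1 ⟨(Over.pullback g).map v, HF.w.symm⟩
    obtain ⟨y, hy⟩ := (hiff _ b₁).2 ⟨𝟙 B₁, Category.id_comp _⟩
    refine isBorelOver_congr _ ⟨f₁, HF.lift b₁ y hy.symm, ?_, ?_⟩ hf₁ hB₁
    · rw [← cancel_mono ((Over.pullback g).map b), Category.assoc, HF.lift_fst, hf₁, Category.id_comp]
    · rw [← cancel_mono b₁, Category.assoc, hf₁, HF.lift_fst, Category.id_comp]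
  have Hs := H.map (Over.forget S)
  haveI : LocallyOfFinitePresentation u.left := lfp_left u
  haveI : QuasiCompact u.left := by
    haveI : QuasiCompact (u.left ≫ G'.hom) := by rw [Over.w]; infer_instance
    exact QuasiCompact.of_comp u.left G'.hom
  haveI : Flat v.left := MorphismProperty.of_isPullback Hs ‹Flat u.left›
  haveI : LocallyOfFinitePresentation v.left :=
    MorphismProperty.of_isPullback Hs ‹LocallyOfFinitePresentation u.left›
  haveI : QuasiCompact v.left := MorphismProperty.of_isPullback Hs ‹QuasiCompact u.left›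
  haveI : Flat B.hom := by rw [← Over.w v]; infer_instance
  haveI : LocallyOfFinitePresentation B.hom := by rw [← Over.w v]; infer_instance
  refine ⟨inferInstance, inferInstance, (StCurv.smooth_iff_forall B.hom).2 fun x => ?_,
    by rw [← Over.w v]; infer_instance, hgeo⟩
  exact smoothCond_of_snd B.hom (Red.geomPt (B.hom x)) (hgeo (B.hom x)).2.2.1 x (geomPt_mem _)

theorem image_borel_gen {B : Over S} [GrpObj B] (b : B ⟶ G) [IsMonHom b] [Mono b] [Smooth B.hom] [QuasiCompact B.hom]
    (hB : ∀ s : S, Red.IsBorelOver (AlgebraicClosure (S.residueField s)) ((Over.pullback (Red.geomPt s)).map b))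
    (hkerB : ∀ {X : Over S} (z : X ⟶ G), z ≫ u = 1 → ∃ w, w ≫ b = z) :
    ∃ (B' : Over S) (_ : GrpObj B') (b' : B' ⟶ G') (v : B ⟶ B'), (IsMonHom b' ∧ Mono b' ∧ Smooth B'.hom ∧
      QuasiCompact B'.hom ∧ ∀ s : S,
        Red.IsBorelOver (AlgebraicClosure (S.residueField s)) ((Over.pullback (Red.geomPt s)).map b')) ∧
      IsMonHom v ∧ IsPullback b v u b' := by
  obtain ⟨⟨-, -, hnorm⟩, hbcl⟩ := BorelNormalizer.self_normalizing G hconn B b hB
  haveI := hbcl
  haveI : LocallyOfFinitePresentation u.left := lfp_left u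
  haveI : QuasiCompact u.left := by
    haveI : QuasiCompact (u.left ≫ G'.hom) := by rw [Over.w]; infer_instance
    exact QuasiCompact.of_comp u.left G'.hom
  have hcov : GrpQ.IsCover u := GrpQ.IsCover.mk' u
  have hsat : ∀ {T : Over S} (a₀ a₁ : T ⟶ G), a₀ ≫ u = a₁ ≫ u → (∃ v, v ≫ b = a₀) → ∃ v, v ≫ b = a₁ := by
    rintro T a₀ a₁ e ⟨v, rfl⟩
    obtain ⟨w, hw⟩ := hkerB ((v ≫ b)⁻¹ * a₁) (by rw [MonObj.mul_comp, GrpObj.inv_comp, e, inv_mul_cancel])
    exact ⟨v * w, by rw [MonObj.mul_comp, hw, mul_inv_cancel_left]⟩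
  obtain ⟨W, jW, q, hjW, hsq⟩ := GrpSch.exists_closedImmersion_descent u.left b.left (fun {T} x₀ x₁ e hx => by
    obtain ⟨v, hv⟩ := hx
    let a₀ : Over.mk (x₀ ≫ G.hom) ⟶ G := Over.homMk x₀ rfl
    let a₁ : Over.mk (x₀ ≫ G.hom) ⟶ G := Over.homMk x₁ (by
      change x₁ ≫ G.hom = x₀ ≫ G.hom
      rw [← Over.w u, reassoc_of% e])
    obtain ⟨v', hv'⟩ := hsat a₀ a₁ (Over.OverMorphism.ext e) ⟨Over.homMk v (by
      change v ≫ B.hom = x₀ ≫ G.hom
      rw [← Over.w b, reassoc_of% hv]), Over.OverMorphism.ext hv⟩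
    exact ⟨v'.left, congrArg (·.left) hv'⟩)
  let B' : Over S := Over.mk (jW ≫ G'.hom)
  let b' : B' ⟶ G' := Over.homMk jW rfl
  let v : B ⟶ B' := Over.homMk q (by
    change q ≫ jW ≫ G'.hom = B.hom
    rw [← Category.assoc, ← hsq.w, Category.assoc, Over.w, Over.w])
  haveI : IsClosedImmersion b'.left := hjW
  haveI : Mono b' := BorelPreimage.mono_of_closed b'
  have H : IsPullback b v u b' := IsPullback.of_map (Over.forget S) (Over.OverMorphism.ext hsq.w) hsq
  -- points of `B'` are closed under the group operations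
  have hsub : ∀ {T : Over S} (y₁ y₂ : T ⟶ B'), ∃ y, y ≫ b' = (y₁ ≫ b') * (y₂ ≫ b')⁻¹ := by
    intro T y₁ y₂
    obtain ⟨T₁, p₁, g₁, hp₁, e₁⟩ := GrpQ.exists_lift hcov (y₁ ≫ b')
    obtain ⟨T₂, p₂, g₂, hp₂, e₂⟩ := GrpQ.exists_lift hcov (p₁ ≫ y₂ ≫ b')
    let w₁ := H.lift (p₂ ≫ g₁) (p₂ ≫ p₁ ≫ y₁) (by simp only [Category.assoc]; rw [e₁])
    let w₂ := H.lift g₂ (p₂ ≫ p₁ ≫ y₂) (by simp only [Category.assoc]; rw [e₂])
    refine GrpQ.exists_factor b' ((y₁ ≫ b') * (y₂ ≫ b')⁻¹) (hp₂.comp hp₁) ((w₁ * w₂⁻¹) ≫ v) ?_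
    rw [Category.assoc, ← H.w, ← Category.assoc, MonObj.mul_comp, GrpObj.inv_comp, H.lift_fst, H.lift_fst,
      MonObj.mul_comp, GrpObj.inv_comp, Category.assoc, e₁, e₂, MonObj.comp_mul, GrpObj.comp_inv]
    simp only [Category.assoc]
  have h1 : ∀ (T : Over S), ∃ e : T ⟶ B', e ≫ b' = 1 := fun T =>
    ⟨toUnit T ≫ η[B] ≫ v, by
      rw [Category.assoc, Category.assoc, ← H.w, IsMonHom.one_hom_assoc, IsMonHom.one_hom, ← Hom.one_def]⟩
  have h3 : ∀ {T : Over S} (y : T ⟶ B'), ∃ y', y' ≫ b' = (y ≫ b')⁻¹ := fun {T} y => by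
    obtain ⟨e, he⟩ := h1 T
    obtain ⟨y', hy'⟩ := hsub e y
    exact ⟨y', by rw [hy', he, _root_.one_mul]⟩
  obtain ⟨hB'g, hb'⟩ := GrpQ.InfSub.exists_grpObj_of_mono b'
    (by
      obtain ⟨e, he⟩ := h1 (𝟙_ (Over S))
      exact ⟨e, by rw [he, Hom.one_def, toUnit_unique (toUnit _) (𝟙 _), Category.id_comp]⟩)
    (by
      obtain ⟨y', hy'⟩ := h3 (snd B' B')
      obtain ⟨m, hm⟩ := hsub (fst B' B') y'
      exact ⟨m, by rw [hm, hy', _root_.inv_inv]⟩)
    (by
      obtain ⟨y', hy'⟩ := h3 (𝟙 B')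
      exact ⟨y', by rw [hy', Category.id_comp]⟩)
  haveI := hb'
  haveI : IsMonHom v := by
    constructor
    · rw [← cancel_mono b', Category.assoc, ← H.w, IsMonHom.one_hom_assoc, IsMonHom.one_hom, IsMonHom.one_hom]
    · rw [← cancel_mono b', Category.assoc, ← H.w, IsMonHom.mul_hom_assoc, IsMonHom.mul_hom, Category.assoc,
        IsMonHom.mul_hom, MonoidalCategory.tensorHom_comp_tensorHom_assoc,
        MonoidalCategory.tensorHom_comp_tensorHom_assoc, H.w]
  have Hs := H.map (Over.forget S)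
  haveI : Flat v.left := MorphismProperty.of_isPullback Hs ‹Flat u.left›
  haveI : Surjective v.left := MorphismProperty.of_isPullback Hs ‹Surjective u.left›
  haveI : LocallyOfFinitePresentation v.left :=
    MorphismProperty.of_isPullback Hs ‹LocallyOfFinitePresentation u.left›
  haveI : LocallyOfFinitePresentation jW :=
    MorphismProperty.DescendsAlong.of_isPullback
      (P := @LocallyOfFinitePresentation.{u}) (Q := @Surjective ⊓ @Flat ⊓ @LocallyOfFinitePresentation)
      hsq ⟨⟨‹Surjective u.left›, ‹Flat u.left›⟩, ‹LocallyOfFinitePresentation u.left›⟩ (lfp_left b)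
  haveI : LocallyOfFinitePresentation B'.hom := inferInstanceAs (LocallyOfFinitePresentation (jW ≫ G'.hom))
  haveI : Smooth (v.left ≫ B'.hom) := by rw [Over.w]; infer_instance
  haveI : Smooth B'.hom := SmoothDesc.Scheme.smooth_of_comp v.left B'.hom
  haveI : QuasiCompact B'.hom := by rw [← Over.w b']; infer_instance
  refine ⟨B', hB'g, b', v, ⟨hb', inferInstance, inferInstance, inferInstance, fun s => ?_⟩, inferInstance, H⟩
  let g := Red.geomPt s
  haveI : Smooth (Red.bc g G).hom := MorphismProperty.pullback_snd (P := @Smooth) _ _ inferInstance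
  haveI : QuasiCompact (Red.bc g G).hom := MorphismProperty.pullback_snd (P := @QuasiCompact) _ _ inferInstance
  haveI : Smooth (Red.bc g G').hom := MorphismProperty.pullback_snd (P := @Smooth) _ _ inferInstance
  haveI : QuasiCompact (Red.bc g G').hom := MorphismProperty.pullback_snd (P := @QuasiCompact) _ _ inferInstance
  haveI := connected_bc G hconn s
  haveI := connected_bc G' hconn' s
  haveI : Surjective ((Over.pullback g).map u).left :=
    MorphismProperty.of_isPullback (Charts.isPullback_map g u) ‹Surjective u.left›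
  obtain ⟨B₂, hB₂g, b₂, hB₂, hiff⟩ :=
    BorelPreimage.exists_borel_image_gen ((Over.pullback g).map u) (hBor s) (hext s) _ (hB s)
  haveI := hB₂.1
  haveI := hB₂.2.1
  haveI : Mono b₂ := BorelPreimage.mono_of_closed b₂
  have HF := H.map (Over.pullback g)
  haveI : LocallyOfFinitePresentation ((Over.pullback g).map u).left :=
    MorphismProperty.of_isPullback (Charts.isPullback_map g u) ‹LocallyOfFinitePresentation u.left›
  haveI : QuasiCompact ((Over.pullback g).map u).left :=
    MorphismProperty.of_isPullback (Charts.isPullback_map g u) ‹QuasiCompact u.left›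
  haveI : Flat ((Over.pullback g).map u).left :=
    MorphismProperty.of_isPullback (Charts.isPullback_map g u) ‹Flat u.left›
  have hc : GrpQ.IsCover ((Over.pullback g).map u) := GrpQ.IsCover.mk' _
  obtain ⟨T₁, p₁, x₁, hp₁, ex₁⟩ := GrpQ.exists_lift hc ((Over.pullback g).map b')
  obtain ⟨z₁, hz₁⟩ : ∃ z, z ≫ (Over.pullback g).map b = x₁ :=
    ⟨HF.lift x₁ p₁ ex₁, HF.lift_fst _ _ _⟩
  obtain ⟨y₁, hy₁⟩ := (hiff _ x₁).2 ⟨z₁, hz₁⟩
  obtain ⟨f₁, hf₁⟩ := GrpQ.exists_factor b₂ ((Over.pullback g).map b') hp₁ y₁ (hy₁.trans ex₁)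
  obtain ⟨T₂, p₂, x₂, hp₂, ex₂⟩ := GrpQ.exists_lift hc b₂
  obtain ⟨z₂, hz₂⟩ := (hiff _ x₂).1 ⟨p₂, ex₂.symm⟩
  haveI : Mono ((Over.pullback g).map b') := inferInstance
  obtain ⟨f₂, hf₂⟩ := GrpQ.exists_factor ((Over.pullback g).map b') b₂ hp₂ (z₂ ≫ (Over.pullback g).map v) (by
    rw [Category.assoc, ← HF.w, reassoc_of% hz₂, ex₂])
  refine isBorelOver_congr _ ⟨f₁, f₂, ?_, ?_⟩ hf₁ hB₂
  · rw [← cancel_mono ((Over.pullback g).map b'), Category.assoc, hf₂, hf₁, Category.id_comp]
  · rw [← cancel_mono b₂, Category.assoc, hf₁, hf₂, Category.id_comp]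

end Gen

include hker

theorem ker_bc (s : S) (X : Over (Spec (CommRingCat.of (AlgebraicClosure (S.residueField s)))))
    (z g : X ⟶ Red.bc (Red.geomPt s) G) (hz : z ≫ (Over.pullback (Red.geomPt s)).map u = 1) : Commute z g := by
  refine BC.down_injective ?_
  rw [BC.down_mul, BC.down_mul]
  have := hker _ (BC.down _ z) (by rw [← BC.down_map, hz, BC.down_one]) _ (𝟙 _) (BC.down _ g)
  simpa only [Category.id_comp] using this

theorem ker_le_borel_bc (hconn : ∀ s : S, _root_.IsConnected (G.hom.base ⁻¹' {s}))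
    (hconn' : ∀ s : S, _root_.IsConnected (G'.hom.base ⁻¹' {s})) (s : S)
    {B : Over (Spec (CommRingCat.of (AlgebraicClosure (S.residueField s))))} [GrpObj B]
    (b : B ⟶ Red.bc (Red.geomPt s) G) (hB : Red.IsBorelOver (AlgebraicClosure (S.residueField s)) b)
    {X : Over (Spec (CommRingCat.of (AlgebraicClosure (S.residueField s))))} (z : X ⟶ Red.bc (Red.geomPt s) G)
    (hz : z ≫ (Over.pullback (Red.geomPt s)).map u = 1) : ∃ w, w ≫ b = z := by
  let g := Red.geomPt s
  haveI : Smooth (Red.bc g G).hom := MorphismProperty.pullback_snd (P := @Smooth) _ _ inferInstance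
  haveI : QuasiCompact (Red.bc g G).hom := MorphismProperty.pullback_snd (P := @QuasiCompact) _ _ inferInstance
  haveI : Smooth (Red.bc g G').hom := MorphismProperty.pullback_snd (P := @Smooth) _ _ inferInstance
  haveI : QuasiCompact (Red.bc g G').hom := MorphismProperty.pullback_snd (P := @QuasiCompact) _ _ inferInstance
  haveI := connected_bc G hconn s
  haveI := connected_bc G' hconn' s
  haveI : Surjective ((Over.pullback g).map u).left :=
    MorphismProperty.of_isPullback (Charts.isPullback_map g u) ‹Surjective u.left›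
  exact BorelPreimage.ker_le_borel ((Over.pullback g).map u) (ker_bc u hker s) b hB z hz

theorem ext_bc (s : S) {P C : Over (Spec (CommRingCat.of (AlgebraicClosure (S.residueField s))))} [GrpObj P] [GrpObj C]
    (j : P ⟶ Red.bc (Red.geomPt s) G) [IsMonHom j] [Mono j] (π : P ⟶ C) [IsMonHom π]
    (h : ∀ (X : Over (Spec (CommRingCat.of (AlgebraicClosure (S.residueField s))))) (x : X ⟶ P),
      x ≫ π = 1 → (x ≫ j) ≫ (Over.pullback (Red.geomPt s)).map u = 1)
    (hC : Red.IsSolvableGrp C) : Red.IsSolvableGrp P :=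
  BorelHull.isSolvableGrp_of_central j π (fun X x _ hx => ker_bc u hker s X _ _ (h X x hx)) hC

include hconn hconn'

theorem preimage_borel {B' B : Over S} [GrpObj B'] (b' : B' ⟶ G') [IsMonHom b'] [Mono b'] [Smooth B'.hom]
    [QuasiCompact B'.hom]
    (hB' : ∀ s : S, Red.IsBorelOver (AlgebraicClosure (S.residueField s)) ((Over.pullback (Red.geomPt s)).map b'))
    [GrpObj B] (b : B ⟶ G) [IsMonHom b] (v : B ⟶ B') (H : IsPullback b v u b') :
    IsMonHom b ∧ Mono b ∧ Smooth B.hom ∧ QuasiCompact B.hom ∧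
      ∀ s : S, Red.IsBorelOver (AlgebraicClosure (S.residueField s)) ((Over.pullback (Red.geomPt s)).map b) :=
  preimage_borel_gen hconn hconn' u (ker_le_borel_bc u hker hconn hconn') (ext_bc u hker) b' hB' b v H

theorem image_borel {B : Over S} [GrpObj B] (b : B ⟶ G) [IsMonHom b] [Mono b] [Smooth B.hom] [QuasiCompact B.hom]
    (hB : ∀ s : S, Red.IsBorelOver (AlgebraicClosure (S.residueField s)) ((Over.pullback (Red.geomPt s)).map b)) :
    ∃ (B' : Over S) (_ : GrpObj B') (b' : B' ⟶ G') (v : B ⟶ B'), (IsMonHom b' ∧ Mono b' ∧ Smooth B'.hom ∧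
      QuasiCompact B'.hom ∧ ∀ s : S,
        Red.IsBorelOver (AlgebraicClosure (S.residueField s)) ((Over.pullback (Red.geomPt s)).map b')) ∧
      IsMonHom v ∧ IsPullback b v u b' := by
  obtain ⟨⟨-, -, hnorm⟩, -⟩ := BorelNormalizer.self_normalizing G hconn B b hB
  exact image_borel_gen hconn hconn' u (ker_le_borel_bc u hker hconn hconn') (ext_bc u hker) b hB fun {X} z hz =>
    (hnorm X z).2 fun X' x h => by
      have hc := hker X z hz X' x (h ≫ b)
      exact ⟨⟨h, by rw [hc, mul_inv_cancel_right]⟩, ⟨h, by rw [_root_.mul_assoc, ← hc, inv_mul_cancel_left]⟩⟩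

end Groth.Agent.Lib.SmWeil.BorelPreimageRel
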