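import Groth.Agent.Lib.SmWeil.BorelPreimageRel
import Groth.Agent.Lib.SmWeil.CartanDescent

/-!
# Borel subgroups and normal solvable subgroups
-/

set_option autoImplicit false
set_option linter.style.haveILetI false
set_option linter.unusedSectionVars false

universe u

open CategoryTheory CategoryTheory.Limits AlgebraicGeometry MonoidalCategory CartesianMonoidalCategory
open CategoryTheory.MonObj CategoryTheory.GrpObj
open Groth.Agent.Lib Groth.Agent.H87 Groth.Agent.Lib.Tori
open Groth.Agent.Lib.RedPts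

namespace Groth.Agent.Lib.SmWeil.BorelRadical

/-- An extension of solvable groups is solvable, with explicit lengths. -/
theorem derivedSeries_eq_bot {A C Γ B : Type*} [Group A] [Group C] [Group Γ] [Group B] (f : A →* C) (j : A →* Γ)
    (g : B →* Γ) (hj : Function.Injective j) (h : ∀ a, f a = 1 → j a ∈ g.range) {n m : ℕ}
    (hn : derivedSeries C n = ⊥) (hm : derivedSeries B m = ⊥) : derivedSeries A (n + m) = ⊥ := by
  have key : ∀ i, (derivedSeries A (n + i)).map j ≤ (derivedSeries B i).map g := by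
    intro i
    induction i with
    | zero =>
      rintro _ ⟨a, ha, rfl⟩
      have h1 : f a ∈ derivedSeries C n := map_derivedSeries_le_derivedSeries f n ⟨a, ha, rfl⟩
      rw [hn, Subgroup.mem_bot] at h1
      obtain ⟨b, hb⟩ := h a h1
      exact ⟨b, Subgroup.mem_top b, hb⟩
    | succ i ih =>
      rw [← Nat.add_assoc, derivedSeries_succ, derivedSeries_succ, Subgroup.map_commutator, Subgroup.map_commutator]
      exact Subgroup.commutator_mono ih ih
  have h1 := key m
  rw [hm, Subgroup.map_bot, le_bot_iff, Subgroup.map_eq_bot_iff_of_injective _ hj] at h1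
  exact h1

section Field

variable {k : Type u} [Field k] [IsAlgClosed k]
variable {G G' R : Over (Spec (CommRingCat.of k))} [GrpObj G] [GrpObj G'] [GrpObj R]
  (u : G ⟶ G') (r : R ⟶ G) [IsMonHom r]
  (hker : ∀ (X : Over (Spec (CommRingCat.of k))) (z : X ⟶ G), z ≫ u = 1 → ∃ x : X ⟶ R, x ≫ r = z)

include hker

/-- The extension condition for a kernel contained in a solvable subgroup. -/
theorem ext_of_radical (hR : Red.IsSolvableGrp R) {P C : Over (Spec (CommRingCat.of k))} [GrpObj P] [GrpObj C]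
    (j : P ⟶ G) [IsMonHom j] [Mono j] (π : P ⟶ C) [IsMonHom π]
    (h : ∀ (X : Over (Spec (CommRingCat.of k))) (x : X ⟶ P), x ≫ π = 1 → (x ≫ j) ≫ u = 1)
    (hC : Red.IsSolvableGrp C) : Red.IsSolvableGrp P := by
  obtain ⟨n, hn⟩ := hC
  obtain ⟨m, hm⟩ := hR
  refine ⟨n + m, fun X => derivedSeries_eq_bot (H1.Classical.Scheme'.postcomp π X)
    (H1.Classical.Scheme'.postcomp j X) (H1.Classical.Scheme'.postcomp r X)
    (fun a b e => (cancel_mono j).1 e) (fun a ha => ?_) (hn X) (hm X)⟩
  obtain ⟨x, hx⟩ := hker X _ (h X a ha)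
  exact ⟨x, hx⟩

/-- A kernel contained in a normal connected solvable subgroup lies in every Borel subgroup. -/
theorem ker_le_borel [Smooth G.hom] [QuasiCompact G.hom] [ConnectedSpace G.left] [Smooth R.hom]
    [QuasiCompact R.hom] [ConnectedSpace R.left] (hR : Red.IsSolvableGrp R)
    (hnorm : ∀ (X : Over (Spec (CommRingCat.of k))) (g : X ⟶ G) (x : X ⟶ R),
      ∃ x' : X ⟶ R, g * (x ≫ r) * g⁻¹ = x' ≫ r)
    {B : Over (Spec (CommRingCat.of k))} [GrpObj B] (b : B ⟶ G) (hB : Red.IsBorelOver k b)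
    {X : Over (Spec (CommRingCat.of k))} (z : X ⟶ G) (hz : z ≫ u = 1) : ∃ w, w ≫ b = z := by
  obtain ⟨x, rfl⟩ := hker X z hz
  obtain ⟨B₀, hB₀g, b₀, v, hB₀, hv⟩ := BorelTori.exists_borel_ge r hR
  obtain ⟨g, φ, hφ⟩ := BorelTori.exists_conjBy G b₀ b hB₀ hB
  obtain ⟨x', hx'⟩ := hnorm X (toUnit X ≫ g)⁻¹ x
  refine ⟨x' ≫ v ≫ φ.hom, ?_⟩
  have e := congrArg ((x' ≫ v) ≫ ·) hφ
  simp only [MonObj.comp_mul, GrpObj.comp_inv, Category.assoc, hv] at e
  rw [← Category.assoc x' v, ← Category.assoc (x' ≫ v), toUnit_unique ((x' ≫ v) ≫ toUnit B₀) (toUnit X), ← hx'] at e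
  rw [Category.assoc, Category.assoc, ← e]
  group

end Field

section Rel

variable {k : Type u} [Field k]

variable {G G' : Over (Spec (CommRingCat.of k))} [GrpObj G] [GrpObj G'] [Smooth G.hom] [QuasiCompact G.hom] [Smooth G'.hom]
  [QuasiCompact G'.hom] (hconn : ∀ s : ↥(Spec (CommRingCat.of k)), _root_.IsConnected (G.hom.base ⁻¹' {s}))
  (hconn' : ∀ s : ↥(Spec (CommRingCat.of k)), _root_.IsConnected (G'.hom.base ⁻¹' {s}))
  (u : G ⟶ G') [IsMonHom u] [Flat u.left] [Surjective u.left]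
  (hrad : ∀ s : ↥(Spec (CommRingCat.of k)), ∃ (R : Over (Spec (CommRingCat.of (AlgebraicClosure ((Spec (CommRingCat.of k)).residueField s))))) (_ : GrpObj R) (r : R ⟶ Red.geomFibre s G),
      IsMonHom r ∧ IsClosedImmersion r.left ∧ Smooth R.hom ∧ ConnectedSpace ↥R.left ∧ Red.IsSolvableGrp R ∧
      (∀ (X : Over (Spec (CommRingCat.of (AlgebraicClosure ((Spec (CommRingCat.of k)).residueField s))))) (g : X ⟶ Red.geomFibre s G) (x : X ⟶ R),
        ∃ x' : X ⟶ R, g * (x ≫ r) * g⁻¹ = x' ≫ r) ∧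
      (∀ (X : Over (Spec (CommRingCat.of (AlgebraicClosure ((Spec (CommRingCat.of k)).residueField s))))) (g : X ⟶ Red.geomFibre s G),
        g ≫ (Over.pullback (Red.geomPt s)).map u = 1 → ∃ x : X ⟶ R, x ≫ r = g))

include hconn hrad

theorem ker_le_borel_bc (s : ↥(Spec (CommRingCat.of k))) {B : Over (Spec (CommRingCat.of (AlgebraicClosure ((Spec (CommRingCat.of k)).residueField s))))} [GrpObj B]
    (b : B ⟶ Red.bc (Red.geomPt s) G) (hB : Red.IsBorelOver (AlgebraicClosure ((Spec (CommRingCat.of k)).residueField s)) b)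
    {X : Over (Spec (CommRingCat.of (AlgebraicClosure ((Spec (CommRingCat.of k)).residueField s))))} (z : X ⟶ Red.bc (Red.geomPt s) G)
    (hz : z ≫ (Over.pullback (Red.geomPt s)).map u = 1) : ∃ w, w ≫ b = z := by
  obtain ⟨R, hRg, r, h1, h2, h3, h4, h5, h6, h7⟩ := hrad s
  haveI := h1; haveI := h2; haveI := h3; haveI := h4
  haveI : Smooth (Red.bc (Red.geomPt s) G).hom := MorphismProperty.pullback_snd (P := @Smooth) _ _ inferInstance
  haveI : QuasiCompact (Red.bc (Red.geomPt s) G).hom :=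
    MorphismProperty.pullback_snd (P := @QuasiCompact) _ _ inferInstance
  haveI := BorelPreimageRel.connected_bc G hconn s
  haveI : QuasiCompact R.hom := by rw [← Over.w r]; infer_instance
  exact ker_le_borel ((Over.pullback (Red.geomPt s)).map u) r h7 h5 h6 b hB z hz

omit hconn in
theorem ext_bc (s : ↥(Spec (CommRingCat.of k))) {P C : Over (Spec (CommRingCat.of (AlgebraicClosure ((Spec (CommRingCat.of k)).residueField s))))} [GrpObj P] [GrpObj C]
    (j : P ⟶ Red.bc (Red.geomPt s) G) [IsMonHom j] [Mono j] (π : P ⟶ C) [IsMonHom π]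
    (h : ∀ (X : Over (Spec (CommRingCat.of (AlgebraicClosure ((Spec (CommRingCat.of k)).residueField s))))) (x : X ⟶ P),
      x ≫ π = 1 → (x ≫ j) ≫ (Over.pullback (Red.geomPt s)).map u = 1)
    (hC : Red.IsSolvableGrp C) : Red.IsSolvableGrp P := by
  obtain ⟨R, hRg, r, h1, h2, h3, h4, h5, h6, h7⟩ := hrad s
  haveI := h1
  exact ext_of_radical ((Over.pullback (Red.geomPt s)).map u) r h7 h5 j π h hC

include hconn'

theorem preimage_borel_rad {B' B : Over (Spec (CommRingCat.of k))} [GrpObj B'] (b' : B' ⟶ G') [IsMonHom b'] [Mono b'] [Smooth B'.hom]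
    [QuasiCompact B'.hom]
    (hB' : ∀ s : ↥(Spec (CommRingCat.of k)), Red.IsBorelOver (AlgebraicClosure ((Spec (CommRingCat.of k)).residueField s)) ((Over.pullback (Red.geomPt s)).map b'))
    [GrpObj B] (b : B ⟶ G) [IsMonHom b] (v : B ⟶ B') (H : IsPullback b v u b') :
    IsMonHom b ∧ Mono b ∧ Smooth B.hom ∧ QuasiCompact B.hom ∧
      ∀ s : ↥(Spec (CommRingCat.of k)), Red.IsBorelOver (AlgebraicClosure ((Spec (CommRingCat.of k)).residueField s)) ((Over.pullback (Red.geomPt s)).map b) := by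
  haveI := GrpSch.isSeparated_of_field G
  haveI := GrpSch.isSeparated_of_field G'
  exact BorelPreimageRel.preimage_borel_gen hconn hconn' u (ker_le_borel_bc hconn u hrad) (ext_bc u hrad) b' hB' b v H

theorem image_borel_rad {B : Over (Spec (CommRingCat.of k))} [GrpObj B] (b : B ⟶ G) [IsMonHom b] [Mono b] [Smooth B.hom]
    [QuasiCompact B.hom] (hB : ∀ s : ↥(Spec (CommRingCat.of k)), Red.IsBorelOver (AlgebraicClosure ((Spec (CommRingCat.of k)).residueField s)) ((Over.pullback (Red.geomPt s)).map b)) :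
    ∃ (B' : Over (Spec (CommRingCat.of k))) (_ : GrpObj B') (b' : B' ⟶ G') (v : B ⟶ B'), (IsMonHom b' ∧ Mono b' ∧ Smooth B'.hom ∧
      QuasiCompact B'.hom ∧ ∀ s : ↥(Spec (CommRingCat.of k)), Red.IsBorelOver (AlgebraicClosure ((Spec (CommRingCat.of k)).residueField s)) ((Over.pullback (Red.geomPt s)).map b')) ∧
      IsMonHom v ∧ IsPullback b v u b' := by
  haveI := GrpSch.isSeparated_of_field G
  haveI := GrpSch.isSeparated_of_field G'
  refine BorelPreimageRel.image_borel_gen hconn hconn' u (ker_le_borel_bc hconn u hrad) (ext_bc u hrad) b hB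
    fun {X} z hz => ?_
  let s : ↥(Spec (CommRingCat.of k)) := IsLocalRing.closedPoint k
  haveI : Subsingleton ↥(Spec (CommRingCat.of k)) := inferInstanceAs (Subsingleton (PrimeSpectrum k))
  haveI : Flat (Red.geomPt s) := inferInstance
  haveI : Surjective (Red.geomPt s) := ⟨fun t => ⟨IsLocalRing.closedPoint _, Subsingleton.elim _ _⟩⟩
  haveI : QuasiCompact (Red.geomPt s) := inferInstance
  have hz' : (Over.pullback (Red.geomPt s)).map z ≫ (Over.pullback (Red.geomPt s)).map u = 1 := by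
    refine BC.down_injective ?_
    rw [← Functor.map_comp, hz, ← Category.id_comp ((Over.pullback (Red.geomPt s)).map (1 : X ⟶ G')), BC.down_map,
      BC.down_one, MonObj.comp_one]
  obtain ⟨a, ha⟩ := ker_le_borel_bc hconn u hrad s _ (hB s) _ hz'
  exact CartanDescent.exists_fac_of_bc (Red.geomPt s) z b (Basic.isQCCover_of_qc _) a ha

end Rel

end Groth.Agent.Lib.SmWeil.BorelRadical
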