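import Groth.Agent.Lib.SmWeil.Dense
import Groth.Agent.Lib.FreeRes.EssFree
import Groth.Agent.Lib.Flat55.JetContent
import Mathlib.RingTheory.Flat.FaithfullyFlat.Algebra
import Mathlib.RingTheory.Smooth.Flat
import Mathlib.AlgebraicGeometry.Pullbacks

/-!
# Vanishing loci along smooth morphisms with connected geometric fibres

`exists_represents_smooth`: the locus of the base over which an ideal sheaf vanishes is a closed
subscheme, finitely presented when the ideal sheaf is of finite type.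
-/

set_option autoImplicit false
set_option linter.style.haveILetI false

universe u

open CategoryTheory CategoryTheory.Limits AlgebraicGeometry TopologicalSpace
open Groth.Agent.Lib Groth.Agent.Lib.HilbD Groth.Agent.Lib.Lim Groth.Agent.Lib.FreeRes
open scoped TensorProduct

namespace Groth.Agent.Lib.SmWeil

variable {X S : Scheme.{u}}

/-- Content ideals of elements give the vanishing locus on affine schemes. -/
theorem exists_represents_affine_of_content {Z : Scheme.{u}} [IsAffine S] [IsAffine Z] (π : Z ⟶ S)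
    (hπ : letI := π.appTop.hom.toAlgebra
      ∀ a : Γ(Z, ⊤), ∃ J : Ideal Γ(S, ⊤), J.FG ∧ ∀ (A : Type u) [CommRing A] [Algebra Γ(S, ⊤) A],
        ((1 : A) ⊗ₜ[Γ(S, ⊤)] a) = 0 ↔ J.map (algebraMap Γ(S, ⊤) A) = ⊥)
    (K : Z.IdealSheafData) :
    ∃ I : S.IdealSheafData, Represents π K I ∧ (IdealExt.IsFG K → IdealExt.IsFG I) := by
  classical
  letI := π.appTop.hom.toAlgebra
  choose Jc hJfg hJc using hπ
  let U : S.affineOpens := ⟨⊤, isAffineOpen_top S⟩
  let W : Z.affineOpens := ⟨π ⁻¹ᵁ U.1, U.2.preimage π⟩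
  let KW : Ideal Γ(Z, ⊤) := K.ideal W
  let J : Ideal Γ(S, ⊤) := ⨆ a : KW, Jc a.1
  have hJiff : ∀ (A : Type u) [CommRing A] [Algebra Γ(S, ⊤) A],
      J ≤ RingHom.ker (algebraMap Γ(S, ⊤) A) ↔ ∀ a ∈ KW, ((1 : A) ⊗ₜ[Γ(S, ⊤)] a) = 0 := fun A _ _ => by
    simp only [J, iSup_le_iff, ← Ideal.map_eq_bot_iff_le_ker, ← hJc]
    exact ⟨fun h a ha => h ⟨a, ha⟩, fun h a => h a.1 a.2⟩
  have hfg : KW.FG → J.FG := by
    rintro ⟨t, ht⟩
    let J' : Ideal Γ(S, ⊤) := t.sup Jc
    have hle : J' ≤ J := Finset.sup_le fun a ha =>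
      le_iSup (fun b : KW => Jc b.1) ⟨a, ht ▸ Submodule.subset_span ha⟩
    have hge : J ≤ J' := by
      refine le_trans ((hJiff (Γ(S, ⊤) ⧸ J')).2 fun a ha => ?_) (by
        rw [Ideal.Quotient.algebraMap_eq, Ideal.mk_ker])
      have h1 : KW ≤ RingHom.ker (Algebra.TensorProduct.includeRight :
          Γ(Z, ⊤) →ₐ[Γ(S, ⊤)] (Γ(S, ⊤) ⧸ J') ⊗[Γ(S, ⊤)] Γ(Z, ⊤)).toRingHom := by
        rw [← ht]
        refine Submodule.span_le.mpr fun b hb => ?_
        refine (hJc b (Γ(S, ⊤) ⧸ J')).2 ?_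
        rw [Ideal.map_eq_bot_iff_le_ker, Ideal.Quotient.algebraMap_eq, Ideal.mk_ker]
        exact Finset.le_sup (f := Jc) hb
      exact h1 ha
    rw [le_antisymm hge hle]
    exact Finset.sup_induction Submodule.fg_bot (fun a ha b hb => Submodule.FG.sup ha hb)
      fun a _ => hJfg a
  refine ⟨Scheme.IdealSheafData.ofIdealTop J, ?_, fun hK U' => ?_⟩
  rotate_left
  · rw [Scheme.IdealSheafData.ofIdealTop_ideal]
    exact Ideal.FG.map (hfg (hK W)) _
  intro Z' T' g' π' g sq
  haveI : IsAffineHom π' := MorphismProperty.of_isPullback sq inferInstance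
  have hJ : (Scheme.IdealSheafData.ofIdealTop J).ideal U = J := by
    exact Scheme.IdealSheafData.equivOfIsAffine.right_inv J
  have key : ∀ U' : T'.affineOpens,
      ((Scheme.IdealSheafData.ofIdealTop J).comap g).ideal U' = ⊥ ↔
      (K.comap g').ideal ⟨π' ⁻¹ᵁ U'.1, U'.2.preimage π'⟩ = ⊥ := fun U' => by
    have e : U'.1 ≤ g ⁻¹ᵁ U.1 := le_top
    have e' : π' ⁻¹ᵁ U'.1 ≤ g' ⁻¹ᵁ W.1 := le_top
    rw [Ideal.Comap.ideal_comap g _ U U' e, Ideal.map_eq_bot_iff_le_ker, hJ]
    letI := (g.appLE U.1 U'.1 e).hom.toAlgebra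
    letI := (π'.app U'.1).hom.toAlgebra
    letI := (g'.appLE W.1 (π' ⁻¹ᵁ U'.1) e').hom.toAlgebra
    letI := ((π'.app U'.1).hom.comp (g.appLE U.1 U'.1 e).hom).toAlgebra
    have hpush := Content.isPushout_appLE sq U U' e e'
    haveI : IsScalarTower Γ(S, U.1) Γ(T', U'.1) Γ(Z', π' ⁻¹ᵁ U'.1) := .of_algebraMap_eq' rfl
    letI := (π.app U.1).hom.toAlgebra
    haveI : IsScalarTower Γ(S, U.1) Γ(Z, π ⁻¹ᵁ U.1) Γ(Z', π' ⁻¹ᵁ U'.1) :=
      .of_algebraMap_eq' (congrArg CommRingCat.Hom.hom hpush.w)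
    have hp : Algebra.IsPushout Γ(S, U.1) Γ(T', U'.1) Γ(Z, π ⁻¹ᵁ U.1) Γ(Z', π' ⁻¹ᵁ U'.1) :=
      CommRingCat.isPushout_iff_isPushout.mp hpush
    rw [Ideal.Comap.ideal_comap g' K W ⟨π' ⁻¹ᵁ U'.1, U'.2.preimage π'⟩ e',
      Ideal.map_eq_bot_iff_le_ker]
    refine (hJiff Γ(T', U'.1)).trans ?_
    refine forall₂_congr fun (x : Γ(Z, π ⁻¹ᵁ U.1)) _ => ?_
    show ((1 : Γ(T', U'.1)) ⊗ₜ[Γ(S, U.1)] x) = 0 ↔ _
    rw [RingHom.mem_ker, ← hp.out.equiv.map_eq_zero_iff, IsBaseChange.equiv_tmul, one_smul]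
    rfl
  have htop : ⨆ V : T'.affineOpens, π' ⁻¹ᵁ V.1 = ⊤ := eq_top_iff.mpr fun z _ => by
    obtain ⟨V, hV, hz, -⟩ := exists_isAffineOpen_mem_and_subset (show π' z ∈ (⊤ : T'.Opens) from trivial)
    exact TopologicalSpace.Opens.mem_iSup.mpr ⟨⟨V, hV⟩, hz⟩
  constructor
  · intro h
    refine Scheme.IdealSheafData.ext_of_iSup_eq_top
      (fun V : T'.affineOpens => ⟨π' ⁻¹ᵁ V.1, V.2.preimage π'⟩) htop fun V => ?_
    rw [Scheme.IdealSheafData.ideal_bot, Pi.bot_apply]
    exact (key V).mp (by rw [h, Scheme.IdealSheafData.ideal_bot, Pi.bot_apply])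
  · intro h
    refine Scheme.IdealSheafData.ext ?_
    funext V
    rw [Scheme.IdealSheafData.ideal_bot, Pi.bot_apply]
    exact (key V).mpr (by rw [h, Scheme.IdealSheafData.ideal_bot, Pi.bot_apply])

/-- An open subscheme meeting every fibre still has geometrically connected fibres. -/
theorem geometricallyConnected_restrict (f : X ⟶ S) [Smooth f] [GeometricallyConnected f]
    (V : X.Opens) [Surjective (V.ι ≫ f)] : GeometricallyConnected (V.ι ≫ f) := by
  refine ⟨fun K _ y P p₁ p₂ sq => ?_⟩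
  haveI : IrreducibleSpace ↥(pullback f y) := by
    haveI : Subsingleton ↥(Spec (CommRingCat.of K)) := inferInstanceAs (Subsingleton (PrimeSpectrum K))
    haveI : ConnectedSpace ↥(pullback f y) := GeometricallyConnected.connectedSpace_of_subsingleton
      (f := pullback.snd f y)
    haveI : IsLocallyNoetherian (pullback f y) :=
      LocallyOfFiniteType.isLocallyNoetherian (pullback.snd f y)
    refine (Groth.Agent.Lib.FinCond.irreducibleSpace_iff _).2 ⟨inferInstance, fun x => ?_⟩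
    haveI := Cyc.SmoothReg.isRegularLocalRing_stalk (k := K) (pullback.snd f y) x
    haveI := Regular.Quotient.isDomain ((pullback f y).presheaf.stalk x)
    rw [nilradical_eq_zero]
    exact Ideal.isPrime_bot
  haveI : Surjective p₂ := MorphismProperty.of_isPullback sq inferInstance
  let l : P ⟶ pullback f y := pullback.lift (p₁ ≫ V.ι) p₂ (by rw [Category.assoc, sq.w])
  have sql : IsPullback p₁ l V.ι (pullback.fst f y) := by
    refine IsPullback.of_bot (?_ : IsPullback p₁ (l ≫ pullback.snd f y) (V.ι ≫ f) y) ?_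
      (IsPullback.of_hasPullback f y)
    · rw [pullback.lift_snd]; exact sq
    · rw [pullback.lift_fst]
  haveI : IsOpenImmersion l := MorphismProperty.of_isPullback sql inferInstance
  obtain ⟨a, -⟩ := p₂.surjective (IsLocalRing.closedPoint K)
  have hirr : IsPreirreducible (Set.range l) :=
    (PreirreducibleSpace.isPreirreducible_univ).open_subset l.isOpenEmbedding.isOpen_range
      (Set.subset_univ _)
  have hconn : _root_.IsConnected (Set.range l) :=
    IsIrreducible.isConnected ⟨⟨l a, a, rfl⟩, hirr⟩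
  haveI : ConnectedSpace (Set.range l) := Subtype.connectedSpace hconn
  exact l.isOpenEmbedding.isEmbedding.toHomeomorph.symm.surjective.connectedSpace
    l.isOpenEmbedding.isEmbedding.toHomeomorph.symm.continuous

/-- The density hypothesis of the content theorem. -/
theorem eq_zero_of_mul_eq_zero {R B : Type u} [CommRing R] [CommRing B] [Algebra R B]
    [Algebra.Smooth R B] [GeometricallyConnected (Spec.map (CommRingCat.ofHom (algebraMap R B)))]
    (A : Type u) [CommRing A] [Algebra R A] (σ : A ⊗[R] B →ₐ[A] A) (c u : A ⊗[R] B)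
    (hu : σ u = 1) (huc : u * c = 0) : c = 0 := by
  let π : Spec (CommRingCat.of (A ⊗[R] B)) ⟶ Spec (CommRingCat.of A) :=
    Spec.map (CommRingCat.ofHom (algebraMap A (A ⊗[R] B)))
  have sq := isPullback_SpecMap_of_isPushout _ _ _ _ (CommRingCat.isPushout_tensorProduct R A B)
  haveI : GeometricallyConnected π := MorphismProperty.of_isPullback sq.flip inferInstance
  haveI : Smooth π := HasRingHomProperty.Spec_iff.mpr (RingHom.smooth_algebraMap.mpr inferInstance)
  refine eq_zero_of_forall_prime (R := A) c fun P _ => ?_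
  let z : Spec (CommRingCat.of (A ⊗[R] B)) := ⟨P, inferInstance⟩
  haveI := irreducibleSpace_fiber π (π z)
  obtain ⟨η, hη, hηz, hηO⟩ := exists_generic π z
  let q : Spec (CommRingCat.of (A ⊗[R] B)) := Spec.map (CommRingCat.ofHom σ.toRingHom) (π z)
  have hq : π q = π z := by
    show (Spec.map (CommRingCat.ofHom σ.toRingHom) ≫ Spec.map (CommRingCat.ofHom (algebraMap A (A ⊗[R] B)))) (π z) = π z
    rw [← Spec.map_comp, ← CommRingCat.ofHom_comp, show σ.toRingHom.comp (algebraMap A (A ⊗[R] B)) =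
      RingHom.id A from σ.comp_algebraMap, CommRingCat.ofHom_id, Spec.map_id]
    rfl
  refine ⟨η.asIdeal, inferInstance, (PrimeSpectrum.le_iff_specializes η z).2 hηz,
    congrArg PrimeSpectrum.asIdeal hη, u, ?_, huc⟩
  refine hηO (PrimeSpectrum.basicOpen u) ⟨q, ?_, hq⟩
  show σ u ∉ (π z).asIdeal
  rw [hu]
  exact fun h => (π z).isPrime.ne_top ((Ideal.eq_top_iff_one _).2 h)

/-- The vanishing locus over an affine base, from a standard smooth chart meeting every fibre. -/
theorem exists_represents_chart [IsAffine S] (f : X ⟶ S) [Smooth f] [GeometricallyConnected f]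
    (V : X.Opens) (hV : IsAffineOpen V) [Surjective (V.ι ≫ f)]
    (hstd : (V.ι ≫ f).appTop.hom.IsStandardSmooth) (K : X.IdealSheafData) :
    ∃ I : S.IdealSheafData, Represents f K I ∧ (IdealExt.IsFG K → IdealExt.IsFG I) := by
  haveI : IsAffine (V : Scheme.{u}) := hV
  haveI := geometricallyConnected_restrict f V
  let ρ := V.ι ≫ f
  letI := ρ.appTop.hom.toAlgebra
  haveI : Algebra.IsStandardSmooth Γ(S, ⊤) Γ(V, ⊤) := hstd
  have hsq : IsPullback (Scheme.isoSpec (V : Scheme.{u})).hom ρ (Spec.map ρ.appTop) S.isoSpec.hom :=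
    IsPullback.of_horiz_isIso ⟨(Scheme.isoSpec_hom_naturality ρ)⟩
  haveI : GeometricallyConnected (Spec.map (CommRingCat.ofHom (algebraMap Γ(S, ⊤) Γ(V, ⊤)))) := by
    show GeometricallyConnected (Spec.map ρ.appTop)
    rw [show Spec.map ρ.appTop = (Scheme.isoSpec (V : Scheme.{u})).inv ≫ ρ ≫ S.isoSpec.hom by
      rw [← hsq.w, Iso.inv_hom_id_assoc]]
    exact (MorphismProperty.cancel_left_of_respectsIso @GeometricallyConnected _ _).2
      ((MorphismProperty.cancel_right_of_respectsIso @GeometricallyConnected _ _).2 ‹_›)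
  haveI : Surjective (Spec.map ρ.appTop) := by
    rw [show Spec.map ρ.appTop = (Scheme.isoSpec (V : Scheme.{u})).inv ≫ ρ ≫ S.isoSpec.hom by
      rw [← hsq.w, Iso.inv_hom_id_assoc]]
    infer_instance
  haveI : Module.FaithfullyFlat Γ(S, ⊤) Γ(V, ⊤) :=
    .of_comap_surjective (Spec.map ρ.appTop).surjective
  obtain ⟨ι, σ, _, _, ⟨P⟩⟩ := Algebra.IsStandardSmooth.out (R := Γ(S, ⊤)) (S := Γ(V, ⊤))
  haveI : Algebra.IsStandardSmoothOfRelativeDimension P.dimension Γ(S, ⊤) Γ(V, ⊤) :=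
    ⟨⟨ι, σ, inferInstance, inferInstance, P, rfl⟩⟩
  obtain ⟨I, hI, hIfg⟩ := exists_represents_affine_of_content ρ
    (fun a => Flat55.JetContent.exists_content P.dimension eq_zero_of_mul_eq_zero a) (K.comap V.ι)
  refine ⟨I, ?_, fun hK => hIfg (isFG_comap _ hK)⟩
  intro Z' T g' π' g sq
  haveI : Smooth π' := MorphismProperty.of_isPullback sq inferInstance
  haveI : GeometricallyConnected π' := MorphismProperty.of_isPullback sq inferInstance
  have sqV : IsPullback (g' ∣_ V) ((g' ⁻¹ᵁ V).ι ≫ π') ρ g :=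
    (isPullback_morphismRestrict g' V).paste_vert sq
  rw [hI _ _ _ sqV, ← Scheme.IdealSheafData.comap_comp, morphismRestrict_ι,
    Scheme.IdealSheafData.comap_comp]
  refine ⟨fun h => eq_bot_of_dense π' (K.comap g') (g' ⁻¹ᵁ V) (fun x => ?_) h,
    fun h => by rw [h, comap_bot]⟩
  haveI : Surjective ((g' ⁻¹ᵁ V).ι ≫ π') := MorphismProperty.of_isPullback sqV inferInstance
  obtain ⟨v, hv⟩ := ((g' ⁻¹ᵁ V).ι ≫ π').surjective (π' x)
  exact ⟨v.1, v.2, hv⟩

/-- A standard smooth chart over a neighbourhood of a point of the base, meeting all fibres. -/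
theorem exists_chart (f : X ⟶ S) [Smooth f] [GeometricallyConnected f] (s : S) :
    ∃ (U : S.Opens) (_ : IsAffineOpen U) (V : (pullback f U.ι).Opens), s ∈ U ∧ IsAffineOpen V ∧
      Surjective (V.ι ≫ pullback.snd f U.ι) ∧
      (V.ι ≫ pullback.snd f U.ι).appTop.hom.IsStandardSmooth := by
  obtain ⟨x, hx⟩ := f.surjective s
  obtain ⟨U₀, hU₀, V₀, hV₀, hxV, e, hstd⟩ := Smooth.exists_isStandardSmooth f x
  haveI : IsOpenImmersion V₀.ι := inferInstance
  have hopen : IsOpen (f '' (V₀ : Set X)) := f.isOpenMap _ V₀.2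
  obtain ⟨r, hr, hsr⟩ := hU₀.exists_basicOpen_le (V := ⟨_, hopen⟩) ⟨s, x, hxV, hx⟩ (hx ▸ e hxV)
  let U : S.Opens := S.basicOpen r
  let V₁ : X.Opens := X.basicOpen (f.appLE U₀ V₀ e r)
  have hU : IsAffineOpen U := hU₀.basicOpen r
  have hV₁ : IsAffineOpen V₁ := hV₀.basicOpen _
  have hV₁eq : V₁ = V₀ ⊓ f ⁻¹ᵁ U := by
    simp [V₁, U, Scheme.Hom.appLE, Scheme.basicOpen_res, Scheme.preimage_basicOpen]
  have e₁ : V₁ ≤ f ⁻¹ᵁ U := hV₁eq.le.trans inf_le_right
  have hstd₁ : (f.appLE U V₁ e₁).hom.IsStandardSmooth := by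
    letI := hU₀.isLocalization_basicOpen r
    letI := hV₀.isLocalization_basicOpen (f.appLE U₀ V₀ e r)
    have h := IsAffineOpen.appLE_eq_away_map f hU₀ hV₀ e r
    rw [show f.appLE U V₁ e₁ = _ from h]
    exact (RingHom.LocalizationPreserves.away RingHom.isStandardSmooth_localizationPreserves) _ r _ _
      hstd
  let V : (pullback f U.ι).Opens := pullback.fst f U.ι ⁻¹ᵁ V₁
  haveI : IsAffine (U : Scheme.{u}) := hU
  have hrange : (V₁ : Set X) ⊆ Set.range (pullback.fst f U.ι) := by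
    rw [IsOpenImmersion.range_pullbackFst]
    intro a ha
    simpa using e₁ ha
  let φ : (V : Scheme.{u}) ⟶ V₁ := pullback.fst f U.ι ∣_ V₁
  haveI : IsIso φ := by
    haveI : Surjective φ := ⟨fun a => by
      obtain ⟨b, hb⟩ := hrange a.2
      exact ⟨⟨b, show pullback.fst f U.ι b ∈ V₁ from hb ▸ a.2⟩,
        Subtype.ext ((congrArg (fun m : (V : Scheme.{u}) ⟶ X => m ⟨b, show pullback.fst f U.ι b ∈ V₁ from hb ▸ a.2⟩)
          (morphismRestrict_ι (pullback.fst f U.ι) V₁)).trans hb)⟩⟩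
    haveI : Epi φ.base := (TopCat.epi_iff_surjective _).2 φ.surjective
    exact IsOpenImmersion.isIso φ
  have hV : IsAffineOpen V := by
    haveI : IsAffine (V₁ : Scheme.{u}) := hV₁
    exact IsAffine.of_isIso φ
  have hfac : V.ι ≫ pullback.snd f U.ι = φ ≫ f.resLE U V₁ e₁ := by
    rw [← cancel_mono U.ι, Category.assoc, Category.assoc, ← pullback.condition,
      Scheme.Hom.resLE_comp_ι, morphismRestrict_ι_assoc]
  refine ⟨U, hU, V, hsr, hV, ?_, ?_⟩
  · rw [hfac]
    haveI : Surjective (f.resLE U V₁ e₁) := ⟨fun a => by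
      obtain ⟨v, hv, hva⟩ := hr a.2
      refine ⟨⟨v, hV₁eq ▸ ⟨hv, show f v ∈ U from hva ▸ a.2⟩⟩, Subtype.ext ?_⟩
      exact (congrArg (fun m : (V₁ : Scheme.{u}) ⟶ S => m ⟨v, _⟩)
        (Scheme.Hom.resLE_comp_ι f e₁)).trans hva⟩
    infer_instance
  · haveI : IsIso φ.appTop := inferInstanceAs (IsIso (φ.app ⊤))
    rw [hfac, Scheme.Hom.comp_appTop, CommRingCat.hom_comp,
      RingHom.isStandardSmooth_respectsIso.cancel_right_isIso]
    have h : (U.topIso.hom ≫ f.appLE U V₁ e₁ ≫ V₁.topIso.inv).hom.IsStandardSmooth := by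
      rw [CommRingCat.hom_comp, CommRingCat.hom_comp]
      exact RingHom.isStandardSmooth_respectsIso.2 _ U.topIso.commRingCatIsoToRingEquiv
        (RingHom.isStandardSmooth_respectsIso.1 _ V₁.topIso.symm.commRingCatIsoToRingEquiv hstd₁)
    have e2 := Scheme.Hom.resLE_app_top f (U := U) (V := V₁) e₁
    exact (congrArg (fun m => (CommRingCat.Hom.hom m).IsStandardSmooth) e2).mpr h

/-- **The vanishing locus along a smooth morphism with connected geometric fibres.** -/
theorem exists_represents_smooth (f : X ⟶ S) [Smooth f] [GeometricallyConnected f]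
    (K : X.IdealSheafData) :
    ∃ I : S.IdealSheafData, Represents f K I ∧ (IdealExt.IsFG K → IdealExt.IsFG I) := by
  choose U hU V hsU hV hsurj hstd using fun s => exists_chart f s
  have hU_top : (⨆ s, U s) = ⊤ :=
    eq_top_iff.mpr fun s _ => TopologicalSpace.Opens.mem_iSup.mpr ⟨s, hsU s⟩
  have hlocal : ∀ s, ∃ J : (U s : Scheme.{u}).IdealSheafData,
      Represents (pullback.snd f (U s).ι) (K.comap (pullback.fst f (U s).ι)) J ∧
      (IdealExt.IsFG K → IdealExt.IsFG J) := fun s => by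
    haveI : IsAffine (U s : Scheme.{u}) := hU s
    haveI := hsurj s
    obtain ⟨J, hJ, hJfg⟩ := exists_represents_chart (pullback.snd f (U s).ι) (V s) (hV s) (hstd s)
      (K.comap (pullback.fst f (U s).ι))
    exact ⟨J, hJ, fun hK => hJfg (isFG_comap _ hK)⟩
  choose J hJ hJfg using hlocal
  obtain ⟨I, hI⟩ := exists_represents_of_openCover (f := f) (K := K)
    (Scheme.openCoverOfIsOpenCover S U hU_top) fun s => ⟨J s, hJ s⟩
  refine ⟨I, hI, fun hK => ?_⟩
  refine IdealExt.isFG_of_iSup_eq_top I (fun s => ⟨U s, hU s⟩) hU_top fun s => ?_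
  have e : I.comap (U s).ι = J s :=
    Represents.unique (hI.baseChange (IsPullback.of_hasPullback _ _)) (hJ s)
  haveI : IsAffine (U s : Scheme.{u}) := hU s
  have := congrArg (fun L : (U s : Scheme.{u}).IdealSheafData => L.ideal ⟨⊤, isAffineOpen_top _⟩) e
  simp only at this
  rw [Ideal.Comap.ideal_comap_ι_top ⟨U s, hU s⟩] at this
  have h3 := congrArg (Ideal.map (U s).topIso.hom.hom) this
  rw [Ideal.map_map, ← CommRingCat.hom_comp, Iso.inv_hom_id, CommRingCat.hom_id, Ideal.map_id] at h3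
  rw [h3]
  exact Ideal.FG.map (hJfg s hK ⟨⊤, isAffineOpen_top _⟩) _

end Groth.Agent.Lib.SmWeil
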