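import Groth.Agent.Lib.Flat55.SmoothFibreInj
import Groth.Agent.Lib.FinCond.Components
import Groth.Agent.Lib.Cyc.SmoothReg
import Groth.Agent.Lib.Regular.Quotient
import Groth.Agent.Lib.FreeRes.Locus
import Mathlib.AlgebraicGeometry.Geometrically.Connected
import Mathlib.AlgebraicGeometry.Morphisms.Smooth

/-!
# Vanishing on an open subset meeting every fibre of a smooth morphism with connected geometric fibres

* `irreducibleSpace_fiber`: the fibres are irreducible.
* `exists_generic`: the generic point of the fibre lies in every open subset meeting that fibre.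
* `eq_bot_of_dense`: an ideal sheaf vanishing on an open subset meeting every fibre is zero.
-/

set_option autoImplicit false
set_option linter.style.haveILetI false

universe u

open CategoryTheory CategoryTheory.Limits AlgebraicGeometry TopologicalSpace

namespace Groth.Agent.Lib.SmWeil

variable {X S : Scheme.{u}}

theorem irreducibleSpace_fiber (f : X ⟶ S) [Smooth f] [GeometricallyConnected f] (s : S) :
    IrreducibleSpace (f.fiber s) := by
  haveI : Smooth (f.fiberToSpecResidueField s) :=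
    inferInstanceAs (Smooth (pullback.snd f (S.fromSpecResidueField s)))
  haveI : IsLocallyNoetherian (f.fiber s) :=
    LocallyOfFiniteType.isLocallyNoetherian (f.fiberToSpecResidueField s)
  refine (Groth.Agent.Lib.FinCond.irreducibleSpace_iff (f.fiber s)).2 ⟨inferInstance, fun x => ?_⟩
  haveI := Cyc.SmoothReg.isRegularLocalRing_stalk (k := S.residueField s) (f.fiberToSpecResidueField s) x
  haveI := Regular.Quotient.isDomain ((f.fiber s).presheaf.stalk x)
  rw [nilradical_eq_zero]
  exact Ideal.isPrime_bot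

theorem exists_generic (f : X ⟶ S) (z : X) [PreirreducibleSpace (f.fiber (f z))] :
    ∃ η : X, f η = f z ∧ η ⤳ z ∧ ∀ O : X.Opens, (∃ y ∈ O, f y = f z) → η ∈ O := by
  let ι := f.fiberι (f z)
  have hmem : ∀ y : X, f y = f z → ∃ a, ι a = y := fun y hy => by
    show y ∈ Set.range ι
    rw [f.range_fiberι]
    exact hy
  obtain ⟨z', hz'⟩ := hmem z rfl
  haveI : Nonempty (f.fiber (f z)) := ⟨z'⟩
  haveI : IrreducibleSpace (f.fiber (f z)) := { toNonempty := ⟨z'⟩ }
  refine ⟨ι (genericPoint _), ?_, ?_, ?_⟩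
  · have : ι (genericPoint (f.fiber (f z))) ∈ Set.range ι := Set.mem_range_self _
    rw [f.range_fiberι] at this
    exact this
  · have h : ι (genericPoint (f.fiber (f z))) ⤳ ι z' := (genericPoint_specializes z').map ι.continuous
    have e : (ι (genericPoint (f.fiber (f z))) ⤳ ι z') = (ι (genericPoint (f.fiber (f z))) ⤳ z) :=
      congrArg (fun w => ι (genericPoint (f.fiber (f z))) ⤳ w) hz'
    exact e.mp h
  · rintro O ⟨y, hyO, hy⟩
    obtain ⟨y', rfl⟩ := hmem y hy
    exact ((genericPoint_specializes y').map ι.continuous).mem_open O.2 hyO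

/-- The annihilator criterion behind the density statement. -/
theorem eq_zero_of_forall_prime {R B : Type u} [CommRing R] [CommRing B] [Algebra R B]
    [Algebra.Smooth R B] (b : B)
    (h : ∀ (P : Ideal B) [P.IsPrime], ∃ (Q : Ideal B) (_ : Q.IsPrime), Q ≤ P ∧
      Q.comap (algebraMap R B) = P.comap (algebraMap R B) ∧ ∃ s ∉ Q, s * b = 0) : b = 0 := by
  by_contra hb
  let J : Ideal B := (Submodule.span B {b}).annihilator
  have hJ : J ≠ ⊤ := fun hJ => hb (by
    have := Submodule.mem_annihilator_span_singleton b (1 : B) |>.1 ((Ideal.eq_top_iff_one J).1 hJ)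
    simpa using this)
  obtain ⟨P, hP, hJP⟩ := Ideal.exists_le_maximal J hJ
  haveI := hP.isPrime
  obtain ⟨Q, _, hQP, hover, s, hs, hsb⟩ := h P
  obtain ⟨v, hv, hvb⟩ := Flat55.SmoothFibreInj.exists_notMem_mul_eq_zero P Q hQP hover s hs b hsb
  exact hv (hJP ((Submodule.mem_annihilator_span_singleton b v).2 hvb))

theorem ideal_eq_bot_of_comap_ι (K : X.IdealSheafData) (V : X.affineOpens)
    (h : K.comap V.1.ι = ⊥) : K.ideal V = ⊥ := by
  haveI : IsAffine (V.1 : Scheme.{u}) := V.2
  have h3 := Ideal.Comap.ideal_comap_ι_top V (J := K)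
  rw [h, Scheme.IdealSheafData.ideal_bot, Pi.bot_apply] at h3
  exact (Ideal.map_eq_bot_iff_of_injective
    (ConcreteCategory.bijective_of_isIso V.1.topIso.inv).1).1 h3.symm

/-- **An ideal sheaf vanishing on an open meeting every fibre is zero.** -/
theorem eq_bot_of_dense (f : X ⟶ S) [Smooth f] [GeometricallyConnected f] (K : X.IdealSheafData)
    (O : X.Opens) (hO : ∀ x : X, ∃ y ∈ O, f y = f x) (hK : K.comap O.ι = ⊥) : K = ⊥ := by
  have hcov : ∀ x : X, ∃ (W : S.affineOpens) (U : X.affineOpens), x ∈ U.1 ∧ U.1 ≤ f ⁻¹ᵁ W.1 := fun x => by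
    obtain ⟨W, hW, hxW, -⟩ := exists_isAffineOpen_mem_and_subset (show f x ∈ (⊤ : S.Opens) from trivial)
    obtain ⟨U, hU, hxU, hUW⟩ := exists_isAffineOpen_mem_and_subset (show x ∈ f ⁻¹ᵁ W from hxW)
    exact ⟨⟨W, hW⟩, ⟨U, hU⟩, hxU, hUW⟩
  choose W U hxU hUW using hcov
  refine Scheme.IdealSheafData.ext_of_iSup_eq_top U
    (eq_top_iff.mpr fun x _ => Opens.mem_iSup.mpr ⟨x, hxU x⟩) fun x => ?_
  rw [Scheme.IdealSheafData.ideal_bot, Pi.bot_apply, eq_bot_iff]
  intro b hb
  rw [Ideal.mem_bot]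
  letI := (f.appLE (W x).1 (U x).1 (hUW x)).hom.toAlgebra
  haveI : Algebra.Smooth Γ(S, (W x).1) Γ(X, (U x).1) :=
    f.smooth_appLE (W x).2 (U x).2 (hUW x)
  refine eq_zero_of_forall_prime (R := Γ(S, (W x).1)) b fun P _ => ?_
  let p : PrimeSpectrum Γ(X, (U x).1) := ⟨P, inferInstance⟩
  let z : X := (U x).2.fromSpec p
  have hz : z ∈ (U x).1 := by
    show (U x).2.fromSpec p ∈ ((U x).1 : Set X)
    rw [← (U x).2.range_fromSpec]
    exact ⟨p, rfl⟩
  haveI := irreducibleSpace_fiber f (f z)
  obtain ⟨η, hη, hηz, hηO⟩ := exists_generic f z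
  have hηU : η ∈ (U x).1 := hηz.mem_open (U x).1.2 hz
  have hηO' : η ∈ O := hηO O (hO z)
  obtain ⟨q, hq⟩ : ∃ q, (U x).2.fromSpec q = η := by
    have : η ∈ ((U x).1 : Set X) := hηU
    rwa [← (U x).2.range_fromSpec] at this
  have hspec : q ⤳ p := by
    haveI := (U x).2.isOpenImmersion_fromSpec
    rw [← (U x).2.fromSpec.isOpenEmbedding.isInducing.specializes_iff, hq]
    exact hηz
  refine ⟨q.asIdeal, inferInstance, (PrimeSpectrum.le_iff_specializes q p).2 hspec, ?_, ?_⟩
  · have e := IsAffineOpen.SpecMap_appLE_fromSpec f (W x).2 (U x).2 (hUW x)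
    have h1 : (W x).2.fromSpec (Spec.map (f.appLE (W x).1 (U x).1 (hUW x)) q) = f η := by
      rw [← hq, ← Scheme.Hom.comp_apply, e, Scheme.Hom.comp_apply]
    have h2 : (W x).2.fromSpec (Spec.map (f.appLE (W x).1 (U x).1 (hUW x)) p) = f z := by
      rw [← Scheme.Hom.comp_apply, e, Scheme.Hom.comp_apply]
    haveI := (W x).2.isOpenImmersion_fromSpec
    exact congrArg PrimeSpectrum.asIdeal
      ((W x).2.fromSpec.isOpenEmbedding.injective (h1.trans (hη.trans h2.symm)))
  · obtain ⟨t, ht, hηt⟩ := (U x).2.exists_basicOpen_le ⟨η, hηO'⟩ hηU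
    let V : X.affineOpens := X.affineBasicOpen t
    have hzero : X.presheaf.map (homOfLE (X.basicOpen_le t)).op b = 0 := by
      have h1 : X.presheaf.map (homOfLE (X.basicOpen_le t)).op b ∈ K.ideal V := by
        rw [← K.map_ideal_basicOpen (U x) t]
        exact Ideal.mem_map_of_mem _ hb
      have h2 : K.comap (X.basicOpen t).ι = ⊥ := by
        rw [← X.homOfLE_ι ht, Scheme.IdealSheafData.comap_comp, hK, FreeRes.comap_bot]
      have h3 : K.ideal V = ⊥ := ideal_eq_bot_of_comap_ι K V h2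
      rw [h3] at h1
      exact Ideal.mem_bot.1 h1
    haveI := (U x).2.isLocalization_basicOpen t
    obtain ⟨⟨s, n, rfl⟩, hs⟩ :=
      (IsLocalization.map_eq_zero_iff (Submonoid.powers t) Γ(X, X.basicOpen t) b).1 hzero
    refine ⟨t ^ n, fun hmem => ?_, hs⟩
    have hqt : q ∈ (U x).2.fromSpec ⁻¹ᵁ X.basicOpen t := by
      show (U x).2.fromSpec q ∈ X.basicOpen t
      rw [hq]
      exact hηt
    rw [(U x).2.fromSpec_preimage_basicOpen] at hqt
    exact (show t ∉ q.asIdeal from hqt) (q.isPrime.mem_of_pow_mem n hmem)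

end Groth.Agent.Lib.SmWeil
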