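import Groth.Agent.Lib.LocalFlat.Criterion
import Groth.Agent.Lib.Unram.AtPrime
import Mathlib.RingTheory.Etale.Locus
import Mathlib.RingTheory.Nakayama
import Mathlib.RingTheory.Localization.LocalizationLocalization
import Mathlib.RingTheory.FinitePresentation

/-!
# Etale neighbourhood of a section from the infinitesimal neighbourhoods (Noetherian case)

`exists_etale_nhd`: if `B → C` becomes, after inverting `g`, bijective modulo all powers of `I`,
then it is etale on a basic open containing the part of `V(I C)` where `g` is invertible.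
-/

set_option autoImplicit false
set_option linter.style.haveILetI false

universe u

open scoped TensorProduct

namespace Groth.Agent.Lib.SmWeil.EtaleNhd

variable {B C : Type u} [CommRing B] [CommRing C] [Algebra B C]

theorem exists_sub_mem_pow {D : Type u} [CommRing D] [Algebra B D] (I : Ideal B)
    (h : ∀ s : D, ∃ b : B, s - algebraMap B D b ∈ I.map (algebraMap B D)) :
    ∀ (n : ℕ) (s : D), ∃ b : B, s - algebraMap B D b ∈ I.map (algebraMap B D) ^ n := by
  intro n
  induction n with
  | zero => exact fun s => ⟨0, by simp⟩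
  | succ n ih =>
    intro s
    obtain ⟨b, hb⟩ := ih s
    suffices ∀ z ∈ (I ^ n).map (algebraMap B D), ∃ b' : B,
        z - algebraMap B D b' ∈ I.map (algebraMap B D) ^ (n + 1) by
      obtain ⟨b', hb'⟩ := this _ (by rw [Ideal.map_pow]; exact hb)
      exact ⟨b + b', by rw [map_add, ← sub_sub]; exact hb'⟩
    intro z hz
    rw [Ideal.map] at hz
    induction hz using Submodule.span_induction with
    | mem z hz =>
      obtain ⟨a, -, rfl⟩ := hz
      exact ⟨a, by rw [sub_self]; exact Ideal.zero_mem _⟩
    | zero => exact ⟨0, by simp⟩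
    | add z w _ _ hz hw =>
      obtain ⟨a, ha⟩ := hz
      obtain ⟨c, hc⟩ := hw
      exact ⟨a + c, by rw [map_add, add_sub_add_comm]; exact Ideal.add_mem _ ha hc⟩
    | smul t z hzmem hz =>
      obtain ⟨a, ha⟩ := hz
      obtain ⟨t₀, ht₀⟩ := h t
      refine ⟨t₀ * a, ?_⟩
      have hzn : z ∈ I.map (algebraMap B D) ^ n := by rw [← Ideal.map_pow]; exact hzmem
      rw [smul_eq_mul, map_mul, show t * z - algebraMap B D t₀ * algebraMap B D a =
        (t - algebraMap B D t₀) * z + algebraMap B D t₀ * (z - algebraMap B D a) by ring]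
      refine Ideal.add_mem _ ?_ (Ideal.mul_mem_left _ _ ha)
      rw [pow_succ']
      exact Ideal.mul_mem_mul ht₀ hzn

theorem surjective_of_forall_sub_mem {D : Type u} [CommRing D] [Algebra B D] (I : Ideal B) (N : ℕ)
    (hN : (I ^ N).map (algebraMap B D) = ⊥)
    (h : ∀ s : D, ∃ b : B, s - algebraMap B D b ∈ I.map (algebraMap B D)) :
    Function.Surjective (algebraMap B D) := by
  intro s
  obtain ⟨b, hb⟩ := exists_sub_mem_pow I h N s
  rw [← Ideal.map_pow, hN, Ideal.mem_bot, sub_eq_zero] at hb
  exact ⟨b, hb.symm⟩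

theorem exists_etale_nhd [IsNoetherianRing B] [Algebra.FiniteType B C] (I : Ideal B) (g : C)
    (hg : g * g - g ∈ I.map (algebraMap B C))
    (hgen : ∀ c, ∃ b, g * c - g * algebraMap B C b ∈ I.map (algebraMap B C))
    (hinj : ∀ (n : ℕ) (b : B) (k : ℕ),
      g ^ k * algebraMap B C b ∈ (I ^ (n + 1)).map (algebraMap B C) → b ∈ I ^ (n + 1)) :
    ∃ h : C, g * (h - 1) ∈ I.map (algebraMap B C) ∧ Algebra.Etale B (Localization.Away h) := by
  set IC := I.map (algebraMap B C) with hIC
  let M : Submonoid C :=
    { carrier := {s | g * (s - 1) ∈ IC}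
      one_mem' := by simp
      mul_mem' := fun {s t} hs ht => by
        show g * (s * t - 1) ∈ IC
        rw [show g * (s * t - 1) = t * (g * (s - 1)) + g * (t - 1) by ring]
        exact IC.add_mem (IC.mul_mem_left _ hs) ht }
  have hgM : g ∈ M := show g * (g - 1) ∈ IC by rwa [mul_sub, mul_one]
  let S := Localization M
  let J : Ideal S := I.map (algebraMap B S)
  have hJ : J = IC.map (algebraMap C S) := by
    rw [hIC, Ideal.map_map, ← IsScalarTower.algebraMap_eq]
  have hJac : J ≤ Ideal.jacobson ⊥ := by
    intro x hx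
    rw [Ideal.mem_jacobson_bot]
    intro y
    have hxy : x * y ∈ J := J.mul_mem_right _ hx
    rw [hJ, IsLocalization.mem_map_algebraMap_iff M] at hxy
    obtain ⟨⟨i, m⟩, him⟩ := hxy
    have hmem : (i : C) + m ∈ M := show g * ((i : C) + m - 1) ∈ IC by
      rw [show g * ((i : C) + m - 1) = g * (i : C) + g * ((m : C) - 1) by ring]
      exact IC.add_mem (IC.mul_mem_left _ i.2) m.2
    have h1 : (x * y + 1) * algebraMap C S m = algebraMap C S ((i : C) + m) := by
      rw [add_mul, one_mul, him, map_add]
    exact (IsUnit.mul_iff.mp (h1 ▸ IsLocalization.map_units S ⟨_, hmem⟩)).1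
  have hgu : IsUnit (algebraMap C S g) := IsLocalization.map_units S ⟨g, hgM⟩
  have hmod : ∀ a b : C, g * (a - b) ∈ IC → algebraMap C S a - algebraMap C S b ∈ J := by
    intro a b hab
    have := Ideal.mem_map_of_mem (algebraMap C S) hab
    rw [← hJ, map_mul, map_sub] at this
    exact (Ideal.unit_mul_mem_iff_mem J hgu).1 this
  have hsurj1 : ∀ s : S, ∃ b : B, s - algebraMap B S b ∈ J := by
    intro s
    obtain ⟨c, m, rfl⟩ := IsLocalization.exists_mk'_eq M s
    obtain ⟨b, hb⟩ := hgen c
    refine ⟨b, ?_⟩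
    have h1 := hmod c (algebraMap B C b) (by rw [mul_sub]; exact hb)
    have h2 := hmod (m : C) 1 m.2
    rw [← IsScalarTower.algebraMap_apply] at h1
    rw [map_one] at h2
    have h3 := IsLocalization.mk'_spec S c m
    have key : IsLocalization.mk' S c m - algebraMap B S b = (algebraMap C S c - algebraMap B S b)
        - IsLocalization.mk' S c m * (algebraMap C S m - 1) := by
      rw [mul_sub, h3, mul_one]
      ring
    rw [key]
    exact J.sub_mem h1 (J.mul_mem_left _ h2)
  have hsurj := exists_sub_mem_pow I hsurj1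
  have hinjS : ∀ (n : ℕ) (b : B), algebraMap B S b ∈ (I ^ n).map (algebraMap B S) → b ∈ I ^ n := by
    intro n b hb
    rcases n with - | n
    · simp
    rw [IsScalarTower.algebraMap_eq B C S, ← Ideal.map_map, RingHom.comp_apply,
      IsLocalization.algebraMap_mem_map_algebraMap_iff M] at hb
    obtain ⟨m, hm, hmb⟩ := hb
    refine hinj n b (n + 1) ?_
    set x := g * (1 - m) with hx
    have hxI : x ∈ IC := by
      rw [hx, show g * (1 - m) = -(g * (m - 1)) by ring]
      exact IC.neg_mem hm
    have h1 : (g - x) * algebraMap B C b ∈ (I ^ (n + 1)).map (algebraMap B C) := by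
      rw [show g - x = g * m by rw [hx]; ring, mul_assoc]
      exact Ideal.mul_mem_left _ _ hmb
    obtain ⟨q, hq⟩ := sub_dvd_pow_sub_pow g x (n + 1)
    rw [show g ^ (n + 1) * algebraMap B C b =
      q * ((g - x) * algebraMap B C b) + x ^ (n + 1) * algebraMap B C b by
        rw [← mul_assoc, mul_comm q, ← hq]; ring]
    refine Ideal.add_mem _ (Ideal.mul_mem_left _ _ h1) (Ideal.mul_mem_right _ _ ?_)
    rw [Ideal.map_pow]
    exact Ideal.pow_mem_pow hxI _
  haveI : IsNoetherianRing C := Algebra.FiniteType.isNoetherianRing B C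
  haveI : IsNoetherianRing S := IsLocalization.isNoetherianRing M S inferInstance
  -- flatness
  haveI : Module.Flat B S := by
    refine LocalFlat.Criterion.flat_of_flat_quotient_pow S I hJac fun n => ?_
    let φ : B ⧸ I ^ n →ₗ[B ⧸ I ^ n] (B ⧸ I ^ n) ⊗[B] S :=
      LinearMap.toSpanSingleton _ _ ((1 : B ⧸ I ^ n) ⊗ₜ[B] (1 : S))
    have hφ : ∀ b : B, φ (Ideal.Quotient.mk _ b) = (1 : B ⧸ I ^ n) ⊗ₜ[B] algebraMap B S b := by
      intro b
      show Ideal.Quotient.mk (I ^ n) b • ((1 : B ⧸ I ^ n) ⊗ₜ[B] (1 : S)) = _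
      rw [TensorProduct.smul_tmul', smul_eq_mul, mul_one, ← Ideal.Quotient.algebraMap_eq,
        Algebra.algebraMap_eq_smul_one, TensorProduct.smul_tmul, ← Algebra.algebraMap_eq_smul_one]
    have hz : ∀ z ∈ (I ^ n).map (algebraMap B S), (1 : B ⧸ I ^ n) ⊗ₜ[B] z = 0 := by
      intro z hz
      have hle : (I ^ n).map (algebraMap B S) ≤
          RingHom.ker (Algebra.TensorProduct.includeRight : S →ₐ[B] (B ⧸ I ^ n) ⊗[B] S).toRingHom :=
        Ideal.map_le_iff_le_comap.2 fun b hb => by
          show (1 : B ⧸ I ^ n) ⊗ₜ[B] algebraMap B S b = 0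
          rw [Algebra.algebraMap_eq_smul_one, ← TensorProduct.smul_tmul,
            ← Algebra.algebraMap_eq_smul_one, Ideal.Quotient.algebraMap_eq,
            Ideal.Quotient.eq_zero_iff_mem.2 hb, TensorProduct.zero_tmul]
      exact hle hz
    let ψ : (B ⧸ I ^ n) ⊗[B] S →ₐ[B] S ⧸ (I ^ n).map (algebraMap B S) :=
      Algebra.TensorProduct.lift (Ideal.quotientMapₐ _ (Algebra.ofId B S) Ideal.le_comap_map)
        (Ideal.Quotient.mkₐ B _) fun _ _ => Commute.all _ _
    have hbij : Function.Bijective φ := by
      refine ⟨(injective_iff_map_eq_zero φ).2 fun a ha => ?_, fun t => ?_⟩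
      · obtain ⟨b, rfl⟩ := Ideal.Quotient.mk_surjective a
        rw [hφ] at ha
        have := congrArg ψ ha
        rw [map_zero] at this
        rw [Ideal.Quotient.eq_zero_iff_mem]
        refine hinjS n b (Ideal.Quotient.eq_zero_iff_mem.1 ?_)
        simpa [ψ] using this
      · induction t with
        | zero => exact ⟨0, map_zero _⟩
        | add a b ha hb =>
          obtain ⟨a', rfl⟩ := ha
          obtain ⟨b', rfl⟩ := hb
          exact ⟨a' + b', map_add _ _ _⟩
        | tmul a s =>
          obtain ⟨a, rfl⟩ := Ideal.Quotient.mk_surjective a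
          obtain ⟨b, hb⟩ := hsurj n s
          refine ⟨Ideal.Quotient.mk _ (a * b), ?_⟩
          rw [← Ideal.map_pow] at hb
          have h0 := hz _ hb
          rw [TensorProduct.tmul_sub, sub_eq_zero] at h0
          rw [hφ, map_mul, ← Algebra.smul_def, TensorProduct.tmul_smul, ← h0,
            TensorProduct.smul_tmul', Algebra.smul_def, Ideal.Quotient.algebraMap_eq, mul_one]
    exact Module.Flat.of_linearEquiv (LinearEquiv.ofBijective φ hbij).symm
  -- unramifiedness
  haveI : Algebra.EssFiniteType C S := Algebra.EssFiniteType.of_isLocalization S M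
  haveI : Algebra.EssFiniteType B S := Algebra.EssFiniteType.comp B C S
  haveI : Algebra.FormallyUnramified B S := by
    constructor
    have htop : (⊤ : Submodule S (Ω[S⁄B])) ≤ J • ⊤ := by
      rw [← KaehlerDifferential.span_range_derivation, Submodule.span_le]
      rintro _ ⟨s, rfl⟩
      rw [KaehlerDifferential.span_range_derivation]
      obtain ⟨b, hb⟩ := hsurj1 s
      have hd : ∀ z ∈ J, KaehlerDifferential.D B S z ∈ J • (⊤ : Submodule S (Ω[S⁄B])) := by
        intro z hz
        rw [show J = Submodule.span S (algebraMap B S '' (I : Set B)) from rfl] at hz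
        induction hz using Submodule.span_induction with
        | mem z hz =>
          obtain ⟨a, -, rfl⟩ := hz
          rw [Derivation.map_algebraMap]
          exact Submodule.zero_mem _
        | zero => rw [map_zero]; exact Submodule.zero_mem _
        | add z w _ _ hz hw => rw [map_add]; exact Submodule.add_mem _ hz hw
        | smul t z hzmem hz =>
          rw [smul_eq_mul, Derivation.leibniz]
          exact Submodule.add_mem _ (Submodule.smul_mem _ _ hz)
            (Submodule.smul_mem_smul hzmem Submodule.mem_top)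
      have := hd _ hb
      rwa [map_sub, Derivation.map_algebraMap, sub_zero] at this
    have := Submodule.eq_bot_of_le_smul_of_le_jacobson_bot J (⊤ : Submodule S (Ω[S⁄B]))
      (Module.Finite.fg_top) htop hJac
    exact ⟨fun a b => by
      have ha : a ∈ (⊤ : Submodule S (Ω[S⁄B])) := trivial
      have hb : b ∈ (⊤ : Submodule S (Ω[S⁄B])) := trivial
      rw [this, Submodule.mem_bot] at ha hb
      rw [ha, hb]⟩
  -- etaleness at the points of `V(IC) ∩ D(g)`
  haveI : Algebra.FinitePresentation B C := Algebra.FinitePresentation.of_finiteType.mp ‹_›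
  have hat : ∀ P : PrimeSpectrum C, IC ≤ P.asIdeal → g ∉ P.asIdeal → P ∈ Algebra.etaleLocus B C := by
    intro P hP hgP
    have hle : M ≤ P.asIdeal.primeCompl := by
      intro m hm hmP
      refine hgP ?_
      have h1 : g * ((m : C) - 1) ∈ P.asIdeal := hP hm
      have h2 : g * m ∈ P.asIdeal := P.asIdeal.mul_mem_left _ hmP
      have := P.asIdeal.sub_mem h2 h1
      rwa [mul_sub, mul_one, sub_sub_cancel] at this
    let T := Localization.AtPrime P.asIdeal
    letI := IsLocalization.localizationAlgebraOfSubmonoidLe S T M P.asIdeal.primeCompl hle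
    haveI := IsLocalization.localization_isScalarTower_of_submonoid_le S T M P.asIdeal.primeCompl hle
    haveI : IsScalarTower B S T := .of_algebraMap_eq fun b => by
      rw [IsScalarTower.algebraMap_apply B C S, ← IsScalarTower.algebraMap_apply C S T,
        ← IsScalarTower.algebraMap_apply]
    haveI := IsLocalization.isLocalization_of_submonoid_le S T M P.asIdeal.primeCompl hle
    rw [Algebra.mem_etaleLocus_iff, Unram.AtPrime.isEtaleAt_iff]
    refine ⟨?_, ?_⟩
    · haveI : Module.Flat S T := IsLocalization.flat T (P.asIdeal.primeCompl.map (algebraMap C S))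
      exact Module.Flat.trans B S T
    · haveI : Algebra.FormallyUnramified S T :=
        Algebra.FormallyUnramified.of_isLocalization (P.asIdeal.primeCompl.map (algebraMap C S))
      exact Algebra.FormallyUnramified.comp B S T
  obtain ⟨K, hK⟩ := (PrimeSpectrum.isClosed_iff_zeroLocus_ideal _).1
    (Algebra.isOpen_etaleLocus (R := B) (A := C)).isClosed_compl
  obtain ⟨k, hk⟩ : g ∈ (K ⊔ IC).radical := by
    rw [Ideal.radical_eq_sInf, Submodule.mem_sInf]
    rintro Q ⟨hQ, hQp⟩
    by_contra hgQ
    have h1 := hat ⟨Q, hQp⟩ (le_sup_right.trans hQ) hgQ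
    have h2 : (⟨Q, hQp⟩ : PrimeSpectrum C) ∈ (Algebra.etaleLocus B C)ᶜ := by
      rw [hK]
      exact le_sup_left.trans hQ
    exact h2 h1
  obtain ⟨x, hx, i, hi, hxi⟩ := Submodule.mem_sup.1 hk
  refine ⟨g * x, ?_, ?_⟩
  · have hpow : ∀ j : ℕ, g * (g ^ j - 1) ∈ IC := fun j => (M.pow_mem hgM j : g ^ j ∈ M)
    rw [show g * (g * x - 1) = g * (g ^ (k + 1) - 1) - g * g * i by
      rw [pow_succ, ← hxi]; ring]
    exact IC.sub_mem (hpow _) (IC.mul_mem_left _ hi)
  · rw [← Algebra.basicOpen_subset_etaleLocus_iff_etale]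
    intro P hP
    by_contra hc
    have h2 : P ∈ (Algebra.etaleLocus B C)ᶜ := hc
    rw [hK] at h2
    exact hP (P.asIdeal.mul_mem_left _ (h2 hx))

end Groth.Agent.Lib.SmWeil.EtaleNhd
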