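import Mathlib.AlgebraicGeometry.AffineTransitionLimit
import Mathlib.Algebra.Category.Ring.FilteredColimits
import Mathlib.CategoryTheory.Limits.Types.Filtered
import Mathlib.RingTheory.FiniteType
import Mathlib.RingTheory.Jacobson.Ring
import Mathlib.FieldTheory.IsAlgClosed.Basic

/-!
# Morphisms to schemes locally of finite presentation are defined over finitely generated subalgebras
-/

set_option autoImplicit false
set_option backward.isDefEq.respectTransparency false

universe u

open CategoryTheory CategoryTheory.Limits AlgebraicGeometry Opposite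

namespace Groth.Agent.Lib.SmWeil.FGFactor

variable (k : CommRingCat.{u}) (B : Type u) [CommRing B] [Algebra k B]

/-- The finitely generated subalgebras. -/
noncomputable def ringDiagram : Finset B ⥤ CommRingCat.{u} where
  obj s := CommRingCat.of (Algebra.adjoin k (s : Set B))
  map {s t} h := CommRingCat.ofHom
    (Subalgebra.inclusion (Algebra.adjoin_mono (R := k) (Finset.coe_subset.2 (leOfHom h)))).toRingHom
  map_id s := by ext x; rfl
  map_comp _ _ := by ext x; rfl

/-- The ring is the union. -/
noncomputable def ringCocone : Cocone (ringDiagram k B) where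
  pt := CommRingCat.of B
  ι := { app := fun s => CommRingCat.ofHom (Algebra.adjoin k (s : Set B)).val.toRingHom
         naturality := fun _ _ _ => by ext x; rfl }

/-- The ring is the colimit. -/
noncomputable def isColimitRingCocone : IsColimit (ringCocone k B) := by
  classical
  haveI : IsFiltered (Finset B) := inferInstance
  haveI : PreservesColimit (ringDiagram k B) (forget CommRingCat.{u}) := inferInstance
  haveI : ReflectsColimit (ringDiagram k B) (forget CommRingCat.{u}) :=
    reflectsColimit_of_reflectsIsomorphisms _ _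
  apply isColimitOfReflects (forget CommRingCat.{u})
  refine Types.FilteredColimit.isColimitOf' _ _ (fun x => ?_) (fun i x y h => ?_)
  · exact ⟨{(x : B)}, ⟨x, Algebra.subset_adjoin (Finset.mem_coe.2 (Finset.mem_singleton_self _))⟩, rfl⟩
  · exact ⟨i, 𝟙 i, by rw [Subtype.ext (h : (x : Algebra.adjoin k (i : Set B)).1 = y.1)]⟩

/-- A morphism from `Spec B` to a scheme lfp over `k` factors through a finitely generated subalgebra. -/
theorem exists_fac {X : Scheme.{u}} (sX : X ⟶ Spec k) [LocallyOfFinitePresentation sX]
    (v : Spec (CommRingCat.of B) ⟶ X) (hv : v ≫ sX = Spec.map (CommRingCat.ofHom (algebraMap k B))) :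
    ∃ (s : Finset B) (v₀ : Spec (CommRingCat.of (Algebra.adjoin k (s : Set B))) ⟶ X),
      v₀ ≫ sX = Spec.map (CommRingCat.ofHom (algebraMap k (Algebra.adjoin k (s : Set B)))) ∧
      Spec.map (CommRingCat.ofHom (Algebra.adjoin k (s : Set B)).val.toRingHom) ≫ v₀ = v := by
  let D : (Finset B)ᵒᵖ ⥤ Scheme.{u} := (ringDiagram k B).op ⋙ Scheme.Spec
  let c : Cone D := Scheme.Spec.mapCone (ringCocone k B).op
  let hc : IsLimit c := isLimitOfPreserves Scheme.Spec (isColimitRingCocone k B).op
  haveI : ∀ {i j : (Finset B)ᵒᵖ} (h : i ⟶ j), IsAffineHom (D.map h) := fun h =>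
    inferInstanceAs (IsAffineHom (Spec.map _))
  haveI : ∀ i, CompactSpace (D.obj i) := fun i => inferInstanceAs (CompactSpace (Spec _))
  haveI : ∀ i, QuasiSeparatedSpace (D.obj i) := fun i => inferInstanceAs (QuasiSeparatedSpace (Spec _))
  let t : D ⟶ (Functor.const _).obj (Spec k) :=
    { app := fun i => Spec.map (CommRingCat.ofHom (algebraMap k (Algebra.adjoin k ((i.unop : Finset B) : Set B))))
      naturality := fun i j h => by
        simp only [Functor.const_obj_map, Category.comp_id]
        exact (Spec.map_comp _ _).symm.trans (congrArg Spec.map (by ext x; rfl)) }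
  obtain ⟨i, v₀, h1, h2⟩ := Scheme.exists_π_app_comp_eq_of_locallyOfFinitePresentation D t sX c hc v (by
    ext i : 2
    simp only [NatTrans.comp_app, Functor.const_map_app]
    refine Eq.trans ?_ hv.symm
    exact (Spec.map_comp _ _).symm.trans (congrArg Spec.map (by ext x; rfl)))
  exact ⟨i.unop, v₀, h2, h1⟩

/-- A finitely generated domain over an algebraically closed field has points avoiding a nonzero element. -/
theorem exists_point {K : Type u} [Field K] [IsAlgClosed K] {A : Type u} [CommRing A] [Algebra K A]
    [IsDomain A] [Algebra.FiniteType K A] {e : A} (he : e ≠ 0) : ∃ a : A →ₐ[K] K, a e ≠ 0 := by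
  haveI : IsJacobsonRing A := isJacobsonRing_of_finiteType (A := K)
  have hj : (⊥ : Ideal A).jacobson = ⊥ :=
    IsJacobsonRing.out (inferInstance : IsJacobsonRing A) (le_of_eq Ideal.radical_bot_of_isReduced)
  obtain ⟨m, hm, hem⟩ : ∃ m : Ideal A, m.IsMaximal ∧ e ∉ m := by
    by_contra h
    push Not at h
    exact he (by
      have : e ∈ (⊥ : Ideal A).jacobson := Ideal.mem_sInf.2 fun {m} hm => h m hm.2
      rwa [hj, Ideal.mem_bot] at this)
  letI := Ideal.Quotient.field m
  haveI : Module.Finite K (A ⧸ m) := finite_of_finite_type_of_isJacobsonRing K (A ⧸ m)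
  let b := AlgEquiv.ofBijective (Algebra.ofId K (A ⧸ m)) IsAlgClosed.algebraMap_bijective_of_isIntegral
  refine ⟨b.symm.toAlgHom.comp (Ideal.Quotient.mkₐ K m), fun h => hem ?_⟩
  have h2 : b (b.symm (Ideal.Quotient.mk m e)) = b 0 := congrArg b h
  rw [b.apply_symm_apply, map_zero] at h2
  exact Ideal.Quotient.eq_zero_iff_mem.1 h2

end Groth.Agent.Lib.SmWeil.FGFactor
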