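import Groth.Agent.Lib.SmWeil.UnitLocus
import Groth.Agent.Lib.GrpSch.FreeRestr
import Mathlib.AlgebraicGeometry.Morphisms.Smooth
import Mathlib.AlgebraicGeometry.Morphisms.Etale
import Mathlib.AlgebraicGeometry.Morphisms.FormallyUnramified
import Mathlib.AlgebraicGeometry.Morphisms.FinitePresentation
import Mathlib.AlgebraicGeometry.Morphisms.FlatMono

/-!
# Locally on the base: the locus over which a monomorphism contains an infinitesimal neighbourhood of a section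
-/

set_option autoImplicit false
set_option linter.style.haveILetI false

universe u

open CategoryTheory CategoryTheory.Limits AlgebraicGeometry TopologicalSpace
open Groth.Agent.Lib
open scoped TensorProduct

namespace Groth.Agent.Lib.SmWeil

variable {Z P Y : Scheme.{u}}

theorem isPullback_comp_mono {A B C D E : Scheme.{u}} {a : A ⟶ B} {b : A ⟶ C} {c : B ⟶ D} {d : C ⟶ D}
    (h : IsPullback a b c d) (i : D ⟶ E) [Mono i] : IsPullback a b (c ≫ i) (d ≫ i) :=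
  IsPullback.of_isLimit' ⟨by rw [reassoc_of% h.w]⟩ (PullbackCone.IsLimit.mk _
    (fun s => h.lift s.fst s.snd ((cancel_mono i).1 (by simpa using s.condition)))
    (fun s => h.lift_fst _ _ _) (fun s => h.lift_snd _ _ _)
    fun s m h1 h2 => h.hom_ext (by rw [h1, h.lift_fst]) (by rw [h2, h.lift_snd]))

theorem exists_affine_shrink (π : Z ⟶ P) [Smooth π] (y : Y ⟶ Z) (σ : P ⟶ Z) (hσ : σ ≫ π = 𝟙 P)
    (η : P ⟶ Y) (hη : η ≫ y = σ) (s : P) :
    ∃ (W : P.Opens) (_ : IsAffineOpen W) (V : Z.Opens) (_ : IsAffineOpen V) (VY : Y.Opens)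
      (_ : IsAffineOpen VY) (hV : V ≤ π ⁻¹ᵁ W) (_ : VY ≤ y ⁻¹ᵁ V),
      s ∈ W ∧ W ≤ η ⁻¹ᵁ VY ∧ (π.appLE W V hV).hom.IsStandardSmooth := by
  obtain ⟨U, hU, V₀, hV₀, hxV, e, hstd⟩ := Smooth.exists_isStandardSmooth π (σ s)
  have hsU : s ∈ U := by
    have := e hxV
    rwa [Scheme.Hom.mem_preimage, ← Scheme.Hom.comp_apply, hσ] at this
  have hyη : η s ∈ y ⁻¹ᵁ V₀ := by
    rw [Scheme.Hom.mem_preimage, ← Scheme.Hom.comp_apply, hη]; exact hxV
  obtain ⟨VY, hVY, hηV, hVYle⟩ := exists_isAffineOpen_mem_and_subset hyη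
  obtain ⟨r, hr, hsr⟩ := hU.exists_basicOpen_le (V := η ⁻¹ᵁ VY) ⟨s, hηV⟩ hsU
  let W := P.basicOpen r
  let f₀ := π.appLE U V₀ e
  let V := Z.basicOpen (f₀ r)
  have hVeq : V = V₀ ⊓ π ⁻¹ᵁ W := Scheme.basicOpen_appLE _ _ _ _ _
  have hVY' : y ⁻¹ᵁ Z.basicOpen (f₀ r) ⊓ VY = Y.basicOpen (y.appLE V₀ VY hVYle (f₀ r)) := by
    rw [Scheme.basicOpen_appLE y, inf_comm]
  refine ⟨W, hU.basicOpen r, V, hV₀.basicOpen _, y ⁻¹ᵁ Z.basicOpen (f₀ r) ⊓ VY,
    hVY' ▸ hVY.basicOpen _, hVeq ▸ inf_le_right, inf_le_left, hsr, fun x hx => ⟨?_, hr hx⟩, ?_⟩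
  · show y (η x) ∈ Z.basicOpen (f₀ r)
    rw [← Scheme.Hom.comp_apply, hη]
    have h1 : η x ∈ y ⁻¹ᵁ V₀ := hVYle (hr hx)
    rw [Scheme.Hom.mem_preimage, ← Scheme.Hom.comp_apply, hη] at h1
    show σ x ∈ V
    rw [hVeq]
    refine ⟨h1, ?_⟩
    show π (σ x) ∈ W
    rw [← Scheme.Hom.comp_apply, hσ]
    exact hx
  · rw [IsAffineOpen.appLE_eq_away_map π hU hV₀ e r]
    letI := hU.isLocalization_basicOpen r
    letI := hV₀.isLocalization_basicOpen (f₀ r)
    exact RingHom.isStandardSmooth_localizationPreserves.away _ r _ _ hstd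

theorem exists_local_locus (π : Z ⟶ P) [Smooth π] (y : Y ⟶ Z) [Mono y] [LocallyOfFinitePresentation y]
    (σ : P ⟶ Z) (hσ : σ ≫ π = 𝟙 P) (η : P ⟶ Y) (hη : η ≫ y = σ) (s : P) :
    ∃ (R : Type u) (_ : CommRing R) (iW : Spec (CommRingCat.of R) ⟶ P) (_ : IsOpenImmersion iW)
      (I : Ideal R), s ∈ Set.range iW ∧ I.FG ∧
      (∀ (A : CommRingCat.{u}) (ρ : CommRingCat.of R ⟶ A),
        GrpSch.FreeRestr.Restr π y (Spec.map ρ ≫ iW) → I.map ρ.hom = ⊥) ∧
      ∀ {ZT : Scheme.{u}} (pr : ZT ⟶ Z) (qT : ZT ⟶ Spec (CommRingCat.of (R ⧸ I))),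
        IsPullback pr qT π (Spec.map (CommRingCat.ofHom (Ideal.Quotient.mk I)) ≫ iW) →
        ∃ (U : Scheme.{u}) (_ : IsAffine U) (q : U ⟶ ZT) (_ : Etale q)
          (e : Spec (CommRingCat.of (R ⧸ I)) ⟶ U) (r : U ⟶ Y),
          r ≫ y = q ≫ pr ∧ e ≫ q ≫ qT = 𝟙 _ ∧
            e ≫ q ≫ pr = Spec.map (CommRingCat.ofHom (Ideal.Quotient.mk I)) ≫ iW ≫ σ := by
  obtain ⟨W, hW, V, hV, VY, hVY, hVW, hVYV, hsW, hWη, hstd⟩ := exists_affine_shrink π y σ hσ η hη s
  have hWσ : W ≤ σ ⁻¹ᵁ V := fun x hx => by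
    have := hVYV (hWη hx)
    rwa [Scheme.Hom.mem_preimage, ← Scheme.Hom.comp_apply, hη] at this
  let iW := hW.fromSpec
  let iV := hV.fromSpec
  let iC := hVY.fromSpec
  let φR := π.appLE W V hVW
  let φC := y.appLE V VY hVYV
  let εB := σ.appLE V W hWσ
  let εC := η.appLE VY W hWη
  have eV : iV ≫ π = Spec.map φR ≫ iW := (IsAffineOpen.SpecMap_appLE_fromSpec π hW hV hVW).symm
  have eC : iC ≫ y = Spec.map φC ≫ iV := (IsAffineOpen.SpecMap_appLE_fromSpec y hV hVY hVYV).symm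
  have eσ : iW ≫ σ = Spec.map εB ≫ iV := (IsAffineOpen.SpecMap_appLE_fromSpec σ hV hW hWσ).symm
  have eη : iW ≫ η = Spec.map εC ≫ iC := (IsAffineOpen.SpecMap_appLE_fromSpec η hVY hW hWη).symm
  have hsec : φR ≫ εB = 𝟙 _ := by
    apply Spec.map_injective
    rw [← cancel_mono iW, Spec.map_comp, Spec.map_id, Category.id_comp, Category.assoc, ← eV,
      ← Category.assoc, ← eσ, Category.assoc, hσ, Category.comp_id]
  have hεC : φC ≫ εC = εB := by
    apply Spec.map_injective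
    rw [← cancel_mono iV, Spec.map_comp, Category.assoc, ← eC, ← Category.assoc, ← eη, Category.assoc,
      hη, ← eσ]
  letI : Algebra Γ(P, W) Γ(Z, V) := φR.hom.toAlgebra
  letI : Algebra Γ(Z, V) Γ(Y, VY) := φC.hom.toAlgebra
  letI : Algebra Γ(P, W) Γ(Y, VY) := (φC.hom.comp φR.hom).toAlgebra
  haveI : IsScalarTower Γ(P, W) Γ(Z, V) Γ(Y, VY) := .of_algebraMap_eq fun _ => rfl
  haveI : Algebra.IsStandardSmooth Γ(P, W) Γ(Z, V) := hstd.toAlgebra
  haveI : Algebra.FinitePresentation Γ(Z, V) Γ(Y, VY) :=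
    HasRingHomProperty.appLE @LocallyOfFinitePresentation y inferInstance ⟨V, hV⟩ ⟨VY, hVY⟩ hVYV
  haveI : FormallyUnramified y := inferInstance
  haveI : Algebra.FormallyUnramified Γ(Z, V) Γ(Y, VY) :=
    HasRingHomProperty.appLE @FormallyUnramified y inferInstance ⟨V, hV⟩ ⟨VY, hVY⟩ hVYV
  let εB' : Γ(Z, V) →ₐ[Γ(P, W)] Γ(P, W) :=
    { εB.hom with commutes' := fun r => congr($(hsec).hom r) }
  have hεC'' : ∀ r, εC.hom (φC.hom (φR.hom r)) = r := fun r => by
    rw [show εC.hom (φC.hom (φR.hom r)) = εB.hom (φR.hom r) from congr($(hεC).hom (φR.hom r))]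
    exact congr($(hsec).hom r)
  let εC' : Γ(Y, VY) →ₐ[Γ(P, W)] Γ(P, W) := { εC.hom with commutes' := hεC'' }
  obtain ⟨I, hI, hcrit, E, _, ι, m, σE, hιet, hm, hσE⟩ :=
    UnitLocus.exists_unit_locus εB' εC' fun b => congr($(hεC).hom b)
  refine ⟨Γ(P, W), inferInstance, iW, inferInstance, I, ?_, hI, fun A ρ hres => ?_, fun {ZT} pr qT sq => ?_⟩
  · rw [hW.range_fromSpec]; exact hsW
  · letI : Algebra Γ(P, W) A := ρ.hom.toAlgebra
    refine hcrit A fun Q _ j θ q hθ hq hnil hqθ => ?_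
    have hker : RingHom.ker q ≤ nilradical Q := by
      obtain ⟨k, hk⟩ := hnil
      exact fun z hz => ⟨k, by simpa [hk] using Ideal.pow_mem_pow hz k⟩
    have e1 : (Spec.map (CommRingCat.ofHom θ) ≫ iV) ≫ π =
        Spec.map (CommRingCat.ofHom j) ≫ Spec.map ρ ≫ iW := by
      rw [Category.assoc, eV, ← Spec.map_comp_assoc, ← Spec.map_comp_assoc]
      congr 2
      exact CommRingCat.hom_ext hθ
    obtain ⟨l, hl⟩ := hres _ _ _ e1
    have e2 : CommRingCat.ofHom θ ≫ CommRingCat.ofHom q = εB ≫ ρ := CommRingCat.hom_ext hqθ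
    have e3 : Spec.map (CommRingCat.ofHom q) ≫ l = Spec.map (εC ≫ ρ) ≫ iC := by
      rw [← cancel_mono y, Category.assoc, Category.assoc, hl, eC, ← Spec.map_comp_assoc,
        ← Spec.map_comp_assoc, e2, reassoc_of% hεC]
    have hrange : Set.range l ⊆ Set.range iC := by
      rintro _ ⟨x, rfl⟩
      obtain ⟨x', rfl⟩ : ∃ x', Spec.map (CommRingCat.ofHom q) x' = x := by
        refine ⟨⟨x.asIdeal.map q, ?_⟩, PrimeSpectrum.ext ?_⟩
        · exact Ideal.map_isPrime_of_surjective hq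
            (le_trans hker (nilradical_le_prime x.asIdeal))
        · show (x.asIdeal.map q).comap q = x.asIdeal
          rw [Ideal.comap_map_of_surjective q hq, ← RingHom.ker_eq_comap_bot, sup_eq_left]
          exact le_trans hker (nilradical_le_prime x.asIdeal)
      rw [← Scheme.Hom.comp_apply, e3, Scheme.Hom.comp_apply]
      exact ⟨_, rfl⟩
    obtain ⟨ψ, hψ⟩ := Spec.map_surjective (IsOpenImmersion.lift iC l hrange)
    have hψl : Spec.map ψ ≫ iC = l := by rw [hψ, IsOpenImmersion.lift_fac]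
    refine ⟨ψ.hom, ?_, ?_⟩
    · refine congrArg CommRingCat.Hom.hom (?_ : φC ≫ ψ = CommRingCat.ofHom θ)
      apply Spec.map_injective
      rw [← cancel_mono iV, Spec.map_comp, Category.assoc, ← eC, reassoc_of% hψl, hl]
    · refine congrArg CommRingCat.Hom.hom (?_ : ψ ≫ CommRingCat.ofHom q = εC ≫ ρ)
      apply Spec.map_injective
      rw [← cancel_mono iC, Spec.map_comp, Category.assoc, hψl, e3]
  · let R := Γ(P, W)
    let B := Γ(Z, V)
    let mk : CommRingCat.of R ⟶ CommRingCat.of (R ⧸ I) := CommRingCat.ofHom (Ideal.Quotient.mk I)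
    let inl : CommRingCat.of (R ⧸ I) ⟶ CommRingCat.of ((R ⧸ I) ⊗[R] B) :=
      CommRingCat.ofHom Algebra.TensorProduct.includeLeftRingHom
    let inr : CommRingCat.of B ⟶ CommRingCat.of ((R ⧸ I) ⊗[R] B) :=
      CommRingCat.ofHom (Algebra.TensorProduct.includeRight : B →ₐ[R] (R ⧸ I) ⊗[R] B).toRingHom
    have hpo : IsPullback (Spec.map inr) (Spec.map inl) (Spec.map φR) (Spec.map mk) :=
      (isPullback_SpecMap_of_isPushout _ _ _ _ (CommRingCat.isPushout_tensorProduct R (R ⧸ I) B)).flip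
    let jT : Spec (CommRingCat.of ((R ⧸ I) ⊗[R] B)) ⟶ ZT :=
      sq.lift (Spec.map inr ≫ iV) (Spec.map inl) (by rw [Category.assoc, eV, reassoc_of% hpo.w])
    have sqo : IsPullback (Spec.map inr) (Spec.map inl) (iV ≫ π) (Spec.map mk ≫ iW) := by
      rw [eV]
      exact isPullback_comp_mono hpo iW
    have sql : IsPullback (Spec.map inr) jT iV pr := by
      refine IsPullback.of_bot (?_ : IsPullback (Spec.map inr) (jT ≫ qT) (iV ≫ π) (Spec.map mk ≫ iW))
        (sq.lift_fst _ _ _).symm sq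
      rw [sq.lift_snd]; exact sqo
    haveI : IsOpenImmersion jT := MorphismProperty.of_isPullback sql inferInstance
    haveI : Etale (Spec.map (CommRingCat.ofHom ι)) :=
      (HasRingHomProperty.Spec_iff (P := @Etale)).2 hιet
    refine ⟨Spec (CommRingCat.of E), inferInstance, Spec.map (CommRingCat.ofHom ι) ≫ jT, inferInstance,
      Spec.map (CommRingCat.ofHom σE), Spec.map (CommRingCat.ofHom m) ≫ iC, ?_, ?_, ?_⟩
    · rw [Category.assoc, Category.assoc, eC, sq.lift_fst, ← Spec.map_comp_assoc, ← Spec.map_comp_assoc]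
      congr 2
      exact CommRingCat.hom_ext (RingHom.ext hm)
    · rw [Category.assoc, sq.lift_snd, ← Spec.map_comp, ← Spec.map_comp, ← Spec.map_id]
      congr 1
      ext r
      show σE (ι (Ideal.Quotient.mk I r ⊗ₜ[R] (1 : B))) = Ideal.Quotient.mk I r
      rw [show Ideal.Quotient.mk I r ⊗ₜ[R] (1 : B) = (1 : R ⧸ I) ⊗ₜ[R] (algebraMap R B r) by
        rw [Algebra.algebraMap_eq_smul_one r, ← TensorProduct.smul_tmul,
          Algebra.smul_def, mul_one]; rfl, ← hm, hσE]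
      exact congrArg (Ideal.Quotient.mk I) (εC'.commutes r)
    · rw [Category.assoc, sq.lift_fst, eσ, ← Spec.map_comp_assoc, ← Spec.map_comp_assoc,
        ← Spec.map_comp_assoc]
      congr 2
      ext b
      show σE (ι ((1 : R ⧸ I) ⊗ₜ[R] b)) = Ideal.Quotient.mk I (εB.hom b)
      rw [← hm, hσE]
      exact congrArg (Ideal.Quotient.mk I) congr($(hεC).hom b)

end Groth.Agent.Lib.SmWeil
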