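import Groth.Agent.Lib.SmWeil.MonoSpread
import Groth.Agent.Lib.SmWeil.MonoLocusLocal
import Groth.Agent.Lib.FreeRes.Locus
import Groth.Agent.Lib.Lim.IdealFP

/-!
# The locus over which a subgroup monomorphism contains a smooth group with connected fibres

`exists_closed_factor_mono`: for a monomorphism `y : Y ⟶ P ⊗ X` locally of finite presentation,
containing the unit and closed under products, `X` smooth with connected fibres, the condition
`T ⊗ X ⊆ Y` on `T ⟶ P` is a closed subscheme of `P`, locally of finite presentation.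
-/

set_option autoImplicit false
set_option linter.style.haveILetI false

universe u

open CategoryTheory CategoryTheory.Limits AlgebraicGeometry MonoidalCategory CartesianMonoidalCategory
open CategoryTheory.MonObj CategoryTheory.GrpObj
open Groth.Agent.Lib Groth.Agent.Lib.HilbD Groth.Agent.Lib.Lim

namespace Groth.Agent.Lib.SmWeil

variable {S : Scheme.{u}} {P X Y : Over S}

theorem restr_iff_exists {T : Over S} (t : T ⟶ P) (y : Y ⟶ P ⊗ X) :
    GrpSch.FreeRestr.Restr (fst P X).left y.left t.left ↔ ∃ l, l ≫ y = t ▷ X := by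
  constructor
  · intro h
    obtain ⟨l, hl⟩ := h _ (t ▷ X).left (fst T X).left (by
      rw [← Over.comp_left, ← Over.comp_left, whiskerRight_fst])
    exact ⟨Over.homMk l (by rw [← Over.w y, reassoc_of% hl, Over.w]), Over.OverMorphism.ext hl⟩
  · rintro ⟨l, hl⟩ M p q hpq
    refine ⟨(isPullback_left (isPullback_whiskerRight' t)).lift p q hpq ≫ l.left, ?_⟩
    rw [Category.assoc, ← Over.comp_left, hl]
    exact IsPullback.lift_fst _ _ _ _

theorem comap_ker_eq_bot_iff {A B U : Scheme.{u}} (c : A ⟶ B) [IsClosedImmersion c] (k : U ⟶ B) :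
    c.ker.comap k = ⊥ ↔ ∃ z, z ≫ c = k := by
  rw [← le_bot_iff, ← Scheme.IdealSheafData.le_map_iff_comap_le, Scheme.IdealSheafData.map_bot]
  constructor
  · intro h
    exact ⟨IsClosedImmersion.lift c k h, IsClosedImmersion.lift_fac c k h⟩
  · rintro ⟨z, rfl⟩
    exact Scheme.Hom.le_ker_comp _ _

variable [GrpObj X]

theorem exists_open_piece [Smooth X.hom] [GeometricallyConnected X.hom] [QuasiSeparated X.hom]
    (y : Y ⟶ P ⊗ X) [Mono y] [LocallyOfFinitePresentation y.left]
    (hone : ∃ e : P ⟶ Y, e ≫ y = lift (𝟙 P) 1)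
    (hmul : ∀ {T : Over S} (g : T ⟶ P) (a b : T ⟶ X), (∃ z, z ≫ y = lift g a) →
      (∃ z, z ≫ y = lift g b) → ∃ z, z ≫ y = lift g (a * b)) (s : P.left) :
    ∃ (R : CommRingCat.{u}) (iW : Spec R ⟶ P.left) (_ : IsOpenImmersion iW)
      (J : (Spec R).IdealSheafData), s ∈ Set.range iW ∧ IdealExt.IsFG J ∧
      ∀ {U : Scheme.{u}} (k : U ⟶ Spec R),
        J.comap k = ⊥ ↔ GrpSch.FreeRestr.Restr (fst P X).left y.left (k ≫ iW) := by
  obtain ⟨η', hη⟩ := hone
  haveI : Smooth (fst P X).left := MorphismProperty.of_isPullback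
    (IsPullback.of_hasPullback P.hom X.hom).flip (inferInstanceAs (Smooth X.hom))
  haveI : Mono y.left := inferInstance
  obtain ⟨R, _, iW, hiW, I, hs, hI, hcrit, hpiece⟩ := exists_local_locus (fst P X).left y.left
    (lift (𝟙 P) (1 : P ⟶ X)).left (by rw [← Over.comp_left, lift_fst, Over.id_left]) η'.left
    (by rw [← Over.comp_left, hη]) s
  let c := Spec.map (CommRingCat.ofHom (Ideal.Quotient.mk I))
  haveI : IsClosedImmersion c := IsClosedImmersion.spec_of_surjective _ Ideal.Quotient.mk_surjective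
  haveI : LocallyOfFinitePresentation c := by
    rw [HasRingHomProperty.Spec_iff (P := @LocallyOfFinitePresentation)]
    exact RingHom.FinitePresentation.of_surjective _ Ideal.Quotient.mk_surjective (by rw [CommRingCat.hom_ofHom, Ideal.mk_ker]; exact hI)
  refine ⟨CommRingCat.of R, iW, hiW, c.ker, hs, Approx.Integral.isFG_ker_of_lfp c, fun {U} k => ?_⟩
  rw [comap_ker_eq_bot_iff]
  constructor
  · rintro ⟨z, rfl⟩
    rw [Category.assoc]
    refine GrpSch.FreeRestr.Restr.precomp ?_ z
    let T : Over S := Over.mk ((c ≫ iW) ≫ P.hom)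
    let t : T ⟶ P := Over.homMk (c ≫ iW) rfl
    obtain ⟨U', _, q, _, e, r, hr, he1, he2⟩ := hpiece (t ▷ X).left (fst T X).left
      (isPullback_left (isPullback_whiskerRight' t))
    let UO : Over S := Over.mk (q ≫ (T ⊗ X).hom)
    let qO : UO ⟶ T ⊗ X := Over.homMk q rfl
    let eO : T ⟶ UO := Over.homMk e (by
      show e ≫ q ≫ (T ⊗ X).hom = T.hom
      rw [← Over.w (fst T X), reassoc_of% he1])
    let rO : UO ⟶ Y := Over.homMk r (by
      show r ≫ Y.hom = q ≫ (T ⊗ X).hom
      rw [← Over.w y, reassoc_of% hr, Over.w])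
    haveI : IsAffine T.left := inferInstanceAs (IsAffine (Spec _))
    haveI : IsAffine UO.left := ‹IsAffine U'›
    haveI : Etale qO.left := ‹Etale q›
    have heq : eO ≫ qO = lift (𝟙 T) 1 := by
      refine Over.OverMorphism.ext ?_
      refine (isPullback_left (isPullback_whiskerRight' t)).hom_ext ?_ ?_
      · show (e ≫ q) ≫ (t ▷ X).left = _
        rw [Category.assoc, he2, ← Over.comp_left, ← Category.assoc,
          show c ≫ iW = t.left from rfl, ← Over.comp_left]
        refine congrArg CommaMorphism.left ?_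
        apply CartesianMonoidalCategory.hom_ext
        · simp
        · simp [MonObj.comp_one]
      · show (e ≫ q) ≫ (fst T X).left = _
        rw [Category.assoc, he1, ← Over.comp_left, lift_fst, Over.id_left]
        rfl
    exact (restr_iff_exists t y).2 (exists_factor_of_etale_nhd y hmul t qO eO heq rO
      (Over.OverMorphism.ext hr))
  · intro hres
    haveI : Mono c := inferInstance
    refine GrpSch.FreeRestr.exists_factor_of_opens c k fun x => ?_
    obtain ⟨V, hV, hxV, -⟩ := exists_isAffineOpen_mem_and_subset (U := ⊤) (x := x) trivial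
    refine ⟨V, hxV, ?_⟩
    haveI : IsAffine V := hV
    obtain ⟨ρ, hρ⟩ := Spec.map_surjective (V.toScheme.isoSpec.inv ≫ V.ι ≫ k)
    have hI0 : I.map ρ.hom = ⊥ := hcrit _ ρ (by
      rw [hρ, Category.assoc, Category.assoc]
      exact (hres.precomp V.ι).precomp _)
    let ρ' : CommRingCat.of (R ⧸ I) ⟶ _ := CommRingCat.ofHom (Ideal.Quotient.lift I ρ.hom fun a ha => by
      have := Ideal.mem_map_of_mem ρ.hom ha
      rwa [hI0, Ideal.mem_bot] at this)
    have hρ' : CommRingCat.ofHom (Ideal.Quotient.mk I) ≫ ρ' = ρ :=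
      CommRingCat.hom_ext (Ideal.Quotient.lift_comp_mk _ _ _)
    refine ⟨V.toScheme.isoSpec.hom ≫ Spec.map ρ', ?_⟩
    rw [Category.assoc, ← Spec.map_comp, hρ', hρ, Iso.hom_inv_id_assoc]

/-- **The transporter into a subgroup monomorphism is closed.** -/
theorem exists_closed_factor_mono [Smooth X.hom] [GeometricallyConnected X.hom] [QuasiSeparated X.hom]
    (y : Y ⟶ P ⊗ X) [Mono y] [LocallyOfFinitePresentation y.left]
    (hone : ∃ e : P ⟶ Y, e ≫ y = lift (𝟙 P) 1)
    (hmul : ∀ {T : Over S} (g : T ⟶ P) (a b : T ⟶ X), (∃ z, z ≫ y = lift g a) →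
      (∃ z, z ≫ y = lift g b) → ∃ z, z ≫ y = lift g (a * b)) :
    ∃ (C : Over S) (c : C ⟶ P), IsClosedImmersion c.left ∧ LocallyOfFinitePresentation c.left ∧
      ∀ {T : Over S} (g : T ⟶ P), (∃ z, z ≫ c = g) ↔ ∃ l, l ≫ y = g ▷ X := by
  have H := exists_open_piece y hone (fun g a b => hmul g a b)
  choose R iW hiW J hs hJ hJiff using H
  let 𝓤 : P.left.OpenCover :=
    { I₀ := P.left
      X := fun s => Spec (R s)
      f := fun s => iW s
      mem₀ := by
        rw [Scheme.presieve₀_mem_precoverage_iff]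
        exact ⟨fun s => ⟨s, hs s⟩, hiW⟩ }
  have hd : ∀ i j, (J i).comap (pullback.fst (𝓤.f i) (𝓤.f j)) =
      (J j).comap (pullback.snd (𝓤.f i) (𝓤.f j)) := fun i j => by
    refine FreeRes.eq_of_forall_iff fun {U} k => ?_
    rw [← Scheme.IdealSheafData.comap_comp, ← Scheme.IdealSheafData.comap_comp, hJiff, hJiff,
      Category.assoc, Category.assoc, show pullback.fst (𝓤.f i) (𝓤.f j) ≫ iW i =
        pullback.snd (𝓤.f i) (𝓤.f j) ≫ iW j from pullback.condition]
  let K := Glue.glue 𝓤 J hd
  have hK : ∀ {U : Scheme.{u}} (k : U ⟶ P.left),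
      K.comap k = ⊥ ↔ GrpSch.FreeRestr.Restr (fst P X).left y.left k := by
    intro U k
    have hpiece : ∀ i, (K.comap k).comap (pullback.fst k (𝓤.f i)) = ⊥ ↔
        GrpSch.FreeRestr.Restr (fst P X).left y.left (pullback.fst k (𝓤.f i) ≫ k) := fun i => by
      rw [← Scheme.IdealSheafData.comap_comp, pullback.condition, Scheme.IdealSheafData.comap_comp,
        Glue.comap_glue, hJiff]
    constructor
    · intro h
      refine GrpSch.FreeRestr.Restr.of_local k fun x => ?_
      let o := pullback.fst k (𝓤.f (k x))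
      obtain ⟨w, hw⟩ := hs (k x)
      obtain ⟨x', hx', -⟩ := Scheme.Pullback.exists_preimage_pullback (f := k) (g := 𝓤.f (k x)) x w hw.symm
      refine ⟨o.opensRange, ⟨x', hx'⟩, ?_⟩
      rw [← Category.id_comp (o.opensRange.ι ≫ k), ← o.isoOpensRange.inv_hom_id, Category.assoc,
        Scheme.Hom.isoOpensRange_hom_ι_assoc]
      exact ((hpiece _).1 (by rw [h, FreeRes.comap_bot])).precomp _
    · intro h
      refine Glue.ext (𝓤.pullback₁ k) fun i => ?_
      refine Eq.trans ?_ (FreeRes.comap_bot _).symm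
      exact (hpiece i).2 (h.precomp _)
  let C : Over S := Over.mk (K.subschemeι ≫ P.hom)
  let c : C ⟶ P := Over.homMk K.subschemeι rfl
  refine ⟨C, c, inferInstanceAs (IsClosedImmersion K.subschemeι), ?_, fun {T} g => ?_⟩
  · show LocallyOfFinitePresentation K.subschemeι
    refine (IsZariskiLocalAtTarget.iff_of_openCover (P := @LocallyOfFinitePresentation) 𝓤).2 fun i => ?_
    have sq := Basic.isPullback_comapMap (𝓤.f i) K
    haveI : LocallyOfFinitePresentation (K.comap (𝓤.f i)).subschemeι := by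
      rw [Glue.comap_glue]
      exact IdealFP.lfp_subschemeι _ (hJ i)
    show LocallyOfFinitePresentation (pullback.snd K.subschemeι (𝓤.f i))
    rw [← sq.isoPullback_inv_snd]
    infer_instance
  · rw [← restr_iff_exists g y, ← hK, ← Basic.exists_lift_iff]
    constructor
    · rintro ⟨z, hz⟩
      exact ⟨z.left, congr($(hz).left)⟩
    · rintro ⟨z, hz⟩
      exact ⟨Over.homMk z (by
        show z ≫ K.subschemeι ≫ P.hom = T.hom
        rw [reassoc_of% hz, Over.w g]), Over.OverMorphism.ext hz⟩

end Groth.Agent.Lib.SmWeil
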