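import Groth.Agent.Lib.SmWeil.Dense
import Groth.Agent.Lib.GrpQ.Desc
import Mathlib.AlgebraicGeometry.Morphisms.Etale
import Mathlib.CategoryTheory.Monoidal.Cartesian.Grp

/-!
# Spreading an etale neighbourhood of the unit over a connected smooth group

`exists_factor_of_etale_nhd`: a monomorphism into `P ⊗ X`, closed under products, containing an etale
neighbourhood of the unit over an affine `T ⟶ P`, contains all of `T ⊗ X`.
-/

set_option autoImplicit false
set_option linter.style.haveILetI false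

universe u

open CategoryTheory CategoryTheory.Limits AlgebraicGeometry MonoidalCategory CartesianMonoidalCategory
open CategoryTheory.MonObj CategoryTheory.GrpObj
open Groth.Agent.Lib

namespace Groth.Agent.Lib.SmWeil

variable {S : Scheme.{u}} {X T U : Over S}

theorem isPullback_whiskerRight' {P : Over S} (g : U ⟶ P) :
    IsPullback (g ▷ X) (fst U X) (fst P X) g := by
  refine IsPullback.of_isLimit' ⟨whiskerRight_fst g X⟩ (PullbackCone.IsLimit.mk _
    (fun s => lift s.snd (s.fst ≫ snd P X)) (fun s => ?_) (fun s => lift_fst _ _) fun s m h1 h2 => ?_)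
  · apply CartesianMonoidalCategory.hom_ext
    · rw [Category.assoc, whiskerRight_fst, lift_fst_assoc, s.condition]
    · rw [Category.assoc, whiskerRight_snd, lift_snd]
  · apply CartesianMonoidalCategory.hom_ext
    · rw [lift_fst]; exact h2
    · rw [lift_snd, ← h1, Category.assoc, whiskerRight_snd]

theorem isPullback_left {A B C D : Over S} {a : A ⟶ B} {b : A ⟶ C} {c : B ⟶ D} {d : C ⟶ D}
    (h : IsPullback a b c d) : IsPullback a.left b.left c.left d.left :=
  h.map (Over.forget S)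

theorem irreducibleSpace_left_of_field {K : Type u} [Field K] (p : Spec (CommRingCat.of K) ⟶ S)
    [Smooth X.hom] [GeometricallyConnected X.hom] :
    IrreducibleSpace ↥((Over.mk p) ⊗ X).left := by
  show IrreducibleSpace ↥(pullback p X.hom)
  haveI : Subsingleton ↥(Spec (CommRingCat.of K)) := inferInstanceAs (Subsingleton (PrimeSpectrum K))
  haveI : GeometricallyConnected (pullback.fst p X.hom) :=
    MorphismProperty.of_isPullback (IsPullback.of_hasPullback p X.hom).flip inferInstance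
  haveI : ConnectedSpace ↥(pullback p X.hom) :=
    GeometricallyConnected.connectedSpace_of_subsingleton (f := pullback.fst p X.hom)
  haveI : IsLocallyNoetherian (pullback p X.hom) :=
    LocallyOfFiniteType.isLocallyNoetherian (pullback.fst p X.hom)
  refine (Groth.Agent.Lib.FinCond.irreducibleSpace_iff _).2 ⟨inferInstance, fun x => ?_⟩
  haveI := Cyc.SmoothReg.isRegularLocalRing_stalk (k := K) (pullback.fst p X.hom) x
  haveI := Regular.Quotient.isDomain ((pullback p X.hom).presheaf.stalk x)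
  rw [nilradical_eq_zero]
  exact Ideal.isPrime_bot

variable [GrpObj X]

/-- Products of two points in the image of an open neighbourhood of the unit cover everything. -/
theorem exists_mul_mem [Smooth X.hom] [GeometricallyConnected X.hom] {K : Type u} [Field K]
    (p : Spec (CommRingCat.of K) ⟶ S) (t : Over.mk p ⟶ T) (x : Over.mk p ⟶ X)
    (O : (T ⊗ X).left.Opens) (h1 : ∀ z, (lift t (1 : Over.mk p ⟶ X)).left z ∈ O) :
    ∃ (L : Type u) (_ : Field L) (q : Spec (CommRingCat.of L) ⟶ S) (m : Over.mk q ⟶ Over.mk p)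
      (a b : Over.mk q ⟶ X), a * b = m ≫ x ∧
        (∀ z, (lift (m ≫ t) a).left z ∈ O) ∧ ∀ z, (lift (m ≫ t) b).left z ∈ O := by
  let Pt : Over S := Over.mk p
  let w : Pt ⊗ X ⟶ X := snd Pt X
  let xx : Pt ⊗ X ⟶ X := fst Pt X ≫ x
  let m1 : Pt ⊗ X ⟶ T ⊗ X := lift (fst Pt X ≫ t) w
  let m2 : Pt ⊗ X ⟶ T ⊗ X := lift (fst Pt X ≫ t) (xx * w⁻¹)
  haveI : IrreducibleSpace ↥(Pt ⊗ X).left := irreducibleSpace_left_of_field p
  let z₀ : (Pt : Over S).left := IsLocalRing.closedPoint K
  have e1 : lift (𝟙 Pt) (1 : Pt ⟶ X) ≫ m1 = lift t 1 := by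
    apply CartesianMonoidalCategory.hom_ext <;> simp [m1, w]
  have e2 : lift (𝟙 Pt) x ≫ m2 = lift t 1 := by
    apply CartesianMonoidalCategory.hom_ext <;>
      simp [m2, w, xx, MonObj.comp_mul, GrpObj.comp_inv]
  have n1 : ((m1.left ⁻¹ᵁ O : (Pt ⊗ X).left.Opens) : Set (Pt ⊗ X).left).Nonempty :=
    ⟨(lift (𝟙 Pt) (1 : Pt ⟶ X)).left z₀, by
      show m1.left ((lift (𝟙 Pt) (1 : Pt ⟶ X)).left z₀) ∈ O
      rw [← Scheme.Hom.comp_apply, ← Over.comp_left, e1]; exact h1 z₀⟩
  have n2 : ((m2.left ⁻¹ᵁ O : (Pt ⊗ X).left.Opens) : Set (Pt ⊗ X).left).Nonempty :=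
    ⟨(lift (𝟙 Pt) x).left z₀, by
      show m2.left ((lift (𝟙 Pt) x).left z₀) ∈ O
      rw [← Scheme.Hom.comp_apply, ← Over.comp_left, e2]; exact h1 z₀⟩
  obtain ⟨v, hv1, hv2⟩ := nonempty_preirreducible_inter (m1.left ⁻¹ᵁ O).isOpen (m2.left ⁻¹ᵁ O).isOpen n1 n2
  let L := (Pt ⊗ X).left.residueField v
  let h : Over.mk ((Pt ⊗ X).left.fromSpecResidueField v ≫ (Pt ⊗ X).hom) ⟶ Pt ⊗ X :=
    Over.homMk ((Pt ⊗ X).left.fromSpecResidueField v) rfl
  have hh : ∀ z, h.left z = v := fun z => Scheme.fromSpecResidueField_apply v z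
  refine ⟨L, inferInstance, _, h ≫ fst Pt X, h ≫ (xx * w⁻¹), h ≫ w, ?_, fun z => ?_, fun z => ?_⟩
  · rw [← MonObj.comp_mul, inv_mul_cancel_right, Category.assoc]
  · have e : lift ((h ≫ fst Pt X) ≫ t) (h ≫ (xx * w⁻¹)) = h ≫ m2 := by
      rw [comp_lift, Category.assoc]
    rw [e, Over.comp_left, Scheme.Hom.comp_apply, hh]
    exact hv2
  · have e : lift ((h ≫ fst Pt X) ≫ t) (h ≫ w) = h ≫ m1 := by rw [comp_lift, Category.assoc]
    rw [e, Over.comp_left, Scheme.Hom.comp_apply, hh]
    exact hv1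

theorem exists_factor_of_etale_nhd {P Y : Over S} [Smooth X.hom] [GeometricallyConnected X.hom]
    [QuasiSeparated X.hom] (y : Y ⟶ P ⊗ X) [Mono y]
    (hmul : ∀ {T' : Over S} (g : T' ⟶ P) (a b : T' ⟶ X), (∃ z, z ≫ y = lift g a) →
      (∃ z, z ≫ y = lift g b) → ∃ z, z ≫ y = lift g (a * b))
    (t : T ⟶ P) [IsAffine T.left] [IsAffine U.left] (q : U ⟶ T ⊗ X) [Etale q.left]
    (e : T ⟶ U) (he : e ≫ q = lift (𝟙 T) 1) (r : U ⟶ Y) (hr : r ≫ y = q ≫ (t ▷ X)) :
    ∃ l, l ≫ y = t ▷ X := by
  let v : U ⟶ T := q ≫ fst T X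
  haveI : Smooth (fst T X).left := inferInstanceAs (Smooth (pullback.fst T.hom X.hom))
  haveI : QuasiSeparated (fst T X).left :=
    inferInstanceAs (QuasiSeparated (pullback.fst T.hom X.hom))
  haveI : QuasiSeparatedSpace ↥(T ⊗ X).left :=
    (quasiSeparated_iff_quasiSeparatedSpace (fst T X).left).1 inferInstance
  haveI : Smooth v.left := inferInstanceAs (Smooth (q.left ≫ (fst T X).left))
  let W : Over S := Over.mk (pullback.fst v.left v.left ≫ U.hom)
  let p₁ : W ⟶ U := Over.homMk (pullback.fst v.left v.left) rfl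
  let p₂ : W ⟶ U := Over.homMk (pullback.snd v.left v.left) (by
    show pullback.snd v.left v.left ≫ U.hom = pullback.fst v.left v.left ≫ U.hom
    rw [← Over.w v, ← reassoc_of% (pullback.condition (f := v.left) (g := v.left))])
  have hW : p₁ ≫ v = p₂ ≫ v := Over.OverMorphism.ext pullback.condition
  let a : U ⟶ X := q ≫ snd T X
  have hq : q = lift v a := by apply CartesianMonoidalCategory.hom_ext <;> simp [v, a]
  let τ : W ⟶ T := p₁ ≫ v
  let π : W ⟶ T ⊗ X := lift τ ((p₁ ≫ a) * (p₂ ≫ a))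
  obtain ⟨zz, hzz⟩ := hmul (τ ≫ t) (p₁ ≫ a) (p₂ ≫ a)
    ⟨p₁ ≫ r, by rw [Category.assoc, hr, hq]; apply CartesianMonoidalCategory.hom_ext <;> simp [τ]⟩
    ⟨p₂ ≫ r, by
      rw [Category.assoc, hr, hq, show τ = p₂ ≫ v from hW]
      apply CartesianMonoidalCategory.hom_ext <;> simp⟩
  have hπ : π ≫ (t ▷ X) = lift (τ ≫ t) ((p₁ ≫ a) * (p₂ ≫ a)) := by
    apply CartesianMonoidalCategory.hom_ext <;> simp [π]
  haveI : Flat π.left := by
    let φ : W ⟶ U ⊗ X := lift p₁ (p₂ ≫ a)
    let sh : U ⊗ X ≅ U ⊗ X :=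
      { hom := lift (fst U X) ((fst U X ≫ a) * snd U X)
        inv := lift (fst U X) ((fst U X ≫ a)⁻¹ * snd U X)
        hom_inv_id := by
          apply CartesianMonoidalCategory.hom_ext <;> simp [MonObj.comp_mul, GrpObj.comp_inv]
        inv_hom_id := by
          apply CartesianMonoidalCategory.hom_ext <;> simp [MonObj.comp_mul, GrpObj.comp_inv] }
    have hφ : IsPullback φ.left p₂.left (v ▷ X).left q.left := by
      refine IsPullback.of_right (?_ : IsPullback (φ.left ≫ (fst U X).left) p₂.left v.left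
        (q.left ≫ (fst T X).left)) ?_ (isPullback_left (isPullback_whiskerRight' v)).flip
      · rw [← Over.comp_left, show φ ≫ fst U X = p₁ from lift_fst _ _]
        exact IsPullback.of_hasPullback v.left v.left
      · rw [← Over.comp_left, ← Over.comp_left]
        refine congrArg CommaMorphism.left ?_
        apply CartesianMonoidalCategory.hom_ext
        · simpa [φ] using hW
        · simp [φ, a]
    haveI : Flat φ.left := MorphismProperty.of_isPullback hφ.flip inferInstance
    haveI : Flat (v ▷ X).left :=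
      MorphismProperty.of_isPullback (isPullback_left (isPullback_whiskerRight' v)).flip inferInstance
    haveI : Flat sh.hom.left := inferInstanceAs (Flat ((Over.forget S).mapIso sh).hom)
    have : π = φ ≫ sh.hom ≫ (v ▷ X) := by
      apply CartesianMonoidalCategory.hom_ext <;> simp [π, φ, sh, τ, MonObj.comp_mul]
    rw [this]
    exact inferInstanceAs (Flat (φ.left ≫ sh.hom.left ≫ (v ▷ X).left))
  haveI : Surjective π.left := ⟨fun z => by
    let K := (T ⊗ X).left.residueField z
    let g : Over.mk ((T ⊗ X).left.fromSpecResidueField z ≫ (T ⊗ X).hom) ⟶ T ⊗ X :=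
      Over.homMk ((T ⊗ X).left.fromSpecResidueField z) rfl
    let O : (T ⊗ X).left.Opens := ⟨Set.range q.left, q.left.isOpenMap.isOpen_range⟩
    obtain ⟨L, _, pL, m, a₁, a₂, hab, hO1, hO2⟩ := exists_mul_mem (K := K) _ (g ≫ fst T X)
      (g ≫ snd T X) O fun z' => by
        rw [show lift (g ≫ fst T X) (1 : _ ⟶ X) = ((g ≫ fst T X) ≫ e) ≫ q by
          rw [Category.assoc, he, comp_lift, Category.comp_id, MonObj.comp_one], Over.comp_left,
          Scheme.Hom.comp_apply]
        exact ⟨_, rfl⟩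
    let h₁ : Over.mk pL ⟶ T ⊗ X := lift (m ≫ g ≫ fst T X) a₁
    let h₂ : Over.mk pL ⟶ T ⊗ X := lift (m ≫ g ≫ fst T X) a₂
    let l₀ : ↥(Over.mk pL).left := IsLocalRing.closedPoint L
    haveI : Subsingleton ↥(Over.mk pL).left := inferInstanceAs (Subsingleton (PrimeSpectrum L))
    obtain ⟨u₁, hu₁⟩ := hO1 l₀
    obtain ⟨u₂, hu₂⟩ := hO2 l₀
    obtain ⟨b₁, -, -⟩ := Scheme.Pullback.exists_preimage_pullback (f := q.left) (g := h₁.left) u₁ l₀ hu₁
    obtain ⟨b₂, -, -⟩ := Scheme.Pullback.exists_preimage_pullback (f := q.left) (g := h₂.left) u₂ l₀ hu₂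
    obtain ⟨b, -, -⟩ := Scheme.Pullback.exists_preimage_pullback (f := pullback.snd q.left h₁.left)
      (g := pullback.snd q.left h₂.left) b₁ b₂ (Subsingleton.elim _ _)
    let Q := pullback (pullback.snd q.left h₁.left) (pullback.snd q.left h₂.left)
    let k : Q ⟶ Spec (CommRingCat.of L) :=
      pullback.fst (pullback.snd q.left h₁.left) (pullback.snd q.left h₂.left) ≫ pullback.snd q.left h₁.left
    let Z : Over S := Over.mk (k ≫ pL)
    let kz : Z ⟶ Over.mk pL := Over.homMk k rfl
    let v₁ : Z ⟶ U := Over.homMk (pullback.fst _ _ ≫ pullback.fst q.left h₁.left) (by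
      show _ = k ≫ pL
      rw [← Over.w q, Category.assoc, pullback.condition_assoc, Over.w h₁]
      simp only [k, Category.assoc]; rfl)
    let v₂ : Z ⟶ U := Over.homMk (pullback.snd _ _ ≫ pullback.fst q.left h₂.left) (by
      show _ = k ≫ pL
      rw [← Over.w q, Category.assoc, pullback.condition_assoc, Over.w h₂]
      simp only [k, pullback.condition, Category.assoc]; rfl)
    have hv₁ : v₁ ≫ q = kz ≫ h₁ := Over.OverMorphism.ext (by
      show (_ ≫ _) ≫ q.left = k ≫ h₁.left
      rw [Category.assoc, pullback.condition]; simp only [k, Category.assoc])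
    have hv₂ : v₂ ≫ q = kz ≫ h₂ := Over.OverMorphism.ext (by
      show (_ ≫ _) ≫ q.left = k ≫ h₂.left
      rw [Category.assoc, pullback.condition]; simp only [k, pullback.condition, Category.assoc])
    have hv : v₁ ≫ v = v₂ ≫ v := by
      simp only [v, reassoc_of% hv₁, reassoc_of% hv₂, h₁, h₂, lift_fst]
    let w : Z ⟶ W := Over.homMk (pullback.lift v₁.left v₂.left congr($(hv).left))
      (by
        show pullback.lift v₁.left v₂.left _ ≫ pullback.fst v.left v.left ≫ U.hom = _
        rw [pullback.lift_fst_assoc, Over.w v₁])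
    have hw1 : w ≫ p₁ = v₁ := Over.OverMorphism.ext (pullback.lift_fst _ _ _)
    have hw2 : w ≫ p₂ = v₂ := Over.OverMorphism.ext (pullback.lift_snd _ _ _)
    have : w ≫ π = kz ≫ m ≫ g := by
      apply CartesianMonoidalCategory.hom_ext
      · simp only [π, τ, Category.assoc, lift_fst, reassoc_of% hw1, v, reassoc_of% hv₁, h₁]
      · simp only [π, Category.assoc, lift_snd, MonObj.comp_mul, reassoc_of% hw1, reassoc_of% hw2,
          a, reassoc_of% hv₁, reassoc_of% hv₂, h₁, h₂]
        rw [← MonObj.comp_mul, hab]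
    refine ⟨w.left b, ?_⟩
    rw [← Scheme.Hom.comp_apply, ← Over.comp_left, this]
    exact Scheme.fromSpecResidueField_apply z _⟩
  haveI : CompactSpace ↥W.left := inferInstanceAs (CompactSpace ↥(pullback v.left v.left))
  haveI : QuasiCompact π.left := inferInstance
  exact GrpQ.exists_factor y (t ▷ X) (GrpQ.IsCover.mk' π) zz (hzz.trans hπ.symm)

end Groth.Agent.Lib.SmWeil
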