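import Groth.Agent.Lib.SmWeil.CartanSolvable
import Groth.Agent.Lib.SmWeil.MonoApps
import Groth.Agent.H87.Locus
import Groth.Agent.H87.Normal

/-!
# In a smooth connected solvable group, normalising a torus means centralising it
-/

set_option autoImplicit false
set_option linter.style.haveILetI false
set_option linter.unusedSectionVars false

universe u

open CategoryTheory CategoryTheory.Limits AlgebraicGeometry MonoidalCategory CartesianMonoidalCategory
open CategoryTheory.MonObj CategoryTheory.GrpObj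
open Groth.Agent.Lib Groth.Agent.H87
open Groth.Agent.Lib.RedPts

namespace Groth.Agent.Lib.SmWeil.SolvableNorm

variable {k : Type u} [Field k] [IsAlgClosed k]

local notation3 "pt" => (𝟙_ (Over (Spec (CommRingCat.of k))))

section Points

open Groth.Agent.H1.Classical Groth.Agent.H1.Classical.Torus
open Groth.Agent.Lib.RedPts.Points Scheme' MaxTorusScheme MaxTorusApply

attribute [local instance] baseAlgebra

/-- On points: in a connected solvable group an element normalising a torus centralises it. -/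
theorem centralizes_of_normalizes_pts {A : Type u} [CommRing A] [HopfAlgebra k A] [Algebra.FiniteType k A]
    [IsDomain A] [Group.IsSolvable (HopfPts.Pt k A)] {S : Subgroup (HopfPts.Pt k A)}
    (hS : Centraliser.IsTor (HopfPts.D k A) S) {n : HopfPts.Pt k A} (hn : ∀ t ∈ S, n * t * n⁻¹ ∈ S) :
    ∀ t ∈ S, n * t = t * n := by
  obtain ⟨W, _, σ, hσ⟩ := GenRep.exists_gen (HopfPts.D k A) hasMul_pts pts_ext
  have hcl : (HopfPts.D k A).IsCl ((⊤ : Subgroup (HopfPts.Pt k A)) : Set (HopfPts.Pt k A)) :=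
    fun x _ => Subgroup.mem_top x
  have hirr : (HopfPts.D k A).SIrr ((⊤ : Subgroup (HopfPts.Pt k A)) : Set (HopfPts.Pt k A)) := by
    rw [Subgroup.coe_top]; exact HopfPts.sirr_univ
  obtain ⟨T₁, U, τ, hs⟩ := Split.exists_split ((HopfPts.D k A).restrict ⊤ hcl)
    ((HopfPts.D k A).sirr_restrict.mpr (by rw [Set.image_univ, Subtype.range_coe_subtype]; exact hirr))
    (σ.comp (⊤ : Subgroup (HopfPts.Pt k A)).subtype)
    (GenRep.Gen.restrict (HopfPts.D k A) hσ ⊤ hcl)
  obtain ⟨w, -, hw⟩ := MaxTorus.conj_into_borel hasMul_pts hσ hcl hs hS le_top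
  intro t ht
  obtain ⟨a, ha, haw⟩ := hw t ht
  obtain ⟨a', ha', haw'⟩ := hw _ (hn t ht)
  change (a : HopfPts.Pt k A) = _ at haw
  change (a' : HopfPts.Pt k A) = _ at haw'
  have h1 : a' = (⟨w * n * w⁻¹, Subgroup.mem_top _⟩ : (⊤ : Subgroup (HopfPts.Pt k A))) * a *
      (⟨w * n * w⁻¹, Subgroup.mem_top _⟩ : (⊤ : Subgroup (HopfPts.Pt k A)))⁻¹ := Subtype.ext (by
    show (a' : HopfPts.Pt k A) = w * n * w⁻¹ * (a : HopfPts.Pt k A) * (w * n * w⁻¹)⁻¹
    rw [haw, haw']
    group)
  have h2 := congrArg τ h1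
  rw [map_mul, map_mul, map_inv, hs.tau_fix a' ha', hs.tau_fix a ha, hs.comm _ (hs.tau_mem _) _ ha,
    mul_inv_cancel_right] at h2
  have h4 : w * (n * t * n⁻¹) * w⁻¹ = w * t * w⁻¹ := by
    rw [← haw, ← haw']
    exact congrArg Subtype.val h2
  have h5 : n * t * n⁻¹ = t := mul_left_cancel (mul_right_cancel h4)
  exact mul_inv_eq_iff_eq_mul.mp h5

end Points

/-- In a smooth connected solvable affine group a point normalising the image of a torus centralises it. -/
theorem commute_image {Q T : Over (Spec (CommRingCat.of k))} [GrpObj Q] [GrpObj T] [IsAffine Q.left] [Smooth Q.hom]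
    [ConnectedSpace Q.left] (hQ : Red.IsSolvableGrp Q) (hT : Red.IsTorus T) (u : T ⟶ Q) [IsMonHom u]
    (y : pt ⟶ Q) (hy : ∀ h : pt ⟶ T, ∃ h' : pt ⟶ T, y * (h ≫ u) * y⁻¹ = h' ≫ u) :
    ∃ (D : Over (Spec (CommRingCat.of k))) (_ : GrpObj D) (d : D ⟶ Q), IsMonHom d ∧ IsClosedImmersion d.left ∧
      ConnectedSpace D.left ∧ (∃ z, z ≫ d = y) ∧
      ∀ (X : Over (Spec (CommRingCat.of k))) (x : X ⟶ D) (h : X ⟶ T), Commute (x ≫ d) (h ≫ u) := by
  obtain ⟨r, ⟨eT⟩⟩ := TorusIn.exists_split T hT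
  let E := Tori.BaseChange.overIso eT
  haveI : IsMonHom E.inv := inferInstanceAs (IsMonHom (Tori.BaseChange.overIso eT.symm).hom)
  obtain ⟨M, jM, hjM, hjMm, hfac⟩ := KerField.exists_image (E.inv ≫ u)
  haveI := hjM
  haveI := hjMm
  have htM := TorusIn.isTorus_DS (S := Spec (CommRingCat.of k)) M
  haveI : Surjective (Red.DSmap (Spec (CommRingCat.of k)) M.subtype).left :=
    (Loci.ff_DSmap _ (φ := M.subtype) Subtype.coe_injective).2
  haveI := Tori.DS.locallyOfFinitePresentation (Spec (CommRingCat.of k)) (Fin r → ℤ)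
  haveI := Tori.DS.isAffineHom (Spec (CommRingCat.of k)) (Fin r → ℤ)
  haveI hsmM := Tori.Basic.smooth_of_isTorus htM
  haveI := Tori.Basic.isAffineHom_of_isTorus htM
  obtain ⟨A, _, _, _, _, e, he⟩ := H1.Classical.MaxTorusApply.exists_GA Q
  haveI := he
  haveI := H1.Classical.MaxTorusScheme.locallyOfFiniteType (k := k) (A := A)
  haveI : IsMonHom e.inv := inferInstance
  let Φ : H1.Classical.HopfPts.Pt k A →* (pt ⟶ Q) :=
    (H1.Classical.Scheme'.postcomp e.inv _).comp (H1.Classical.Scheme'.ptHom _)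
  have hΦ : ∀ χ, Φ χ = H1.Classical.Scheme'.ptHom _ χ ≫ e.inv := fun χ => rfl
  have hΦs : Function.Surjective Φ := fun z => by
    obtain ⟨χ, hχ⟩ := H1.Classical.Scheme'.ptHom_surjective (z ≫ e.hom)
    exact ⟨χ, by rw [hΦ, hχ, Category.assoc, e.hom_inv_id, Category.comp_id]⟩
  have hΦi : Function.Injective Φ := fun a c h =>
    H1.Classical.Scheme'.ptHom_injective ((cancel_mono e.inv).mp h)
  have hS := H1.Classical.TorusPts.isTor_ptsOf (jM ≫ e.hom) htM
  haveI : Group.IsSolvable (pt ⟶ Q) := ⟨⟨hQ.choose, hQ.choose_spec _⟩⟩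
  haveI : Group.IsSolvable (H1.Classical.HopfPts.Pt k A) := Group.isSolvable_of_isSolvable_injective hΦi
  have hmem : ∀ χ, χ ∈ H1.Classical.Scheme'.ptsOf (jM ≫ e.hom) ↔ ∃ h : pt ⟶ T, h ≫ u = Φ χ := fun χ => by
    constructor
    · rintro ⟨x, hx⟩
      obtain ⟨x', hx'⟩ := GrpSch.exists_lift_point (Red.DSmap (Spec (CommRingCat.of k)) M.subtype) x
      refine ⟨x' ≫ E.inv, ?_⟩
      rw [hΦ, ← show x ≫ jM ≫ e.hom = H1.Classical.Scheme'.ptHom _ χ from hx, Category.assoc, ← hfac,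
        ← Category.assoc x', hx']
      simp
    · rintro ⟨h, hh⟩
      refine ⟨(h ≫ E.hom) ≫ Red.DSmap (Spec (CommRingCat.of k)) M.subtype, ?_⟩
      show ((h ≫ E.hom) ≫ _) ≫ jM ≫ e.hom = H1.Classical.Scheme'.ptHom pt χ
      simp only [Category.assoc]
      rw [reassoc_of% hfac, Iso.hom_inv_id_assoc, ← Category.assoc, hh, hΦ, Category.assoc, e.inv_hom_id,
        Category.comp_id]
  obtain ⟨n, rfl⟩ := hΦs y
  have hcomm := centralizes_of_normalizes_pts hS (n := n) fun s hs => by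
    obtain ⟨h, hh⟩ := (hmem s).mp hs
    obtain ⟨h', hh'⟩ := hy h
    exact (hmem _).mpr ⟨h', by rw [← hh', hh, map_mul, map_mul, map_inv]⟩
  obtain ⟨D, hDg, d, hD, hdcl, -⟩ := exists_centralizer_torus htM jM
  obtain ⟨-, -, -, hDconn⟩ := H1.Classical.CentralizerScheme.props' jM htM d hD
  refine ⟨D, hDg, d, hD.1, hdcl, hDconn, ?_, fun X x h => ?_⟩
  · have key : (toUnit _ ≫ Φ n) * jM = jM * (toUnit _ ≫ Φ n) := by
      haveI : QuasiCompact (Red.DS (Spec (CommRingCat.of k)) M).hom := inferInstance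
      haveI : IsReduced (Red.DS (Spec (CommRingCat.of k)) M).left :=
        GrpSch.isReduced_of_smooth_field (Red.DS (Spec (CommRingCat.of k)) M).hom
      haveI := GrpSch.isSeparated_of_field Q
      refine CartanSolvable.ext_of_rat _ _ fun z => ?_
      obtain ⟨z', hz'⟩ := GrpSch.exists_lift_point (Red.DSmap (Spec (CommRingCat.of k)) M.subtype) z
      obtain ⟨χ, hχ⟩ := hΦs (z ≫ jM)
      have hχm : χ ∈ H1.Classical.Scheme'.ptsOf (jM ≫ e.hom) := (hmem χ).mpr ⟨z' ≫ E.inv, by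
        rw [hχ, ← hz', Category.assoc, Category.assoc, hfac]⟩
      rw [MonObj.comp_mul, MonObj.comp_mul, ← Category.assoc, toUnit_unique (z ≫ toUnit _) (𝟙 _), Category.id_comp,
        ← hχ, ← map_mul, ← map_mul, hcomm χ hχm]
    refine (hD.2.2 _ (Φ n)).2 fun X' x' m => ?_
    rw [toUnit_unique x' (toUnit X')]
    have h := congrArg (m ≫ ·) key
    simp only [MonObj.comp_mul, ← Category.assoc, toUnit_unique (m ≫ toUnit _) (toUnit X')] at h
    exact h
  · have h1 := (hD.2.2 X (x ≫ d)).1 ⟨x, rfl⟩ X (𝟙 _) ((h ≫ E.hom) ≫ Red.DSmap (Spec (CommRingCat.of k)) M.subtype)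
    simp only [Category.id_comp, Category.assoc, hfac, Iso.hom_inv_id_assoc] at h1
    exact h1

/-- In a smooth connected solvable group a rational point normalising a torus centralises it. -/
theorem commute_point {B T : Over (Spec (CommRingCat.of k))} [GrpObj B] [GrpObj T] [Smooth B.hom]
    [QuasiCompact B.hom] [ConnectedSpace B.left] (hB : Red.IsSolvableGrp B) (hT : Red.IsTorus T) (t : T ⟶ B)
    [IsMonHom t] (y : pt ⟶ B) (hy : ∀ h : pt ⟶ T, ∃ h' : pt ⟶ T, y * (h ≫ t) * y⁻¹ = h' ≫ t)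
    (X : Over (Spec (CommRingCat.of k))) (h : X ⟶ T) : Commute (h ≫ t) (toUnit X ≫ y) := by
  obtain ⟨Q, hQg, ρ, N, hNg, i, hρ, hQa, hQs, hQc, hsur, hflat, hlfp, hi, hicl, hNs, hNc, hK, hcent⟩ :=
    exists_affHull B
  haveI := hρ
  haveI := hsur
  haveI := hflat
  haveI := hlfp
  haveI := hicl
  haveI := hi
  haveI := GrpSch.isSeparated_of_field Q
  obtain ⟨C, hCg, c, p₀, hc, hccl, hCs, hCc, hCsol, hpc, hps⟩ := BorelHull.exists_image_solvable ρ hB
  haveI := hc
  haveI := hccl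
  have hQsol : Red.IsSolvableGrp Q := by
    haveI : Surjective c.left := by
      have : Surjective (p₀.left ≫ c.left) := by rw [← Over.comp_left, hpc]; infer_instance
      exact Surjective.of_comp p₀.left c.left
    haveI : IsReduced Q.left := GrpSch.isReduced_of_smooth_field Q.hom
    haveI := isIso_of_isClosedImmersion_of_surjective c.left
    haveI : IsIso ((Over.forget _).map c) := ‹IsIso c.left›
    haveI : IsIso c := isIso_of_reflects_iso c (Over.forget _)
    obtain ⟨n, hn⟩ := hCsol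
    refine ⟨n, fun X => (Subgroup.eq_bot_iff_forall _).mpr fun a ha => ?_⟩
    haveI : IsMonHom (CategoryTheory.inv c) := inferInstanceAs (IsMonHom (asIso c).inv)
    have := map_derivedSeries_le_derivedSeries (H1.Classical.Scheme'.postcomp (CategoryTheory.inv c) X) n ⟨a, ha, rfl⟩
    rw [hn X, Subgroup.mem_bot] at this
    calc a = H1.Classical.Scheme'.postcomp (CategoryTheory.inv c) X a ≫ c := by
          show a = (a ≫ CategoryTheory.inv c) ≫ c
          simp
      _ = 1 := by rw [this, MonObj.one_comp]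
  obtain ⟨D, hDg, d, hd, hdcl, hDconn, ⟨z₀, hz₀⟩, hcd⟩ := commute_image hQsol hT (t ≫ ρ) (y ≫ ρ) fun h => by
    obtain ⟨h', hh'⟩ := hy h
    exact ⟨h', by rw [← Category.assoc, ← Category.assoc, ← hh', MonObj.mul_comp, MonObj.mul_comp, GrpObj.inv_comp]⟩
  haveI := hd
  haveI := hdcl
  obtain ⟨P, hPg, b, π, hb, hπ, hbcl, hsq, hpb, huniv⟩ := BorelHull.exists_preimage ρ d
  haveI := hb
  haveI := hπ
  haveI : Mono b := haveI := hbcl; Over.mono_of_mono_left _
  haveI : Mono i := GrpQ.mono_of_left i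
  haveI : QuasiCompact ρ.left := GrpQ.quasiCompact_left ρ
  haveI : Surjective π.left := MorphismProperty.of_isPullback hpb ‹Surjective ρ.left›
  haveI : Flat π.left := MorphismProperty.of_isPullback hpb ‹Flat ρ.left›
  haveI : LocallyOfFinitePresentation π.left := MorphismProperty.of_isPullback hpb ‹LocallyOfFinitePresentation ρ.left›
  haveI : LocallyOfFiniteType D.hom := by rw [← Over.w d]; infer_instance
  haveI : LocallyOfFiniteType P.hom := by rw [← Over.w b]; haveI := hbcl; infer_instance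
  haveI : QuasiCompact P.hom := by rw [← Over.w b]; haveI := hbcl; infer_instance
  haveI : LocallyOfFiniteType N.hom := by rw [← Over.w i]; infer_instance
  haveI : QuasiCompact N.hom := by rw [← Over.w i]; infer_instance
  have hni : ∀ {X' : Over (Spec (CommRingCat.of k))} (z : X' ⟶ N), (z ≫ i) ≫ ρ = 1 := fun z => by
    rw [Category.assoc, GrpQ.kernel_comp hK, MonObj.comp_one]
  obtain ⟨i', hi'⟩ := huniv N i ⟨1, by rw [MonObj.one_comp, GrpQ.kernel_comp hK]⟩
  haveI : ConnectedSpace P.left := SmWeil.connectedSpace_of_kernel π i' fun x hx => by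
    obtain ⟨n, hn⟩ := (GrpQ.mem_kernel hK (x ≫ b)).mpr (by
      rw [Category.assoc, ← hsq, ← Category.assoc, hx, MonObj.one_comp])
    exact ⟨n, by rw [← cancel_mono b, Category.assoc, hi', hn]⟩
  obtain ⟨p, hp⟩ := huniv pt y ⟨z₀, hz₀⟩
  obtain ⟨r, ⟨eT⟩⟩ := TorusIn.exists_split T hT
  let E := Tori.BaseChange.overIso eT
  haveI : IsMonHom E.inv := inferInstanceAs (IsMonHom (Tori.BaseChange.overIso eT.symm).hom)
  have hk := commute_of_connected_family (E.inv ≫ t) i (fun X' z g => hcent X' _ g (hni z)) b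
    (fun X' x' h' => (GrpQ.mem_kernel hK _).2 (by
      have h1 := (hcd X' (h' ≫ π) (x' ≫ E.inv)).eq
      simp only [MonObj.mul_comp, GrpObj.inv_comp, Category.assoc, ← hsq]
      simp only [Category.assoc] at h1
      rw [← h1]
      group)) 1 (MonObj.one_comp b) p X (h ≫ E.hom)
  simpa only [Category.assoc, Iso.hom_inv_id_assoc, hp] using hk

/-- In a smooth connected solvable group a point normalising a torus centralises it. -/
theorem commute_of_normalizes {B T : Over (Spec (CommRingCat.of k))} [GrpObj B] [GrpObj T] [Smooth B.hom]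
    [QuasiCompact B.hom] [ConnectedSpace B.left] (hB : Red.IsSolvableGrp B) (hT : Red.IsTorus T) (t : T ⟶ B)
    [IsMonHom t] [Mono t] {X : Over (Spec (CommRingCat.of k))} (g : X ⟶ B)
    (hg : ∀ (Y : Over (Spec (CommRingCat.of k))) (y : Y ⟶ X) (h : Y ⟶ T),
      ∃ h' : Y ⟶ T, (y ≫ g) * (h ≫ t) * (y ≫ g)⁻¹ = h' ≫ t)
    (a : X ⟶ T) : g * (a ≫ t) = (a ≫ t) * g := by
  haveI := GrpSch.isSeparated_of_field B
  haveI := Tori.Basic.smooth_of_isTorus hT
  haveI := Tori.Basic.isAffineHom_of_isTorus hT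
  haveI := geometricallyConnected_of_isTorus hT
  haveI := SmWeil.lfp_left t
  obtain ⟨M, m, hm, hmfp, hM⟩ := exists_transporter_mono t t
  haveI := hm
  haveI : LocallyOfFiniteType M.hom := by rw [← Over.w m]; infer_instance
  let S' := M.left
  let f : S' ⟶ Spec (CommRingCat.of k) := M.hom
  let q : ∀ Y : Over S', (Over.map f).obj Y ⟶ M := fun Y => Over.homMk Y.hom rfl
  let Φ : Red.bc f T ⟶ Red.bc f B := BC.up f ((q (Red.bc f T) ≫ m) * (BC.down f (𝟙 _) ≫ t) *
    (q (Red.bc f T) ≫ m)⁻¹ * (BC.down f (𝟙 _) ≫ t)⁻¹)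
  have hΦ : ∀ {Y : Over S'} (y : Y ⟶ Red.bc f T),
      BC.down f (y ≫ Φ) = (q Y ≫ m) * (BC.down f y ≫ t) * (q Y ≫ m)⁻¹ * (BC.down f y ≫ t)⁻¹ := by
    intro Y y
    have hq : (Over.map f).map y ≫ q (Red.bc f T) = q Y := Over.OverMorphism.ext (Over.w y)
    rw [BC.down_comp, BC.down_up]
    simp only [MonObj.comp_mul, GrpObj.comp_inv, ← Category.assoc, hq, ← BC.down_comp, Category.comp_id]
  have hmc : ∀ {Y : Over S'} (h : (Over.map f).obj Y ⟶ T),
      ∃ κ, (q Y ≫ m) * (h ≫ t) * (q Y ≫ m)⁻¹ = κ ≫ t := fun {Y} h => by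
    obtain ⟨κ, hκ⟩ := (hM (q Y ≫ m)).1 ⟨q Y, rfl⟩ _ (𝟙 _) h
    rw [Category.id_comp] at hκ
    exact ⟨κ, hκ⟩
  have hTc : ∀ {Y : Over (Spec (CommRingCat.of k))} (p p' : Y ⟶ T), Commute (p ≫ t) (p' ≫ t) := fun p p' => by
    show _ = _
    rw [← MonObj.mul_comp, ← MonObj.mul_comp, Tori.Comm.mul_comm_of_isTorus hT]
  haveI : IsMonHom Φ := HomDS.isMonHom_of_points Φ fun Y x y => BC.down_injective (by
    rw [hΦ, BC.down_mul, BC.down_mul, hΦ, hΦ, MonObj.mul_comp]
    obtain ⟨κ, hκ⟩ := hmc (BC.down f y)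
    have h1 := (hTc κ (BC.down f x)).inv_right
    have h2 := ((hTc (BC.down f y) (BC.down f x)).inv_inv)
    rw [← hκ] at h1
    generalize q Y ≫ m = W at *
    generalize BC.down f x ≫ t = P at *
    generalize BC.down f y ≫ t = R at *
    calc W * (P * R) * W⁻¹ * (P * R)⁻¹
        = W * P * W⁻¹ * ((W * R * W⁻¹) * (R⁻¹ * P⁻¹)) := by group
      _ = W * P * W⁻¹ * ((W * R * W⁻¹) * (P⁻¹ * R⁻¹)) := by rw [h2.eq]
      _ = W * P * W⁻¹ * ((W * R * W⁻¹) * P⁻¹ * R⁻¹) := by group
      _ = W * P * W⁻¹ * (P⁻¹ * (W * R * W⁻¹) * R⁻¹) := by rw [h1.eq]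
      _ = W * P * W⁻¹ * P⁻¹ * (W * R * W⁻¹ * R⁻¹) := by group)
  haveI : IsSeparated (Red.bc f B).hom := inferInstanceAs (IsSeparated (pullback.snd B.hom f))
  haveI : LocallyOfFinitePresentation (Red.bc f B).hom :=
    inferInstanceAs (LocallyOfFinitePresentation (pullback.snd B.hom f))
  have hMTf := Normal.multTypeFT_bc (GmFibre.isMultTypeFT_of_isTorus hT) f
  obtain ⟨U, -, hU, hUk⟩ := Locus.exists_trivial_locus Φ hMTf (Or.inr inferInstance)
  have hclosed : closedPoints S' ⊆ (U : Set S') := by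
    intro s hs
    obtain ⟨x, hx⟩ := H1.Classical.Scheme'.exists_point (Y := M) hs
    let xs : Spec (CommRingCat.of k) ⟶ S' := x.left
    have hk : Locus.Kills Φ xs := by
      intro Y p w0
      let ε : (Over.map f).obj Y ⟶ pt := toUnit _
      have hq : q Y = ε ≫ x := by
        have e1 : p.left ≫ xs = Y.hom := Over.w p
        have e2 : Y.hom ≫ f = p.left := by
          rw [← e1]
          exact (Category.assoc _ _ _).trans ((congrArg (p.left ≫ ·) (Over.w x)).trans (Category.comp_id _))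
        apply Over.OverMorphism.ext
        show Y.hom = (Y.hom ≫ f) ≫ x.left
        exact e1.symm.trans (congrArg (· ≫ xs) e2.symm)
      have hy := commute_point hB hT t (x ≫ m) (fun h => by
        obtain ⟨κ, hκ⟩ := (hM (x ≫ m)).1 ⟨x, rfl⟩ _ (𝟙 _) h
        rw [Category.id_comp] at hκ
        exact ⟨κ, hκ⟩) _ (BC.down f w0)
      apply BC.down_injective
      rw [hΦ, BC.down_one, hq, mul_inv_eq_one, mul_inv_eq_iff_eq_mul, Category.assoc]
      exact hy.eq.symm
    have h1 := (Locus.kills_point_iff Φ xs).1 hk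
    rw [hU]
    rwa [show xs (IsLocalRing.closedPoint k) = s from hx _] at h1
  have hall : ∀ s : S', s ∈ U := fun s => by
    haveI : JacobsonSpace S' := LocallyOfFiniteType.jacobsonSpace M.hom
    by_contra hs
    obtain ⟨z, hz, hzc⟩ := nonempty_inter_closedPoints (X := S') (Z := (U : Set S')ᶜ) ⟨s, hs⟩
      U.isOpen.isClosed_compl.isLocallyClosed
    exact hz (hclosed hzc)
  obtain ⟨z, hz⟩ := (hM g).2 fun Y y h => hg Y y h
  let Y : Over S' := Over.mk z.left
  let θ : (Over.map f).obj Y ≅ X := Over.isoMk (Iso.refl _) ((Category.id_comp _).trans (Over.w z).symm)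
  have hr : Set.range Y.hom ⊆ Set.range U.ι := by
    rintro y -
    rw [Scheme.Opens.range_ι]
    exact hall y
  have h0 := hUk Y (Over.homMk (IsOpenImmersion.lift U.ι Y.hom hr) (IsOpenImmersion.lift_fac _ _ _))
    (BC.up f (θ.hom ≫ a))
  have h2 := congrArg (BC.down f) h0
  have hq : q Y = θ.hom ≫ z := Over.OverMorphism.ext (Category.id_comp _).symm
  rw [hΦ, BC.down_one, BC.down_up, hq, Category.assoc, Category.assoc, hz, mul_inv_eq_one, mul_inv_eq_iff_eq_mul,
    ← MonObj.comp_mul, ← MonObj.comp_mul, cancel_epi] at h2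
  exact h2

end Groth.Agent.Lib.SmWeil.SolvableNorm
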