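import Groth.Agent.Lib.GrpSch.UnramifiedFibre
import Groth.Agent.Lib.GrpSch.BaseChange
import Groth.Agent.Lib.Unram.EtaleMono
import Groth.Prelude.Def_Red

/-!
# A morphism with a section and trivial geometric fibres is an isomorphism
-/

set_option autoImplicit false
set_option linter.style.haveILetI false

universe u

open CategoryTheory CategoryTheory.Limits AlgebraicGeometry
open Groth.Agent.Lib

namespace Groth.Agent.Lib.SmWeil.TorusInter

theorem isIso_fibre {S : Scheme.{u}} {W : Scheme.{u}} (f : W ⟶ S) (s : S)
    (h : IsIso (pullback.snd f (Red.geomPt s))) : IsIso (pullback.snd f (S.fromSpecResidueField s)) := by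
  let K := AlgebraicClosure (S.residueField s)
  let g := GrpSch.extBase (S.residueField s) K
  let q := pullback.snd f (S.fromSpecResidueField s)
  have h1 : IsIso (pullback.snd q g) := by
    rw [← pullbackLeftPullbackSndIso_hom_snd]
    haveI : IsIso (pullback.snd f (g ≫ S.fromSpecResidueField s)) := h
    infer_instance
  exact GrpSch.of_bc_hom (k := S.residueField s) (K := K) (P := MorphismProperty.isomorphisms Scheme.{u})
    (Over.mk q) h1

theorem isIso_of_geomFibres {S : Scheme.{u}} {W : Scheme.{u}} (f : W ⟶ S) [LocallyOfFiniteType f] (e : S ⟶ W)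
    (he : e ≫ f = 𝟙 S) (h : ∀ s : S, IsIso (pullback.snd f (Red.geomPt s))) : IsIso f := by
  have hs := fun s => isIso_fibre f s (h s)
  haveI : FormallyUnramified f := GrpSch.formallyUnramified_of_fibres f fun s => by
    haveI := hs s
    show FormallyUnramified (pullback.snd f (S.fromSpecResidueField s))
    infer_instance
  haveI : Surjective e := ⟨fun w => ⟨f w, by
    haveI := hs (f w)
    obtain ⟨a, ha⟩ : w ∈ Set.range (pullback.fst f (S.fromSpecResidueField (f w))) := by
      rw [Scheme.Pullback.range_fst]
      simp
    obtain ⟨b, hb⟩ : e (f w) ∈ Set.range (pullback.fst f (S.fromSpecResidueField (f w))) := by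
      rw [Scheme.Pullback.range_fst]
      rw [Scheme.range_fromSpecResidueField, Set.mem_preimage, Set.mem_singleton_iff, ← Scheme.Hom.comp_apply, he]
      rfl
    rw [← hb, (pullback.snd f (S.fromSpecResidueField (f w))).homeomorph.injective
      (Subsingleton.elim ((pullback.snd f (S.fromSpecResidueField (f w))) b) ((pullback.snd f _) a)), ha]⟩⟩
  haveI : Mono (e ≫ f) := by rw [he]; infer_instance
  haveI : Surjective (pullback.diagonal f) := Unram.EtaleMono.surjective_diagonal_of_comp e f
  haveI := Unram.EtaleMono.mono_of_surjective_diagonal f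
  exact ⟨e, by rw [← cancel_mono f, Category.assoc, he, Category.comp_id, Category.id_comp], he⟩

end Groth.Agent.Lib.SmWeil.TorusInter
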