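import Groth.Agent.Lib.SmWeil.FGFactor
import Groth.Agent.H87.KerField
import Groth.Agent.H87.EqLocus
import Mathlib.LinearAlgebra.Matrix.Dual
import Mathlib.RingTheory.RootsOfUnity.AlgebraicallyClosed

/-!
# Tori of an algebraic group over an extension of algebraically closed fields specialise
-/

set_option autoImplicit false
set_option linter.style.haveILetI false
set_option linter.unusedSectionVars false

universe u

open CategoryTheory CategoryTheory.Limits AlgebraicGeometry MonoidalCategory CartesianMonoidalCategory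
open CategoryTheory.MonObj CategoryTheory.GrpObj
open Groth.Agent.Lib Groth.Agent.H87 Groth.Agent.H87.HomDS
open Groth.Agent.Lib.RedPts
open Groth.Agent.H87.Locus (toG ev)

namespace Groth.Agent.Lib.SmWeil.TorusSpec

variable {S : Scheme.{u}} {A : CommRingCat.{u}} (t : Spec A ⟶ S) {M : Type} [AddCommGroup M]

theorem ev_comp {D D' : CommRingCat.{u}} (α : A ⟶ D) (ch : Multiplicative M →* D) (ξ : D ⟶ D') :
    ev α ch ≫ ξ = ev (α ≫ ξ) ((ξ.hom : D →* D').comp ch) := by
  refine CommRingCat.hom_ext (MonoidAlgebra.ringHom_ext (fun a => ?_) fun m => ?_)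
  · show ξ.hom ((ev α ch).hom (MonoidAlgebra.single 1 a)) = (ev _ _).hom (MonoidAlgebra.single 1 a)
    simp [ev, MonoidAlgebra.liftNCRingHom]
  · show ξ.hom ((ev α ch).hom (MonoidAlgebra.single m 1)) = (ev _ _).hom (MonoidAlgebra.single m 1)
    rw [Locus.ev_single, Locus.ev_single]
    rfl

theorem ev_ev {A' D : CommRingCat.{u}} (i : A ⟶ A') (β : A' ⟶ D) (ch : Multiplicative M →* D) :
    ev (i ≫ CommRingCat.ofHom MonoidAlgebra.singleOneRingHom) (MonoidAlgebra.of A' (Multiplicative M)) ≫ ev β ch =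
      ev (i ≫ β) ch := by
  rw [ev_comp]
  have h1 : (i ≫ CommRingCat.ofHom MonoidAlgebra.singleOneRingHom) ≫ ev β ch = i ≫ β := by
    rw [Category.assoc, Locus.inc_ev]
  have h2 : (((ev β ch).hom : _ →* D)).comp (MonoidAlgebra.of A' (Multiplicative M)) = ch :=
    MonoidHom.ext fun m => Locus.ev_single β ch m
  rw [h1]
  exact congrArg (ev (i ≫ β)) h2

/-- The map of test objects of a map of rings. -/
noncomputable def tmap {D D' : CommRingCat.{u}} (α : A ⟶ D) (ξ : D ⟶ D') : HomDS.test t (α ≫ ξ) ⟶ HomDS.test t α :=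
  Over.homMk (Spec.map ξ) (by
    show Spec.map ξ ≫ Spec.map α ≫ t = Spec.map (α ≫ ξ) ≫ t
    rw [← Category.assoc, ← Spec.map_comp])

theorem tmap_evHom {D D' : CommRingCat.{u}} (α : A ⟶ D) (ch : Multiplicative M →* D) (ξ : D ⟶ D') :
    tmap t α ξ ≫ evHom t M α ch = evHom t M (α ≫ ξ) ((ξ.hom : D →* D').comp ch) := by
  refine Over.OverMorphism.ext ?_
  show Spec.map ξ ≫ Spec.map (ev α ch) = Spec.map _
  rw [← Spec.map_comp, ev_comp]

/-- Two points into a separated scheme agreeing after an injective ring map are equal. -/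
theorem ext_injective {C : Over S} [IsSeparated C.hom] {D D' : CommRingCat.{u}} (α : A ⟶ D) (ξ : D ⟶ D')
    (hξ : Function.Injective ξ.hom) (a b : HomDS.test t α ⟶ C) (h : tmap t α ξ ≫ a = tmap t α ξ ≫ b) : a = b := by
  obtain ⟨I, hI⟩ := EqLocus.exists_eq_ideal a.left b.left C.hom ((Over.w a).trans (Over.w b).symm)
  have h1 : I ≤ RingHom.ker ξ.hom := (hI _ ξ).1 (congrArg CommaMorphism.left h)
  have h2 := (hI D (𝟙 D)).2 (h1.trans (by rw [(RingHom.injective_iff_ker_eq_bot _).1 hξ]; exact bot_le))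
  rw [Spec.map_id, Category.id_comp, Category.id_comp] at h2
  exact Over.OverMorphism.ext h2

section Ext

variable {A' : CommRingCat.{u}} (g : Spec A' ⟶ S) {C : Over S} [GrpObj C]
  (h : Red.bc g (Red.DS S M) ⟶ Red.bc g C) [IsMonHom h]

/-- The homomorphism evaluated on a test object. -/
noncomputable def psi {D : CommRingCat.{u}} (β : A' ⟶ D) (ch : Multiplicative M →* D) :
    (Over.map g).obj (Over.mk (Spec.map β)) ⟶ C :=
  BC.down g (BC.up g (Gm.dsPt (X := (Over.map g).obj (Over.mk (Spec.map β))) ((toG D).comp ch)) ≫ h)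

theorem psi_mul {D : CommRingCat.{u}} (β : A' ⟶ D) (ch ch' : Multiplicative M →* D) :
    psi g h β (ch * ch') = psi g h β ch * psi g h β ch' := by
  unfold psi
  rw [← BC.down_mul, ← MonObj.mul_comp _ _ h, ← BC.up_mul]
  congr 3
  exact Gm.dsFn_ext fun m => by
    rw [Gm.dsFn_mul, Gm.dsFn_dsPt, Gm.dsFn_dsPt, Gm.dsFn_dsPt]
    exact map_mul (toG D) _ _

theorem psi_injective [Mono h] {D : CommRingCat.{u}} (β : A' ⟶ D) {ch ch' : Multiplicative M →* D}
    (e : psi g h β ch = psi g h β ch') : ch = ch' := by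
  have e1 := BC.down_injective e
  rw [cancel_mono] at e1
  have e2 := congrArg (BC.down g) e1
  rw [BC.down_up, BC.down_up] at e2
  refine MonoidHom.ext fun m => HomDS.toG_injective D ?_
  have e3 := congrArg (fun x => Gm.dsFn x m.toAdd) e2
  simp only [Gm.dsFn_dsPt] at e3
  exact e3

theorem psi_comp {D D' : CommRingCat.{u}} (β : A' ⟶ D) (ch : Multiplicative M →* D) (ξ : D ⟶ D') :
    (Over.map g).map (Over.homMk (U := Over.mk (Spec.map (β ≫ ξ))) (V := Over.mk (Spec.map β)) (Spec.map ξ)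
      (Spec.map_comp β ξ).symm) ≫ psi g h β ch = psi g h (β ≫ ξ) ((ξ.hom : D →* D').comp ch) := by
  unfold psi
  rw [← BC.down_comp, ← Category.assoc]
  congr 2
  apply BC.down_injective
  rw [BC.down_comp, BC.down_up, BC.down_up]
  refine Gm.dsFn_ext fun m => ?_
  rw [Gm.dsFn_comp, Gm.dsFn_dsPt, Gm.dsFn_dsPt]
  show (Spec.map ξ).appTop (toG D (ch _)) = toG D' (ξ.hom (ch _))
  rw [HomDS.appTop_SpecMap_apply]
  simp [toG]

end Ext

section Uniq

/-- Points of `D(M)` come uniquely from the universal point. -/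
theorem univ_mono {X : Over S} {A : CommRingCat.{u}} (t : Spec A ⟶ S) [IsIso t]
    (r r' : X ⟶ HomDS.test t (CommRingCat.ofHom MonoidAlgebra.singleOneRingHom : A ⟶ HomDS.ring M))
    (e : r ≫ univPt t M = r' ≫ univPt t M) : r = r' := by
  haveI : IsAffine (HomDS.test t (CommRingCat.ofHom MonoidAlgebra.singleOneRingHom : A ⟶ HomDS.ring M)).left :=
    inferInstanceAs (IsAffine (Spec _))
  refine Over.OverMorphism.ext (ext_of_isAffine ?_)
  have hb : ∀ q : X ⟶ HomDS.test t (CommRingCat.ofHom MonoidAlgebra.singleOneRingHom : A ⟶ HomDS.ring M),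
      q.left ≫ Spec.map (CommRingCat.ofHom MonoidAlgebra.singleOneRingHom : A ⟶ HomDS.ring M) =
        X.hom ≫ CategoryTheory.inv t := fun q => by
    rw [IsIso.eq_comp_inv, Category.assoc]
    exact Over.w q
  rw [← cancel_epi (Scheme.ΓSpecIso (HomDS.ring (A := A) M)).inv]
  refine CommRingCat.hom_ext (MonoidAlgebra.ringHom_ext (fun a => ?_) fun m => ?_)
  · have h1 := congrArg (fun f => f.appTop (toG A a)) ((hb r).trans (hb r').symm)
    simp only [Scheme.Hom.comp_appTop, CommRingCat.comp_apply] at h1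
    have h2 : Scheme.Hom.appTop (Spec.map (CommRingCat.ofHom MonoidAlgebra.singleOneRingHom : A ⟶ HomDS.ring M))
        (toG A a) = (Scheme.ΓSpecIso (HomDS.ring (A := A) M)).inv (MonoidAlgebra.single 1 a) :=
      HomDS.appTop_SpecMap_apply _ _ |>.trans (by simp [toG])
    show r.left.appTop ((Scheme.ΓSpecIso (HomDS.ring (A := A) M)).inv (MonoidAlgebra.single 1 a)) =
      r'.left.appTop ((Scheme.ΓSpecIso (HomDS.ring (A := A) M)).inv (MonoidAlgebra.single 1 a))
    rw [← h2]
    exact h1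
  · have h1 := congrArg (fun x => Gm.dsFn x m.toAdd) e
    simp only [Gm.dsFn_comp, univPt, Gm.dsFn_dsPt] at h1
    exact h1

end Uniq

/-- A finite index criterion. -/
theorem le_finrank_of_annihilator {r q : ℕ} [Fact q.Prime] (N : AddSubgroup (Fin r → ℤ))
    (hN : ∀ c : Fin r → ZMod q, c ≠ 0 → ∃ m ∈ N, ∑ j, c j * (m j : ZMod q) ≠ 0) :
    r ≤ Module.finrank ℤ N := by
  classical
  let red : (Fin r → ℤ) →+ (Fin r → ZMod q) := (Int.castAddHom (ZMod q)).compLeft (Fin r)
  let W : Submodule (ZMod q) (Fin r → ZMod q) := Submodule.span (ZMod q) (red '' N)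
  have hW : W = ⊤ := by
    by_contra hne
    obtain ⟨f, hf0, hfW⟩ := W.exists_le_ker_of_lt_top (lt_top_iff_ne_top.2 hne)
    have hf : ∀ v, f v = ∑ j, f (Pi.single j 1) * v j := fun v => by
      conv_lhs => rw [← Finset.univ_sum_single v]
      rw [map_sum]
      refine Finset.sum_congr rfl fun j _ => ?_
      rw [show Pi.single j (v j) = v j • (Pi.single j 1 : Fin r → ZMod q) by simp [← Pi.single_smul], map_smul,
        smul_eq_mul, _root_.mul_comm]
    obtain ⟨m, hm, hm0⟩ := hN (fun j => f (Pi.single j 1)) fun h => hf0 (LinearMap.ext fun v => by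
      rw [hf]; simp [congrFun h])
    refine hm0 ?_
    have := LinearMap.mem_ker.1 (hfW (Submodule.subset_span ⟨m, hm, rfl⟩))
    rw [hf] at this
    simpa [red] using this
  have hmem : ∀ v : Fin r → ZMod q, ∃ m ∈ N, red m = v := by
    intro v
    have hv : v ∈ W := hW ▸ Submodule.mem_top
    induction hv using Submodule.span_induction with
    | mem x hx => exact hx
    | zero => exact ⟨0, N.zero_mem, map_zero _⟩
    | add x y _ _ hx hy =>
      obtain ⟨a, ha, rfl⟩ := hx
      obtain ⟨b, hb, rfl⟩ := hy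
      exact ⟨a + b, N.add_mem ha hb, map_add _ _ _⟩
    | smul c x _ hx =>
      obtain ⟨a, ha, rfl⟩ := hx
      refine ⟨c.val • a, N.nsmul_mem ha _, ?_⟩
      rw [map_nsmul, ← Nat.cast_smul_eq_nsmul (ZMod q), ZMod.natCast_val, ZMod.cast_id]
  choose m hm hred using fun i : Fin r => hmem (Pi.single i 1)
  let Mx : Matrix (Fin r) (Fin r) ℤ := Matrix.of m
  have hdet : Mx.det ≠ 0 := by
    intro h0
    have h1 : (Mx.map (Int.castRingHom (ZMod q))).det = 0 := by
      rw [← RingHom.mapMatrix_apply, ← RingHom.map_det, h0, map_zero]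
    have h2 : Mx.map (Int.castRingHom (ZMod q)) = 1 := by
      ext i j
      have := congrFun (hred i) j
      simpa [Mx, red, Matrix.one_apply, Pi.single_apply, eq_comm] using this
    rw [h2, Matrix.det_one] at h1
    exact one_ne_zero h1
  have hli : LinearIndependent ℤ m := Matrix.linearIndependent_rows_of_det_ne_zero hdet
  have hli' : LinearIndependent ℤ (fun i => (⟨m i, hm i⟩ : N)) :=
    LinearIndependent.of_comp N.toIntSubmodule.subtype hli
  haveI : Module.Finite ℤ N := Module.Finite.iff_addGroup_fg.mpr ((AddGroup.fg_iff_addSubgroup_fg N).mpr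
    (Submodule.fg_iff_addSubgroup_fg N.toIntSubmodule |>.mp (IsNoetherian.noetherian _)))
  simpa using hli'.fintype_card_le_finrank

section Spread

variable {K K' : Type u} [Field K] [IsAlgClosed K] [Field K'] [Algebra K K']
  {C : Over (Spec (CommRingCat.of K))} [GrpObj C]

/-- The base morphism. -/
noncomputable abbrev base (R : Type u) [CommRing R] [Algebra K R] :
    Spec (CommRingCat.of R) ⟶ Spec (CommRingCat.of K) :=
  Spec.map (CommRingCat.ofHom (algebraMap K R))

set_option maxHeartbeats 1000000 in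
/-- **A split torus of `C_{K'}` gives one of the same rank in `C`.** -/
theorem exists_specialization [LocallyOfFinitePresentation C.hom] [IsSeparated C.hom] {r : ℕ}
    (h : Red.bc (base (K := K) K') (Red.DS (Spec (CommRingCat.of K)) (Fin r → ℤ)) ⟶ Red.bc (base (K := K) K') C)
    [IsMonHom h] [Mono h] :
    ∃ (N : AddSubgroup (Fin r → ℤ)) (j : Red.DS (Spec (CommRingCat.of K)) N ⟶ C),
      r ≤ Module.finrank ℤ N ∧ IsMonHom j ∧ Mono j := by
  classical
  let M := Fin r → ℤ
  let g := base (K := K) K'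
  let B := MonoidAlgebra K' (Multiplicative M)
  let sgl : CommRingCat.of K' ⟶ HomDS.ring (A := CommRingCat.of K') M :=
    CommRingCat.ofHom MonoidAlgebra.singleOneRingHom
  let ofB : Multiplicative M →* HomDS.ring (A := CommRingCat.of K') M := MonoidAlgebra.of K' (Multiplicative M)
  let v := psi g h sgl ofB
  have hvw : v.left ≫ C.hom = Spec.map sgl ≫ g := Over.w v
  obtain ⟨s, v₀, hv₀, hsv⟩ := FGFactor.exists_fac (CommRingCat.of K) B C.hom v.left (by
    rw [hvw, ← Spec.map_comp]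
    congr 1)
  let coe : Finset K' := s.biUnion fun b => b.coeff.support.image fun m => b.coeff m
  let A₀ : Subalgebra K K' := Algebra.adjoin K (coe : Set K')
  haveI : Algebra.FiniteType K A₀ :=
    (Subalgebra.fg_iff_finiteType _).1 (Subalgebra.fg_def.2 ⟨_, coe.finite_toSet, rfl⟩)
  let A : CommRingCat.{u} := CommRingCat.of A₀
  let t : Spec A ⟶ Spec (CommRingCat.of K) := base A₀
  let inc : A ⟶ CommRingCat.of K' := CommRingCat.ofHom A₀.val.toRingHom
  have hinc : Function.Injective inc.hom := Subtype.val_injective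
  let ιhom : MonoidAlgebra A₀ (Multiplicative M) →ₐ[K] B :=
    { toRingHom := (ev (inc ≫ sgl) ofB).hom
      commutes' := fun c => by
        show (ev (inc ≫ sgl) ofB).hom (MonoidAlgebra.single 1 (algebraMap K A₀ c)) = algebraMap K B c
        simp [ev, MonoidAlgebra.liftNCRingHom, inc, sgl, ofB]
        rfl }
  have hι : ∀ (m : Multiplicative M) (a : A₀), ιhom (MonoidAlgebra.single m a) = MonoidAlgebra.single m (a : K') :=
    fun m a => by
      show (ev (inc ≫ sgl) ofB).hom (MonoidAlgebra.single m a) = _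
      simp [ev, MonoidAlgebra.liftNCRingHom, inc, sgl, ofB]
      rfl
  have hιinj : Function.Injective ιhom := by
    have : ιhom.toRingHom = MonoidAlgebra.mapRingHom (Multiplicative M) A₀.val.toRingHom :=
      MonoidAlgebra.ringHom_ext (fun a => by rw [MonoidAlgebra.mapRingHom_single]; exact hι 1 a)
        fun m => by rw [MonoidAlgebra.mapRingHom_single]; exact hι m 1
    intro x y hxy
    have h1 : MonoidAlgebra.mapRingHom (Multiplicative M) A₀.val.toRingHom x =
        MonoidAlgebra.mapRingHom (Multiplicative M) A₀.val.toRingHom y := by rw [← this]; exact hxy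
    refine MonoidAlgebra.coeff_injective (Finsupp.ext fun m => Subtype.val_injective ?_)
    simpa using congrArg (fun z : MonoidAlgebra K' (Multiplicative M) => z.coeff m) h1
  have hsub : Algebra.adjoin K (s : Set B) ≤ ιhom.range := by
    refine Algebra.adjoin_le fun b hb => ?_
    rw [SetLike.mem_coe, ← b.sum_coeff_single]
    refine Subalgebra.sum_mem _ fun m hm => ?_
    exact ⟨MonoidAlgebra.single m ⟨b.coeff m, Algebra.subset_adjoin (Finset.mem_coe.2 (Finset.mem_biUnion.2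
      ⟨b, hb, Finset.mem_image.2 ⟨m, hm, rfl⟩⟩))⟩, hι _ _⟩
  let ψ : Algebra.adjoin K (s : Set B) →ₐ[K] MonoidAlgebra A₀ (Multiplicative M) :=
    (AlgEquiv.ofInjective ιhom hιinj).symm.toAlgHom.comp (Subalgebra.inclusion hsub)
  have hψ : ∀ x, ιhom (ψ x) = (x : B) := fun x =>
    congrArg Subtype.val ((AlgEquiv.ofInjective ιhom hιinj).apply_symm_apply (Subalgebra.inclusion hsub x))
  -- the model over `A`
  let u : HomDS.test t (CommRingCat.ofHom MonoidAlgebra.singleOneRingHom : A ⟶ HomDS.ring (A := A) M) ⟶ C :=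
    Over.homMk (Spec.map (CommRingCat.ofHom ψ.toRingHom : _ ⟶ HomDS.ring (A := A) M) ≫ v₀) (by
      show (Spec.map (CommRingCat.ofHom ψ.toRingHom : _ ⟶ HomDS.ring (A := A) M) ≫ v₀) ≫ C.hom = Spec.map _ ≫ t
      rw [Category.assoc, hv₀, ← Spec.map_comp, ← Spec.map_comp]
      exact congrArg Spec.map (CommRingCat.hom_ext ψ.comp_algebraMap))
  let P : ∀ {D : CommRingCat.{u}} (α : A ⟶ D) (ch : Multiplicative M →* D), HomDS.test t α ⟶ C :=
    fun α ch => evHom t M α ch ≫ u
  have hPξ : ∀ {D D' : CommRingCat.{u}} (α : A ⟶ D) (ch : Multiplicative M →* D) (ξ : D ⟶ D'),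
      tmap t α ξ ≫ P α ch = P (α ≫ ξ) ((ξ.hom : D →* D').comp ch) := fun α ch ξ => by
    simp only [P, ← Category.assoc, tmap_evHom]
  have hPψ : ∀ {D : CommRingCat.{u}} (β : CommRingCat.of K' ⟶ D) (ch : Multiplicative M →* D),
      (P (inc ≫ β) ch).left = (psi g h β ch).left := by
    intro D β ch
    have e1 := congrArg CommaMorphism.left (psi_comp g h sgl ofB (ev β ch))
    have e2 : sgl ≫ ev β ch = β := Locus.inc_ev β ch
    have e3 : (((ev β ch).hom : _ →* D)).comp ofB = ch := MonoidHom.ext fun m => Locus.ev_single β ch m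
    have e4 : (psi g h (sgl ≫ ev β ch) (((ev β ch).hom : _ →* D).comp ofB)).left = (psi g h β ch).left := by
      congr! 4 <;> assumption
    refine Eq.trans (Eq.trans ?_ e1) e4
    show Spec.map (ev (inc ≫ β) ch) ≫ Spec.map (CommRingCat.ofHom ψ.toRingHom : _ ⟶ HomDS.ring (A := A) M) ≫ v₀ = Spec.map (ev β ch) ≫ v.left
    rw [← hsv, ← ev_ev inc β ch, Spec.map_comp, Category.assoc]
    congr 1
    rw [← Category.assoc, ← Spec.map_comp]
    congr 2
    exact CommRingCat.hom_ext (RingHom.ext fun x => hψ x)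
  -- multiplicativity
  have hPmul : ∀ {D : CommRingCat.{u}} (α : A ⟶ D) (ch ch' : Multiplicative M →* D),
      P α (ch * ch') = P α ch * P α ch' := by
    intro D α ch ch'
    let D₀ := HomDS.ring (A := A) (M × M)
    let D₁ := HomDS.ring (A := CommRingCat.of K') (M × M)
    let α₀ : A ⟶ D₀ := CommRingCat.ofHom MonoidAlgebra.singleOneRingHom
    let ξ : D₀ ⟶ D₁ := CommRingCat.ofHom (MonoidAlgebra.mapRingHom (Multiplicative (M × M)) A₀.val.toRingHom)
    let β : CommRingCat.of K' ⟶ D₁ := CommRingCat.ofHom MonoidAlgebra.singleOneRingHom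
    let c₁ : Multiplicative M →* D₀ := (MonoidAlgebra.of A₀ _).comp (AddMonoidHom.inl M M).toMultiplicative
    let c₂ : Multiplicative M →* D₀ := (MonoidAlgebra.of A₀ _).comp (AddMonoidHom.inr M M).toMultiplicative
    have hβ : α₀ ≫ ξ = inc ≫ β := CommRingCat.hom_ext (RingHom.ext fun a => by
      show MonoidAlgebra.mapRingHom _ A₀.val.toRingHom (MonoidAlgebra.single 1 a) = MonoidAlgebra.single 1 (a : K')
      simp)
    have hξ : Function.Injective ξ.hom := fun x y hxy => by
      refine MonoidAlgebra.coeff_injective (Finsupp.ext fun m => Subtype.val_injective ?_)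
      have h1 := congrArg (fun z : MonoidAlgebra K' (Multiplicative (M × M)) => z.coeff m) hxy
      exact ((MonoidAlgebra.coeff_mapRingHom A₀.val.toRingHom x m).symm.trans h1).trans
        (MonoidAlgebra.coeff_mapRingHom A₀.val.toRingHom y m)
    have h0 : P α₀ (c₁ * c₂) = P α₀ c₁ * P α₀ c₂ := by
      refine ext_injective t α₀ ξ hξ _ _ ?_
      rw [MonObj.comp_mul, hPξ, hPξ, hPξ, MonoidHom.comp_mul]
      let ε₁ : HomDS.test t (α₀ ≫ ξ) ⟶ (Over.map g).obj (Over.mk (Spec.map β)) := Over.homMk (𝟙 _) (by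
        show 𝟙 _ ≫ Spec.map β ≫ g = Spec.map (α₀ ≫ ξ) ≫ t
        rw [Category.id_comp, hβ, Spec.map_comp, Category.assoc]
        congr 1
        show Spec.map _ = Spec.map _ ≫ Spec.map _
        rw [← Spec.map_comp]
        rfl)
      have hε₁ : ∀ c : Multiplicative M →* D₁, P (α₀ ≫ ξ) c = ε₁ ≫ psi g h β c := fun c => by
        refine Over.OverMorphism.ext ?_
        show (P (α₀ ≫ ξ) c).left = 𝟙 _ ≫ (psi g h β c).left
        rw [Category.id_comp, ← hPψ β c]
        congr! 3
      rw [hε₁, hε₁, hε₁, psi_mul, MonObj.comp_mul]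
    let cc : Multiplicative (M × M) →* D :=
      (ch.coprod ch').comp (MulEquiv.prodMultiplicative M M).toMonoidHom
    have hcc : α₀ ≫ ev α cc = α := Locus.inc_ev α cc
    have hc : ((ev α cc).hom : D₀ →* D).comp c₁ = ch ∧ ((ev α cc).hom : D₀ →* D).comp c₂ = ch' := by
      constructor <;> refine MonoidHom.ext fun m => (Locus.ev_single α cc _).trans ?_ <;> simp [cc]
    have h1 := congrArg (tmap t α₀ (ev α cc) ≫ ·) h0
    simp only [MonObj.comp_mul, hPξ, MonoidHom.comp_mul, hc.1, hc.2] at h1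
    let ε₂ : HomDS.test t α ⟶ HomDS.test t (α₀ ≫ ev α cc) := Over.homMk (𝟙 _) (by
      show 𝟙 _ ≫ Spec.map (α₀ ≫ ev α cc) ≫ t = Spec.map α ≫ t
      rw [Category.id_comp, hcc])
    have hε₂ : ∀ c : Multiplicative M →* D, P α c = ε₂ ≫ P (α₀ ≫ ev α cc) c := fun c => by
      refine Over.OverMorphism.ext ?_
      show (P α c).left = 𝟙 _ ≫ (P (α₀ ≫ ev α cc) c).left
      rw [Category.id_comp]
      congr! 3 <;> exact hcc.symm
    rw [hε₂, hε₂, hε₂, h1, MonObj.comp_mul]
  -- a point at which the torsion survives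
  obtain ⟨q, hq, hqk⟩ : ∃ q : ℕ, q.Prime ∧ (q : K) ≠ 0 := by
    by_cases h2 : ((2 : ℕ) : K) = 0
    · refine ⟨3, Nat.prime_three, fun h3 => one_ne_zero (α := K) ?_⟩
      have : ((3 : ℕ) : K) - ((2 : ℕ) : K) = 1 := by norm_num
      rw [← this, h2, h3, sub_zero]
    · exact ⟨2, Nat.prime_two, h2⟩
  haveI := Fact.mk hq
  haveI : NeZero (q : K) := ⟨hqk⟩
  obtain ⟨ζ, hζ⟩ := HasEnoughRootsOfUnity.exists_primitiveRoot K q
  let χ : (Fin r → ZMod q) → Multiplicative M →* K := fun c =>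
    { toFun := fun m => ζ ^ (∑ j, c j * (m.toAdd j : ZMod q)).val
      map_one' := by
        show ζ ^ (∑ j, c j * (((0 : Fin r → ℤ) j : ℤ) : ZMod q)).val = 1
        simp
      map_mul' := fun m n => by
        rw [← pow_add]
        refine pow_eq_pow_of_modEq ?_ hζ.pow_eq_one
        rw [← ZMod.natCast_eq_natCast_iff, Nat.cast_add, ZMod.natCast_zmod_val, ZMod.natCast_zmod_val,
          ZMod.natCast_zmod_val, ← Finset.sum_add_distrib]
        show ∑ j, c j * (((m.toAdd : Fin r → ℤ) j + (n.toAdd : Fin r → ℤ) j : ℤ) : ZMod q) = _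
        simp [_root_.mul_add] }
  have hχ0 : ∀ c, c ≠ 0 → χ c ≠ 1 := by
    intro c hc he
    obtain ⟨j, hj⟩ := Function.ne_iff.1 hc
    have h1 : ζ ^ (∑ l, c l * ((Pi.single j 1 : M) l : ZMod q)).val = 1 :=
      DFunLike.congr_fun he (Multiplicative.ofAdd (Pi.single j 1 : M))
    rw [hζ.pow_eq_one_iff_dvd] at h1
    refine hj ((ZMod.val_eq_zero _).1 (Nat.eq_zero_of_dvd_of_lt ?_ (ZMod.val_lt (c j))))
    simpa [Pi.single_apply] using h1
  have hne : ∀ c : Fin r → ZMod q, ∃ e : A₀, e ≠ 0 ∧ ∀ a : A₀ →ₐ[K] K, a e ≠ 0 →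
      c ≠ 0 → P (CommRingCat.ofHom a.toRingHom) (χ c) ≠ 1 := by
    intro c
    by_cases hc : c = 0
    · exact ⟨1, one_ne_zero, fun a _ h => absurd hc h⟩
    let cA : Multiplicative M →* A := (algebraMap K A₀ : K →* A₀).comp (χ c)
    obtain ⟨I, hI⟩ := EqLocus.exists_eq_ideal (P (𝟙 A) cA).left (1 : HomDS.test t (𝟙 A) ⟶ C).left C.hom
      ((Over.w _).trans (Over.w _).symm)
    obtain ⟨e, heI, he0⟩ : ∃ e ∈ I, e ≠ 0 := by
      by_contra hbot
      push Not at hbot
      have h1 : I ≤ RingHom.ker inc.hom := fun x hx => by simp [hbot x hx]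
      have h2 := (hI _ inc).2 h1
      let ε₃ : (Over.map g).obj (Over.mk (Spec.map (𝟙 (CommRingCat.of K')))) ⟶ HomDS.test t (𝟙 A ≫ inc) :=
        Over.homMk (𝟙 _) (by
          show 𝟙 _ ≫ Spec.map (𝟙 A ≫ inc) ≫ t = Spec.map (𝟙 (CommRingCat.of K')) ≫ g
          rw [Category.id_comp, Category.id_comp, Spec.map_id, Category.id_comp, ← Spec.map_comp]
          rfl)
      have h3 : psi g h (𝟙 _) ((algebraMap K K' : K →* K').comp (χ c)) = psi g h (𝟙 _) 1 := by
        have hP1 : ∀ {D : CommRingCat.{u}} (β : CommRingCat.of K' ⟶ D), psi g h β 1 = 1 := fun β =>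
          (mul_eq_left (a := psi g h β 1)).1 (by rw [← psi_mul, _root_.one_mul])
        have h4 : tmap t (𝟙 A) inc ≫ P (𝟙 A) cA = 1 := by
          rw [← MonObj.comp_one (tmap t (𝟙 A) inc)]
          exact Over.OverMorphism.ext h2
        rw [hPξ] at h4
        rw [hP1, ← MonObj.comp_one ε₃, ← h4]
        refine Over.OverMorphism.ext ?_
        show _ = 𝟙 _ ≫ (P (𝟙 A ≫ inc) _).left
        rw [Category.id_comp]
        refine (hPψ (𝟙 _) _).symm.trans ?_
        congr! 3 <;> simp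
      refine hχ0 c hc (MonoidHom.ext fun m => (algebraMap K K').injective ?_)
      have := DFunLike.congr_fun (psi_injective g h _ h3) m
      simpa using this
    refine ⟨e, he0, fun a ha _ h1 => ha ?_⟩
    have h2 : tmap t (𝟙 A) (CommRingCat.ofHom a.toRingHom : A ⟶ CommRingCat.of K) ≫ P (𝟙 A) cA =
        tmap t (𝟙 A) (CommRingCat.ofHom a.toRingHom : A ⟶ CommRingCat.of K) ≫ 1 := by
      rw [hPξ, MonObj.comp_one]
      refine Eq.trans ?_ (show (1 : HomDS.test t (𝟙 A ≫ CommRingCat.ofHom a.toRingHom) ⟶ C) = 1 from rfl)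
      have : ((CommRingCat.ofHom a.toRingHom : A ⟶ CommRingCat.of K).hom : A →* K).comp cA = χ c :=
        MonoidHom.ext fun m => a.commutes _
      rw [this]
      exact h1
    exact RingHom.mem_ker.1 ((hI _ (CommRingCat.ofHom a.toRingHom : A ⟶ CommRingCat.of K)).1
      (congrArg CommaMorphism.left h2) heI)
  choose e he0 he using hne
  obtain ⟨a, ha⟩ := FGFactor.exists_point (K := K) (e := ∏ c, e c) (Finset.prod_ne_zero_iff.2 fun c _ => he0 c)
  rw [map_prod, Finset.prod_ne_zero_iff] at ha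
  let aC : A ⟶ CommRingCat.of K := CommRingCat.ofHom a.toRingHom
  have hat : Spec.map aC ≫ t = 𝟙 _ := by
    rw [← Spec.map_comp, ← Spec.map_id]
    exact congrArg Spec.map (CommRingCat.hom_ext a.comp_algebraMap)
  let S₀ := Spec (CommRingCat.of K)
  let sK : CommRingCat.of K ⟶ HomDS.ring (A := CommRingCat.of K) M := CommRingCat.ofHom MonoidAlgebra.singleOneRingHom
  obtain ⟨r₀, hr₀⟩ := HomDS.exists_fac (𝟙 S₀) M (X := Red.DS S₀ M) (Red.DS S₀ M).hom (Category.comp_id _) (𝟙 _)
  let ηK : ∀ {D : CommRingCat.{u}} (β : CommRingCat.of K ⟶ D), HomDS.test (𝟙 S₀) β ⟶ HomDS.test t (aC ≫ β) :=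
    fun {D} β => Over.homMk (𝟙 _) (by
      show 𝟙 _ ≫ Spec.map (aC ≫ β) ≫ t = Spec.map β ≫ 𝟙 _
      rw [Category.id_comp, Spec.map_comp, Category.assoc, hat])
  let f : Red.DS S₀ M ⟶ C := r₀ ≫ ηK sK ≫ P (aC ≫ sK) (MonoidAlgebra.of K (Multiplicative M))
  -- the values of `f`
  have hfval : ∀ {D : CommRingCat.{u}} (β : CommRingCat.of K ⟶ D) (ch : Multiplicative M →* D),
      (evHom (𝟙 S₀) M β ch ≫ univPt (𝟙 S₀) M) ≫ f = ηK β ≫ P (aC ≫ β) ch := fun β ch => by
    have e1 : (evHom (𝟙 S₀) M β ch ≫ univPt (𝟙 S₀) M) ≫ r₀ = evHom (𝟙 S₀) M β ch :=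
      univ_mono (𝟙 S₀) _ _ (by rw [Category.assoc _ r₀, hr₀, Category.comp_id])
    show (_ ≫ r₀ ≫ _) = _
    rw [← Category.assoc _ r₀, e1]
    refine Over.OverMorphism.ext ?_
    show Spec.map (ev β ch) ≫ 𝟙 _ ≫ Spec.map (ev (aC ≫ sK) _) ≫ u.left = 𝟙 _ ≫ Spec.map (ev (aC ≫ β) ch) ≫ u.left
    rw [Category.id_comp, Category.id_comp, ← Category.assoc, ← Spec.map_comp]
    congr 2
    exact ev_ev aC β ch
  haveI : IsMonHom f := isMonHom_of_points f fun X x y => by
    let D : CommRingCat.{u} := Γ(X.left, ⊤)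
    let β : CommRingCat.of K ⟶ D := (Scheme.ΓSpecIso _).inv ≫ X.hom.appTop
    have hβ : X.left.toSpecΓ ≫ Spec.map β = X.hom := by
      rw [Spec.map_comp, ← Scheme.toSpecΓ_naturality_assoc, toSpecΓ_SpecMap_ΓSpecIso_inv, Category.comp_id]
    let γ : X ⟶ HomDS.test (𝟙 S₀) β := Over.homMk X.left.toSpecΓ (by
      show X.left.toSpecΓ ≫ Spec.map β ≫ 𝟙 _ = X.hom
      rw [Category.comp_id, hβ])
    let chs : (X ⟶ Red.DS S₀ M) → Multiplicative M →* D := fun z =>
      { toFun := fun m => Gm.dsFn z m.toAdd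
        map_one' := Gm.dsFn_zero z
        map_mul' := fun m n => Gm.dsFn_add z _ _ }
    have hz : ∀ z, z = γ ≫ evHom (𝟙 S₀) M β (chs z) ≫ univPt (𝟙 S₀) M := fun z => Gm.dsFn_ext fun m => by
      rw [Gm.dsFn_comp, dsFn_evHom]
      show _ = X.left.toSpecΓ.appTop ((Scheme.ΓSpecIso D).inv (Gm.dsFn z m))
      rw [← CommRingCat.comp_apply, Scheme.toSpecΓ_appTop]
      simp [D]
    have hval : ∀ z, z ≫ f = γ ≫ ηK β ≫ P (aC ≫ β) (chs z) := fun z => by
      conv_lhs => rw [hz z]
      rw [Category.assoc, hfval]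
    have hch : chs (x * y) = chs x * chs y := MonoidHom.ext fun m => Gm.dsFn_mul x y _
    rw [hval, hval, hval, hch, hPmul, MonObj.comp_mul, MonObj.comp_mul]
  obtain ⟨N, j, hj, hjm, hfac⟩ := KerField.exists_image f
  refine ⟨N, j, le_finrank_of_annihilator (q := q) N fun c hc => ?_, hj, hjm⟩
  by_contra hall
  push Not at hall
  refine he c a (ha c (Finset.mem_univ _)) hc ?_
  let z := evHom (𝟙 S₀) M (𝟙 _) (χ c) ≫ univPt (𝟙 S₀) M
  have h1 : z ≫ Red.DSmap S₀ N.subtype = 1 := Gm.dsFn_ext fun m => by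
    rw [Gm.dsFn_DSmap, dsFn_evHom, Gm.dsFn_one]
    show toG (CommRingCat.of K) (ζ ^ (∑ j, c j * ((m : M) j : ZMod q)).val) = 1
    rw [hall _ m.2]
    simp
  have h2 : z ≫ f = 1 := by rw [← hfac, ← Category.assoc, h1, MonObj.one_comp]
  rw [hfval] at h2
  let η' : HomDS.test t aC ⟶ HomDS.test (𝟙 S₀) (𝟙 (CommRingCat.of K)) := Over.homMk (𝟙 _) (by
    show 𝟙 _ ≫ Spec.map (𝟙 _) ≫ 𝟙 _ = Spec.map aC ≫ t
    rw [Category.id_comp, Spec.map_id, Category.id_comp, hat])
  have h3 : η' ≫ ηK (𝟙 _) ≫ P (aC ≫ 𝟙 _) (χ c) = 1 := by rw [h2, MonObj.comp_one]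
  refine Eq.trans ?_ h3
  refine Over.OverMorphism.ext ?_
  show (P aC (χ c)).left = 𝟙 _ ≫ 𝟙 _ ≫ (P (aC ≫ 𝟙 _) (χ c)).left
  rw [Category.id_comp, Category.id_comp]
  congr! 3 <;> simp

end Spread

end Groth.Agent.Lib.SmWeil.TorusSpec
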