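import Groth.Agent.Lib.SmWeil.Content
import Groth.Agent.Lib.FreeRes.AffGrp

/-!
# Closed transporters and centralizers along smooth objects with connected geometric fibres
-/

set_option autoImplicit false
set_option linter.style.haveILetI false

universe u

open CategoryTheory CategoryTheory.Limits AlgebraicGeometry MonoidalCategory CartesianMonoidalCategory
open CategoryTheory.MonObj CategoryTheory.GrpObj
open Groth.Agent.Lib Groth.Agent.Lib.HilbD Groth.Agent.Lib.Lim Groth.Agent.Lib.FreeRes

namespace Groth.Agent.Lib.SmWeil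

variable {S : Scheme.{u}} {P X W Y : Over S}

/-- **Closed transporter along a smooth object with connected geometric fibres.** -/
theorem exists_closed_factor_smooth [Smooth X.hom] [GeometricallyConnected X.hom] (u : P ⊗ X ⟶ W)
    (y : Y ⟶ W) [IsClosedImmersion y.left] :
    ∃ (C : Over S) (c : C ⟶ P), IsClosedImmersion c.left ∧
      (∀ {T : Over S} (g : T ⟶ P), (∃ z, z ≫ c = g) ↔ ∃ l, l ≫ y = (g ▷ X) ≫ u) ∧
      (LocallyOfFinitePresentation y.left → LocallyOfFinitePresentation c.left) := by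
  haveI : Smooth (fst P X).left := MorphismProperty.of_isPullback (isPullback_fst P X) inferInstance
  haveI : GeometricallyConnected (fst P X).left :=
    MorphismProperty.of_isPullback (isPullback_fst P X) inferInstance
  obtain ⟨I, hI, hfg⟩ := exists_represents_smooth (fst P X).left (y.left.ker.comap u.left)
  let c : Over.mk (I.subschemeι ≫ P.hom) ⟶ P := Over.homMk I.subschemeι
  haveI : IsClosedImmersion c.left := inferInstanceAs (IsClosedImmersion I.subschemeι)
  refine ⟨_, c, this, fun {T} g => ?_, fun hy => ?_⟩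
  · rw [exists_lift_iff_ker y, Over.comp_left, Scheme.IdealSheafData.comap_comp,
      ← hI _ _ _ (isPullback_whiskerRight g), ← Basic.exists_lift_iff]
    constructor
    · rintro ⟨z, rfl⟩
      exact ⟨z.left, rfl⟩
    · rintro ⟨z, hz⟩
      exact ⟨Over.homMk z (by
        show z ≫ I.subschemeι ≫ P.hom = T.hom
        rw [reassoc_of% hz, Over.w g]), Over.OverMorphism.ext hz⟩
  · exact IdealFP.lfp_subschemeι I (hfg (isFG_comap _ (Approx.Integral.isFG_ker_of_lfp y.left)))

variable {G Y' : Over S} [GrpObj G]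

/-- Transporter into a closed subscheme. -/
theorem exists_transporter_smooth (y : Y ⟶ G) [Smooth Y.hom] [GeometricallyConnected Y.hom]
    (y' : Y' ⟶ G) [IsClosedImmersion y'.left] :
    ∃ (C : Over S) (c : C ⟶ G), IsClosedImmersion c.left ∧
      (∀ {T : Over S} (g : T ⟶ G), (∃ z, z ≫ c = g) ↔ Transports y' y g) ∧
      (LocallyOfFinitePresentation y'.left → LocallyOfFinitePresentation c.left) := by
  obtain ⟨C, c, hc, hC, hfp⟩ := exists_closed_factor_smooth
    (fst G Y * (snd G Y ≫ y) * (fst G Y)⁻¹) y'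
  refine ⟨C, c, hc, fun g => ?_, hfp⟩
  rw [hC g, forall_pair_factor_iff]
  simp only [Transports, MonObj.comp_mul, GrpObj.comp_inv, lift_fst, lift_snd_assoc]

/-- Centralizer in a separated group. -/
theorem exists_centralizer_smooth [IsSeparated G.hom] (y : Y ⟶ G) [Smooth Y.hom]
    [GeometricallyConnected Y.hom] :
    ∃ (C : Over S) (c : C ⟶ G), IsClosedImmersion c.left ∧
      ∀ (X : Over S) (g : X ⟶ G), (∃ z : X ⟶ C, z ≫ c = g) ↔
        ∀ (X' : Over S) (x : X' ⟶ X) (a : X' ⟶ Y), (x ≫ g) * (a ≫ y) = (a ≫ y) * (x ≫ g) := by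
  let Δ : G ⟶ G ⊗ G := lift (𝟙 G) (𝟙 G)
  haveI : IsClosedImmersion Δ.left := by
    have : Δ.left = pullback.diagonal G.hom := pullback.hom_ext
      ((congrArg CommaMorphism.left (lift_fst (𝟙 G) (𝟙 G))).trans
        (pullback.diagonal_fst G.hom).symm)
      ((congrArg CommaMorphism.left (lift_snd (𝟙 G) (𝟙 G))).trans
        (pullback.diagonal_snd G.hom).symm)
    rw [this]
    infer_instance
  obtain ⟨C, c, hc, hC, -⟩ := exists_closed_factor_smooth
    (lift (fst G Y * (snd G Y ≫ y)) ((snd G Y ≫ y) * fst G Y)) Δ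
  refine ⟨C, c, hc, fun X g => ?_⟩
  have key : (g ▷ Y) ≫ (fst G Y * (snd G Y ≫ y)) = (g ▷ Y) ≫ ((snd G Y ≫ y) * fst G Y) ↔
      ∀ (X' : Over S) (x : X' ⟶ X) (a : X' ⟶ Y), (x ≫ g) * (a ≫ y) = (a ≫ y) * (x ≫ g) := by
    rw [forall_pair_iff]
    simp only [MonObj.comp_mul, lift_fst, lift_snd_assoc]
  rw [hC g, ← key]
  constructor
  · rintro ⟨l, hl⟩
    have h1 := congrArg (· ≫ fst G G) hl
    have h2 := congrArg (· ≫ snd G G) hl
    simp only [Δ, Category.assoc, lift_fst, lift_snd, Category.comp_id] at h1 h2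
    exact h1.symm.trans h2
  · intro h
    refine ⟨(g ▷ Y) ≫ (fst G Y * (snd G Y ≫ y)), ?_⟩
    apply CartesianMonoidalCategory.hom_ext <;>
      simp only [Δ, Category.assoc, lift_fst, lift_snd, Category.comp_id, ← h]

end Groth.Agent.Lib.SmWeil
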