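import Groth.Agent.Lib.SmWeil.EtaleNhd
import Groth.Agent.Lib.Flat55.JetContent
import Mathlib.RingTheory.Ideal.Quotient.Operations
import Mathlib.RingTheory.Polynomial.Basic

/-!
# The locus where a monomorphism contains the infinitesimal neighbourhoods of a section

`exists_idem`: an unramified algebra with a retraction has an element equal to one at the section
and killing the rest of the fibre over the section.
`exists_locus`: the Noetherian core: the ideal of the locus where all infinitesimal neighbourhoods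
lift, and an etale neighbourhood over that locus.
-/

set_option autoImplicit false
set_option linter.style.haveILetI false

universe u

open scoped TensorProduct

namespace Groth.Agent.Lib.SmWeil.UnitJet

open Groth.Agent.Lib.Flat55.JetContent

theorem exists_idem {R B C : Type u} [CommRing R] [CommRing B] [CommRing C] [Algebra R B]
    [Algebra B C] [Algebra R C] [IsScalarTower R B C] [Algebra.FinitePresentation R B]
    [Algebra.FinitePresentation B C] [Algebra.FormallyUnramified B C]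
    (εB : B →ₐ[R] R) (εC : C →ₐ[R] R) (hεC : ∀ b, εC (algebraMap B C b) = εB b) :
    ∃ g : C, εC g = 1 ∧
      ∀ c, g * (c - algebraMap R C (εC c)) ∈ (RingHom.ker εB).map (algebraMap B C) := by
  set L : Ideal C := RingHom.ker εC
  set IC : Ideal C := (RingHom.ker εB).map (algebraMap B C)
  have hICL : IC ≤ L := Ideal.map_le_iff_le_comap.2 fun b hb => by
    show εC (algebraMap B C b) = 0
    rw [hεC]
    exact hb
  let P : Ideal C := L ^ 2 ⊔ IC
  have hIb : ∀ b, algebraMap B C b - algebraMap R C (εB b) ∈ IC := fun b => by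
    rw [IsScalarTower.algebraMap_apply R B C, ← map_sub]
    refine Ideal.mem_map_of_mem _ ?_
    rw [RingHom.mem_ker, map_sub, AlgHom.commutes]
    simp
  let f₂ : C →ₐ[B] C ⧸ P :=
    { ((Ideal.Quotient.mk P).comp (algebraMap R C)).comp εC.toRingHom with
      commutes' := fun b => by
        show Ideal.Quotient.mk P (algebraMap R C (εC (algebraMap B C b))) =
          Ideal.Quotient.mk P (algebraMap B C b)
        rw [hεC, eq_comm, Ideal.Quotient.eq]
        exact le_sup_right (a := L ^ 2) (hIb b) }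
  have hdiff : ∀ c, c - algebraMap R C (εC c) ∈ L := fun c => by
    rw [RingHom.mem_ker, map_sub, AlgHom.commutes]
    simp
  have heq : Ideal.Quotient.mkₐ B P = f₂ := by
    refine Algebra.FormallyUnramified.lift_unique (L.map (Ideal.Quotient.mk P)) ⟨2, ?_⟩ _ _ ?_
    · rw [← Ideal.map_pow]
      exact (Ideal.map_eq_bot_iff_le_ker _).2 (le_sup_left.trans_eq Ideal.mk_ker.symm)
    · refine AlgHom.ext fun c => ?_
      rw [AlgHom.comp_apply, AlgHom.comp_apply, Ideal.Quotient.mkₐ_eq_mk, Ideal.Quotient.eq]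
      show Ideal.Quotient.mk P c - Ideal.Quotient.mk P (algebraMap R C (εC c)) ∈ _
      rw [← map_sub]
      exact Ideal.mem_map_of_mem _ (hdiff c)
  have hLP : L ≤ P := fun c hc => by
    have h1 : Ideal.Quotient.mk P c = Ideal.Quotient.mk P (algebraMap R C (εC c)) :=
      AlgHom.congr_fun heq c
    rw [show εC c = 0 from hc, map_zero, map_zero, Ideal.Quotient.eq_zero_iff_mem] at h1
    exact h1
  haveI : Algebra.FinitePresentation R C := Algebra.FinitePresentation.trans R B C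
  have hLfg : L.FG := Algebra.FinitePresentation.ker_fG_of_surjective εC
    fun r => ⟨algebraMap R C r, εC.commutes r⟩
  let q := Ideal.Quotient.mk IC
  have hN : L.map q ≤ L.map q • L.map q := by
    refine Ideal.map_le_iff_le_comap.2 fun c hc => ?_
    obtain ⟨a, ha, b, hb, rfl⟩ := Submodule.mem_sup.1 (hLP hc)
    show q (a + b) ∈ L.map q • L.map q
    rw [map_add, show q b = 0 from Ideal.Quotient.eq_zero_iff_mem.2 hb, add_zero, smul_eq_mul,
      ← pow_two, ← Ideal.map_pow]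
    exact Ideal.mem_map_of_mem _ ha
  obtain ⟨r, hr1, hr0⟩ := Submodule.exists_sub_one_mem_and_smul_eq_zero_of_fg_of_le_smul
    (L.map q) (L.map q) (hLfg.map q) hN
  obtain ⟨g, rfl⟩ := Ideal.Quotient.mk_surjective r
  refine ⟨g, ?_, fun c => ?_⟩
  · rw [show q g - 1 = q (g - 1) by rw [map_sub, map_one]] at hr1
    obtain ⟨l, hl, hle⟩ := (Ideal.mem_map_iff_of_surjective q Ideal.Quotient.mk_surjective).1 hr1
    have h1 : εC (g - 1) = 0 := by
      have h2 : (g - 1) - l ∈ L := hICL (Ideal.Quotient.eq.1 hle.symm)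
      have h3 := L.add_mem h2 hl
      rwa [sub_add_cancel, RingHom.mem_ker] at h3
    rwa [map_sub, map_one, sub_eq_zero] at h1
  · rw [← Ideal.Quotient.eq_zero_iff_mem, map_mul]
    exact hr0 _ (Ideal.mem_map_of_mem q (hdiff c))

theorem pow_ker_ev0 (d n : ℕ) (A : Type u) [CommRing A] :
    RingHom.ker (ev0 d n A : jetRing d n A →+* A) ^ (n + 1) = ⊥ := by
  have hle : RingHom.ker (ev0 d n A : jetRing d n A →+* A) ≤
      (MvPolynomial.idealOfVars (Fin d) A).map (Ideal.Quotient.mk _) := by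
    intro z hz
    obtain ⟨q, rfl⟩ := Ideal.Quotient.mk_surjective z
    refine Ideal.mem_map_of_mem _ ?_
    rw [← pow_one (MvPolynomial.idealOfVars (Fin d) A), MvPolynomial.mem_pow_idealOfVars_iff']
    intro m hm
    have hm0 : m = 0 := (Finsupp.degree_eq_zero_iff m).1 (Nat.lt_one_iff.1 hm)
    subst hm0
    have h0 : MvPolynomial.aeval (fun _ : Fin d => (0 : A)) q = 0 := by
      rw [← ev0_mk (n := n)]; exact hz
    rwa [MvPolynomial.aeval_eq_eval₂Hom, MvPolynomial.eval₂Hom_zero'_apply,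
      Algebra.algebraMap_self_apply, MvPolynomial.constantCoeff_eq] at h0
  refine le_bot_iff.1 ((Ideal.pow_right_mono hle _).trans ?_)
  rw [← Ideal.map_pow, Ideal.map_quotient_self]

theorem ev0_jetC {R₀ B₀ : Type u} [CommRing R₀] [CommRing B₀] [Algebra R₀ B₀] {A : Type u}
    [CommRing A] [Algebra R₀ A] {d n : ℕ} {φ : B₀ →ₐ[R₀] A} {ψ : B₀ →ₐ[R₀] jetRing d n A}
    (h : ∀ b, ev0 d n A (ψ b) = φ b) (z : A ⊗[R₀] B₀) :
    ev0 d n A (jetC ψ z) = sect φ z := by
  induction z with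
  | zero => simp
  | add a b ha hb => simp [map_add, ha, hb]
  | tmul a b => simp [jetC, sect, h]

variable {S₀ R₁ B₀ : Type u} [CommRing S₀] [CommRing R₁] [CommRing B₀] [Algebra S₀ R₁]
  [Algebra S₀ B₀] {d : ℕ} {g : MvPolynomial (Fin d) S₀ →ₐ[S₀] B₀}

theorem exists_locus [IsNoetherianRing R₁] [Algebra.FiniteType S₀ B₀] (hg : g.toRingHom.Etale)
    (φ : B₀ →ₐ[S₀] R₁) {C₁ : Type u} [CommRing C₁] [Algebra (R₁ ⊗[S₀] B₀) C₁]
    [Algebra.FiniteType (R₁ ⊗[S₀] B₀) C₁] (εC : C₁ →+* R₁)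
    (hεC : εC.comp (algebraMap (R₁ ⊗[S₀] B₀) C₁) = (sect φ).toRingHom) (g₁ : C₁) (hg₁ : εC g₁ = 1)
    (hgen : ∀ c, g₁ * (c - algebraMap (R₁ ⊗[S₀] B₀) C₁ (algebraMap R₁ (R₁ ⊗[S₀] B₀) (εC c))) ∈
      (RingHom.ker (sect φ)).map (algebraMap (R₁ ⊗[S₀] B₀) C₁)) :
    ∃ J : Ideal R₁,
      (∀ (A : Type u) [CommRing A] [Algebra S₀ A] (π : R₁ →ₐ[S₀] A),
        (∀ (n : ℕ) (ψ : B₀ →ₐ[S₀] jetRing d n A), IsJet g (π.comp φ) ψ →
          ∃ l : C₁ →+* jetRing d n A, l.comp (algebraMap (R₁ ⊗[S₀] B₀) C₁) =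
              (jetC ψ).toRingHom.comp (Algebra.TensorProduct.map π (AlgHom.id S₀ B₀)).toRingHom ∧
            (ev0 d n A).toRingHom.comp l = π.toRingHom.comp εC) → J.map π = ⊥) ∧
      ∃ (E₀ : Type u) (_ : CommRing E₀)
        (ι₀ : (R₁ ⊗[S₀] B₀) ⧸ RingHom.ker (Algebra.TensorProduct.map (Ideal.Quotient.mkₐ S₀ J)
          (AlgHom.id S₀ B₀)).toRingHom →+* E₀)
        (m₀ : C₁ →+* E₀) (σ₀ : E₀ →+* R₁ ⧸ J),
        ι₀.Etale ∧ (∀ b, m₀ (algebraMap (R₁ ⊗[S₀] B₀) C₁ b) = ι₀ (Ideal.Quotient.mk _ b)) ∧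
          ∀ c, σ₀ (m₀ c) = Ideal.Quotient.mk J (εC c) := by
  let B₁ := R₁ ⊗[S₀] B₀
  haveI : IsNoetherianRing B₁ := Algebra.FiniteType.isNoetherianRing R₁ B₁
  set I₁ : Ideal B₁ := RingHom.ker (sect φ) with hI₁
  choose ψ hψ using fun n => exists_isJet hg φ n
  let P : ℕ → Ideal C₁ := fun n => (I₁ ^ (n + 1)).map (algebraMap B₁ C₁)
  let K : ℕ → Ideal B₁ := fun n => RingHom.ker ((algebraMap (C₁ ⧸ P n)
    (Localization.Away (Ideal.Quotient.mk (P n) g₁))).comp
      ((Ideal.Quotient.mk (P n)).comp (algebraMap B₁ C₁)))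
  let J : Ideal R₁ := Ideal.span {a | ∃ n, ∃ k ∈ K n, ∃ q, Ideal.Quotient.mk _ q = jetC (ψ n) k ∧
    ∃ m : Fin d →₀ ℕ, m.degree < n + 1 ∧ q.coeff m = a}
  have hcrit : ∀ (A : Type u) [CommRing A] [Algebra S₀ A] (π : R₁ →ₐ[S₀] A),
      J.map π = ⊥ ↔ ∀ n, ∀ k ∈ K n, jetMap d n π (jetC (ψ n) k) = 0 := by
    intro A _ _ π
    constructor
    · intro hJ n k hk
      obtain ⟨q, hq⟩ := Ideal.Quotient.mk_surjective (jetC (ψ n) k)
      rw [← hq, jetMap_eq_zero_iff]
      intro m hm
      have := Ideal.mem_map_of_mem π (Ideal.subset_span ⟨n, k, hk, q, hq, m, hm, rfl⟩ : q.coeff m ∈ J)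
      rwa [hJ, Ideal.mem_bot] at this
    · intro h
      rw [Ideal.map_span, Ideal.span_eq_bot]
      rintro _ ⟨_, ⟨n, k, hk, q, hq, m, hm, rfl⟩, rfl⟩
      have := h n k hk
      rw [← hq, jetMap_eq_zero_iff] at this
      exact this m hm
  refine ⟨J, ?_, ?_⟩
  · intro A _ _ π H
    rw [hcrit]
    intro n k hk
    obtain ⟨l, hl1, hl2⟩ := H n _ ((hψ n).map π)
    have hlk : ∀ b, l (algebraMap B₁ C₁ b) = jetMap d n π (jetC (ψ n) b) := fun b =>
      (RingHom.congr_fun hl1 b).trans (jetC_map π (ψ n) b).symm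
    have hker : P n ≤ RingHom.ker l := by
      refine Ideal.map_le_iff_le_comap.2 fun b hb => ?_
      show l (algebraMap B₁ C₁ b) = 0
      have h1 : I₁.map (l.comp (algebraMap B₁ C₁)) ≤ RingHom.ker (ev0 d n A : jetRing d n A →+* A) := by
        refine Ideal.map_le_iff_le_comap.2 fun i hi => ?_
        show (ev0 d n A) (l (algebraMap B₁ C₁ i)) = 0
        have h2 : (ev0 d n A) (l (algebraMap B₁ C₁ i)) = π (εC (algebraMap B₁ C₁ i)) :=
          RingHom.congr_fun hl2 _
        rw [h2, show εC (algebraMap B₁ C₁ i) = sect φ i from RingHom.congr_fun hεC i,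
          show sect φ i = 0 from hi, map_zero]
      have h3 := Ideal.mem_map_of_mem (l.comp (algebraMap B₁ C₁)) hb
      rw [Ideal.map_pow] at h3
      exact Ideal.mem_bot.1 (pow_ker_ev0 d n A ▸ Ideal.pow_right_mono h1 (n + 1) h3)
    let lq : C₁ ⧸ P n →+* jetRing d n A := Ideal.Quotient.lift _ l fun c hc => hker hc
    have hu : IsUnit (lq (Ideal.Quotient.mk (P n) g₁)) := by
      have h1 : (ev0 d n A) (l g₁) = 1 := by
        have := RingHom.congr_fun hl2 g₁
        simpa [hg₁] using this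
      have h2 : IsNilpotent (l g₁ - 1) := by
        refine ⟨n + 1, Ideal.mem_bot.1 (pow_ker_ev0 d n A ▸ Ideal.pow_mem_pow ?_ (n + 1))⟩
        show (ev0 d n A) (l g₁ - 1) = 0
        rw [map_sub, h1, map_one, sub_self]
      show IsUnit (l g₁)
      simpa using h2.isUnit_add_one
    have h4 := congrArg (IsLocalization.Away.lift (S := Localization.Away (Ideal.Quotient.mk (P n) g₁))
      (Ideal.Quotient.mk (P n) g₁) hu) (RingHom.mem_ker.1 hk)
    rw [RingHom.comp_apply, IsLocalization.Away.lift_eq, map_zero] at h4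
    exact (hlk k).symm.trans h4
  -- the etale neighbourhood over the locus
  let μ : B₁ →ₐ[S₀] (R₁ ⧸ J) ⊗[S₀] B₀ :=
    Algebra.TensorProduct.map (Ideal.Quotient.mkₐ S₀ J) (AlgHom.id S₀ B₀)
  let Kμ : Ideal B₁ := RingHom.ker μ.toRingHom
  have hμs : Function.Surjective μ :=
    TensorProduct.map_surjective Ideal.Quotient.mk_surjective Function.surjective_id
  let B' := B₁ ⧸ Kμ
  let C' := C₁ ⧸ Kμ.map (algebraMap B₁ C₁)
  let qB := Ideal.Quotient.mk Kμ
  let qC := Ideal.Quotient.mk (Kμ.map (algebraMap B₁ C₁))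
  let I' : Ideal B' := I₁.map qB
  have hsq : ∀ b, algebraMap B' C' (qB b) = qC (algebraMap B₁ C₁ b) := fun b => rfl
  haveI : Algebra.FiniteType B' C' := by
    haveI : IsScalarTower B₁ B' C' := .of_algebraMap_eq fun b => (hsq b).symm
    haveI : Algebra.FiniteType B₁ C' :=
      Algebra.FiniteType.trans (inferInstance : Algebra.FiniteType B₁ C₁) inferInstance
    exact Algebra.FiniteType.of_restrictScalars_finiteType B₁ B' C'
  have hI'C : ∀ (n : ℕ) (c : C₁), c ∈ (I₁ ^ n).map (algebraMap B₁ C₁) →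
      qC c ∈ (I' ^ n).map (algebraMap B' C') := by
    intro n c hc
    have := Ideal.mem_map_of_mem qC hc
    rw [Ideal.map_map, show qC.comp (algebraMap B₁ C₁) = (algebraMap B' C').comp qB from
      RingHom.ext fun b => (hsq b).symm, ← Ideal.map_map, Ideal.map_pow qB] at this
    exact this
  have hεK : ∀ z ∈ Kμ.map (algebraMap B₁ C₁), Ideal.Quotient.mk J (εC z) = 0 := by
    intro z hz
    refine (Ideal.map_le_iff_le_comap.2 (fun b hb => ?_) :
      Kμ.map (algebraMap B₁ C₁) ≤ RingHom.ker ((Ideal.Quotient.mk J).comp εC)) hz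
    show Ideal.Quotient.mk J (εC (algebraMap B₁ C₁ b)) = 0
    rw [show εC (algebraMap B₁ C₁ b) = sect φ b from RingHom.congr_fun hεC b,
      ← Ideal.Quotient.mkₐ_eq_mk S₀, ← sect_map φ (Ideal.Quotient.mkₐ S₀ J) b]
    rw [show Algebra.TensorProduct.map (Ideal.Quotient.mkₐ S₀ J) (AlgHom.id S₀ B₀) b = 0 from hb,
      map_zero]
  have hgen' : ∀ c : C', ∃ b : B', qC g₁ * c - qC g₁ * algebraMap B' C' b ∈ I'.map (algebraMap B' C') := by
    intro c
    obtain ⟨c, rfl⟩ := Ideal.Quotient.mk_surjective c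
    refine ⟨qB (algebraMap R₁ B₁ (εC c)), ?_⟩
    rw [hsq, ← mul_sub, ← map_sub, ← map_mul]
    have := hI'C 1 (g₁ * (c - algebraMap B₁ C₁ (algebraMap R₁ B₁ (εC c)))) (by rw [pow_one]; exact hgen c)
    rwa [pow_one I'] at this
  have hg' : qC g₁ * qC g₁ - qC g₁ ∈ I'.map (algebraMap B' C') := by
    have := hI'C 1 _ (by rw [pow_one]; exact hgen g₁)
    rw [hg₁, map_one, map_one, mul_sub, mul_one, map_sub, map_mul] at this
    exact (pow_one I') ▸ this
  have hinj' : ∀ (n : ℕ) (b : B') (k : ℕ),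
      qC g₁ ^ k * algebraMap B' C' b ∈ (I' ^ (n + 1)).map (algebraMap B' C') → b ∈ I' ^ (n + 1) := by
    intro n b k hb
    obtain ⟨b, rfl⟩ := Ideal.Quotient.mk_surjective b
    let D := Localization.Away (Ideal.Quotient.mk (P n) g₁)
    let β : B₁ →+* D := (algebraMap (C₁ ⧸ P n) D).comp ((Ideal.Quotient.mk (P n)).comp (algebraMap B₁ C₁))
    letI : Algebra B₁ D := β.toAlgebra
    have hu : IsUnit (algebraMap (C₁ ⧸ P n) D (Ideal.Quotient.mk (P n) g₁)) :=
      IsLocalization.Away.algebraMap_isUnit _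
    have hPD : (I₁ ^ (n + 1)).map (algebraMap B₁ D) = ⊥ := by
      rw [Ideal.map_eq_bot_iff_le_ker]
      intro i hi
      show algebraMap (C₁ ⧸ P n) D (Ideal.Quotient.mk (P n) (algebraMap B₁ C₁ i)) = 0
      rw [Ideal.Quotient.eq_zero_iff_mem.2 (Ideal.mem_map_of_mem _ hi), map_zero]
    have hmodD : ∀ c, c ∈ I₁.map (algebraMap B₁ C₁) →
        algebraMap (C₁ ⧸ P n) D (Ideal.Quotient.mk (P n) c) ∈ I₁.map (algebraMap B₁ D) := by
      intro c hc
      have := Ideal.mem_map_of_mem ((algebraMap (C₁ ⧸ P n) D).comp (Ideal.Quotient.mk (P n))) hc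
      rwa [Ideal.map_map] at this
    have hsurjD : Function.Surjective β := by
      refine EtaleNhd.surjective_of_forall_sub_mem I₁ (n + 1) hPD fun s => ?_
      obtain ⟨c, ⟨_, j, rfl⟩, rfl⟩ :=
        IsLocalization.exists_mk'_eq (Submonoid.powers (Ideal.Quotient.mk (P n) g₁)) s
      obtain ⟨c, rfl⟩ := Ideal.Quotient.mk_surjective c
      set G := algebraMap (C₁ ⧸ P n) D (Ideal.Quotient.mk (P n) g₁) with hG
      have hone : G - 1 ∈ I₁.map (algebraMap B₁ D) := by
        have h1 := hmodD _ (hgen g₁)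
        rw [hg₁, map_one, map_one, map_mul, map_mul, map_sub, map_sub, map_one, map_one] at h1
        exact (Ideal.unit_mul_mem_iff_mem _ hu).1 h1
      refine ⟨algebraMap R₁ B₁ (εC c), ?_⟩
      have h1 := hmodD _ (hgen c)
      rw [map_mul, map_mul, map_sub, map_sub] at h1
      have h2 := (Ideal.unit_mul_mem_iff_mem _ hu).1 h1
      have h3 : G ^ j - 1 ∈ I₁.map (algebraMap B₁ D) :=
        Ideal.mem_of_dvd _ (sub_one_dvd_pow_sub_one G j) hone
      have h4 : IsLocalization.mk' D (Ideal.Quotient.mk (P n) c)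
          (⟨_, j, rfl⟩ : Submonoid.powers (Ideal.Quotient.mk (P n) g₁)) * G ^ j =
            algebraMap (C₁ ⧸ P n) D (Ideal.Quotient.mk (P n) c) := by
        rw [hG, ← map_pow]
        exact IsLocalization.mk'_spec D _ _
      have key : IsLocalization.mk' D (Ideal.Quotient.mk (P n) c)
          (⟨_, j, rfl⟩ : Submonoid.powers (Ideal.Quotient.mk (P n) g₁)) - β (algebraMap R₁ B₁ (εC c)) =
          (algebraMap (C₁ ⧸ P n) D (Ideal.Quotient.mk (P n) c) - β (algebraMap R₁ B₁ (εC c))) -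
            IsLocalization.mk' D (Ideal.Quotient.mk (P n) c)
              (⟨_, j, rfl⟩ : Submonoid.powers (Ideal.Quotient.mk (P n) g₁)) * (G ^ j - 1) := by
        rw [mul_sub, h4, mul_one]
        ring
      show _ - β (algebraMap R₁ B₁ (εC c)) ∈ _
      rw [key]
      exact Ideal.sub_mem _ h2 (Ideal.mul_mem_left _ _ h3)
    -- lift the membership
    rw [hsq, ← map_pow qC, ← map_mul, ← Ideal.map_pow qB, Ideal.map_map,
      show (algebraMap B' C').comp qB = qC.comp (algebraMap B₁ C₁) from RingHom.ext hsq,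
      ← Ideal.map_map, Ideal.mem_map_iff_of_surjective qC Ideal.Quotient.mk_surjective] at hb
    obtain ⟨c, hc, hcb⟩ := hb
    rw [Ideal.Quotient.eq] at hcb
    have h1 : algebraMap (C₁ ⧸ P n) D (Ideal.Quotient.mk (P n) (g₁ ^ k * algebraMap B₁ C₁ b)) ∈
        Kμ.map β := by
      have h2 := Ideal.mem_map_of_mem ((algebraMap (C₁ ⧸ P n) D).comp (Ideal.Quotient.mk (P n))) hcb
      rw [Ideal.map_map] at h2
      have h3 : algebraMap (C₁ ⧸ P n) D (Ideal.Quotient.mk (P n) c) = 0 := by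
        rw [Ideal.Quotient.eq_zero_iff_mem.2 hc, map_zero]
      rw [map_sub, RingHom.comp_apply, RingHom.comp_apply, h3, zero_sub, Ideal.neg_mem_iff] at h2
      exact h2
    rw [map_mul, map_mul, map_pow, map_pow, Ideal.unit_mul_mem_iff_mem _ (hu.pow k),
      Ideal.mem_map_iff_of_surjective β hsurjD] at h1
    obtain ⟨j, hj, hjb⟩ := h1
    have hk : b - j ∈ K n := by
      show β (b - j) = 0
      rw [map_sub, hjb]
      exact sub_self _
    have h0 : jetMap d n (Ideal.Quotient.mkₐ S₀ J) (jetC (ψ n) (b - j)) = 0 :=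
      (hcrit _ (Ideal.Quotient.mkₐ S₀ J)).1
        ((Ideal.map_eq_bot_iff_le_ker _).2 fun a ha => Ideal.Quotient.eq_zero_iff_mem.2 ha) n _ hk
    rw [jetC_map, show Algebra.TensorProduct.map (Ideal.Quotient.mkₐ S₀ J) (AlgHom.id S₀ B₀) (b - j) =
      μ b by rw [map_sub, show μ j = 0 from hj, sub_zero]] at h0
    have h5 := mem_pow_ker hg ((hψ n).map (Ideal.Quotient.mkₐ S₀ J)) h0
    have h6 : RingHom.ker (sect ((Ideal.Quotient.mkₐ S₀ J).comp φ)) ≤ I₁.map μ.toRingHom := by
      intro z hz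
      obtain ⟨y, rfl⟩ := hμs z
      have hy : sect φ y ∈ J := by
        rw [← Ideal.Quotient.eq_zero_iff_mem, ← Ideal.Quotient.mkₐ_eq_mk S₀, ← sect_map]
        exact hz
      have hy0 : μ (algebraMap R₁ B₁ (sect φ y)) = 0 := by
        show μ (sect φ y ⊗ₜ 1) = 0
        rw [Algebra.TensorProduct.map_tmul, Ideal.Quotient.mkₐ_eq_mk,
          Ideal.Quotient.eq_zero_iff_mem.2 hy, TensorProduct.zero_tmul]
      have hy1 : y - algebraMap R₁ B₁ (sect φ y) ∈ I₁ := by
        rw [hI₁, RingHom.mem_ker, map_sub, AlgHom.commutes]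
        simp
      have := Ideal.mem_map_of_mem μ.toRingHom hy1
      simpa [hy0] using this
    have h7 := Ideal.pow_right_mono h6 (n + 1) h5
    rw [← Ideal.map_pow, Ideal.mem_map_iff_of_surjective μ.toRingHom hμs] at h7
    obtain ⟨b', hb', hbb'⟩ := h7
    rw [show qB b = qB b' from Ideal.Quotient.eq.2 (by
      show μ (b - b') = 0
      rw [map_sub, sub_eq_zero]
      exact hbb'.symm), ← Ideal.map_pow]
    exact Ideal.mem_map_of_mem _ hb'
  obtain ⟨h, hh, het⟩ := EtaleNhd.exists_etale_nhd I' (qC g₁) hg' hgen' hinj'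
  let σ' : C' →+* R₁ ⧸ J :=
    Ideal.Quotient.lift _ ((Ideal.Quotient.mk J).comp εC) fun c hc => hεK c hc
  have hσh : σ' h = 1 := by
    have hle : I'.map (algebraMap B' C') ≤ RingHom.ker σ' := by
      rw [Ideal.map_map, show (algebraMap B' C').comp qB = qC.comp (algebraMap B₁ C₁) from
        RingHom.ext hsq]
      refine Ideal.map_le_iff_le_comap.2 fun i hi => ?_
      show Ideal.Quotient.mk J (εC (algebraMap B₁ C₁ i)) = 0
      rw [show εC (algebraMap B₁ C₁ i) = sect φ i from RingHom.congr_fun hεC i,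
        show sect φ i = 0 from hi, map_zero]
    have := hle hh
    rw [RingHom.mem_ker, map_mul, map_sub, map_one,
      show σ' (qC g₁) = Ideal.Quotient.mk J (εC g₁) from rfl, hg₁, map_one, one_mul, sub_eq_zero] at this
    exact this
  refine ⟨Localization.Away h, inferInstance, algebraMap B' (Localization.Away h),
    (algebraMap C' (Localization.Away h)).comp qC,
    IsLocalization.Away.lift h (hσh ▸ isUnit_one : IsUnit (σ' h)),
    RingHom.etale_algebraMap.2 het, fun b => ?_, fun c => ?_⟩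
  · show algebraMap C' (Localization.Away h) (qC (algebraMap B₁ C₁ b)) = _
    rw [← hsq, ← IsScalarTower.algebraMap_apply]
  · rw [RingHom.comp_apply, IsLocalization.Away.lift_eq]
    rfl

end Groth.Agent.Lib.SmWeil.UnitJet
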