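import Groth.Agent.Lib.SmWeil.UnitJet
import Mathlib.RingTheory.RingHom.Etale

/-!
# The ring form of the locus where a monomorphism contains the infinitesimal neighbourhoods

`exists_unit_locus`: for a standard smooth `R`-algebra `B` with a point and a formally unramified
finitely presented `B`-algebra `C` with a point above it, there is a finitely generated ideal `I`
of `R`, zero in every algebra over which all infinitesimal lifts exist, and over `R ⧸ I` an etale
`B`-algebra with a point, receiving `C`.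
-/

set_option autoImplicit false
set_option linter.style.haveILetI false

universe u

open scoped TensorProduct

namespace Groth.Agent.Lib.SmWeil.UnitLocus

open Groth.Agent.Lib.Flat55.JetContent

theorem exists_baseChange_point {K L M T : Type u} [CommRing K] [CommRing L] [CommRing M]
    [CommRing T] (ν : K →+* L) (ι₀ : K →+* M) (hι₀ : ι₀.Etale) (q : L →+* T) (s : M →+* T)
    (h : ∀ x, q (ν x) = s (ι₀ x)) :
    ∃ (E : Type u) (_ : CommRing E) (ι : L →+* E) (j : M →+* E) (σ : E →+* T),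
      ι.Etale ∧ (∀ x, ι (ν x) = j (ι₀ x)) ∧ (∀ x, σ (ι x) = q x) ∧ ∀ x, σ (j x) = s x := by
  letI : Algebra K L := ν.toAlgebra
  letI : Algebra K M := ι₀.toAlgebra
  letI : Algebra K T := (q.comp ν).toAlgebra
  haveI : Algebra.Etale K M := hι₀
  let q' : L →ₐ[K] T := { q with commutes' := fun _ => rfl }
  let s' : M →ₐ[K] T := { s with commutes' := fun x => (h x).symm }
  refine ⟨L ⊗[K] M, inferInstance, algebraMap L (L ⊗[K] M),
    (Algebra.TensorProduct.includeRight : M →ₐ[K] L ⊗[K] M).toRingHom,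
    (Algebra.TensorProduct.productMap q' s').toRingHom,
    RingHom.etale_algebraMap.2 inferInstance, fun x => ?_, fun x => ?_, fun x => ?_⟩
  · exact ((Algebra.TensorProduct.includeRight : M →ₐ[K] L ⊗[K] M).commutes x).symm
  · show Algebra.TensorProduct.productMap q' s' (x ⊗ₜ[K] (1 : M)) = q x
    rw [Algebra.TensorProduct.productMap_apply_tmul, map_one, mul_one]
    rfl
  · show Algebra.TensorProduct.productMap q' s' ((1 : L) ⊗ₜ[K] x) = s x
    rw [Algebra.TensorProduct.productMap_apply_tmul, map_one, one_mul]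
    rfl

theorem exists_unit_locus {R B C : Type u} [CommRing R] [CommRing B] [CommRing C] [Algebra R B]
    [Algebra B C] [Algebra R C] [IsScalarTower R B C] [Algebra.IsStandardSmooth R B]
    [Algebra.FinitePresentation B C] [Algebra.FormallyUnramified B C]
    (εB : B →ₐ[R] R) (εC : C →ₐ[R] R) (hεC : ∀ b, εC (algebraMap B C b) = εB b) :
    ∃ I : Ideal R, I.FG ∧
      (∀ (A : Type u) [CommRing A] [Algebra R A],
        (∀ (Q : Type u) [CommRing Q] (j : A →+* Q) (θ : B →+* Q) (q : Q →+* A),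
          θ.comp (algebraMap R B) = j.comp (algebraMap R A) → Function.Surjective q →
          IsNilpotent (RingHom.ker q) → q.comp θ = (algebraMap R A).comp εB.toRingHom →
            ∃ l : C →+* Q, l.comp (algebraMap B C) = θ ∧
              q.comp l = (algebraMap R A).comp εC.toRingHom) →
          I.map (algebraMap R A) = ⊥) ∧
      ∃ (E : Type u) (_ : CommRing E) (ι : (R ⧸ I) ⊗[R] B →+* E) (m : C →+* E) (σ : E →+* R ⧸ I),
        ι.Etale ∧ (∀ b, m (algebraMap B C b) = ι (1 ⊗ₜ b)) ∧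
          ∀ c, σ (m c) = Ideal.Quotient.mk I (εC c) := by
  classical
  obtain ⟨ιP, σP, _, _, ⟨P₀⟩⟩ := Algebra.IsStandardSmooth.out (R := R) (S := B)
  haveI : Algebra.IsStandardSmoothOfRelativeDimension P₀.dimension R B :=
    ⟨⟨ιP, σP, inferInstance, inferInstance, P₀, rfl⟩⟩
  obtain ⟨S₀, B₀, _, _, hS, hB₀, ⟨e⟩⟩ :=
    Algebra.IsStandardSmoothOfRelativeDimension.exists_subalgebra_fg (R := ℤ) (A := R) (B := B)
      P₀.dimension
  haveI : Algebra.FiniteType ℤ S₀ := S₀.fg_iff_finiteType.1 hS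
  haveI : IsNoetherianRing S₀ := Algebra.FiniteType.isNoetherianRing ℤ S₀
  obtain ⟨g, hg⟩ := Algebra.IsStandardSmoothOfRelativeDimension.exists_etale_mvPolynomial
    (n := P₀.dimension) S₀ B₀
  haveI : Algebra.IsStandardSmooth S₀ B₀ :=
    Algebra.IsStandardSmoothOfRelativeDimension.isStandardSmooth P₀.dimension
  haveI : Algebra.FiniteType S₀ B₀ := inferInstance
  obtain ⟨TB, hTB⟩ := Algebra.FiniteType.out (R := S₀) (A := B₀)
  obtain ⟨n, π, hπ, hker⟩ := Algebra.FinitePresentation.out (R := B) (A := C)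
  obtain ⟨Fs, hFs⟩ := hker
  obtain ⟨gC, hgC, hgCk⟩ := UnitJet.exists_idem εB εC hεC
  obtain ⟨G, hG⟩ := hπ gC
  let y : Fin n → C := fun i => π (MvPolynomial.X i)
  have hQex : ∀ i, ∃ Q ∈ (RingHom.ker εB).map (MvPolynomial.C : B →+* MvPolynomial (Fin n) B),
      π Q = gC * (y i - algebraMap R C (εC (y i))) := by
    intro i
    have h1 := hgCk (y i)
    rw [show algebraMap B C = π.toRingHom.comp (MvPolynomial.C : B →+* MvPolynomial (Fin n) B) from
      RingHom.ext fun b => (π.commutes b).symm, ← Ideal.map_map,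
      Ideal.mem_map_iff_of_surjective π.toRingHom hπ] at h1
    exact h1
  choose Q hQI hQ using hQex
  let φ₀ : B₀ →ₐ[S₀] R :=
    { (εB.toRingHom.comp (e.symm : R ⊗[S₀] B₀ →+* B)).comp
        (Algebra.TensorProduct.includeRight : B₀ →ₐ[S₀] R ⊗[S₀] B₀).toRingHom with
      commutes' := fun s => by
        show εB (e.symm ((1 : R) ⊗ₜ[S₀] algebraMap S₀ B₀ s)) = algebraMap S₀ R s
        rw [show (1 : R) ⊗ₜ[S₀] algebraMap S₀ B₀ s = algebraMap R (R ⊗[S₀] B₀) (algebraMap S₀ R s) from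
          (Algebra.TensorProduct.includeRight : B₀ →ₐ[S₀] R ⊗[S₀] B₀).commutes s,
          AlgEquiv.commutes, AlgHom.commutes]
        rfl }
  choose comp hcomp using fun b : B => TensorProduct.exists_finset (e b)
  let polys : Finset (MvPolynomial (Fin n) B) := Fs ∪ (insert G (Finset.univ.image Q))
  let S₁ : Finset R := (polys.biUnion fun p => p.coeffs.biUnion fun b => (comp b).image Prod.fst) ∪
    TB.image φ₀ ∪ Finset.univ.image fun i => εC (y i)
  let R₁ := Algebra.adjoin S₀ (S₁ : Set R)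
  letI : CommRing R₁ := inferInstance
  letI : CommRing (R₁ ⊗[S₀] B₀) := inferInstance
  haveI : Algebra.FiniteType S₀ R₁ := R₁.fg_iff_finiteType.1 ⟨S₁, rfl⟩
  haveI : IsNoetherianRing R₁ := Algebra.FiniteType.isNoetherianRing S₀ R₁
  have hφR : ∀ b, φ₀ b ∈ R₁ := by
    intro b
    have hb : φ₀ b ∈ (Algebra.adjoin S₀ (TB : Set B₀)).map φ₀ := ⟨b, hTB ▸ Algebra.mem_top, rfl⟩
    rw [AlgHom.map_adjoin] at hb
    refine Algebra.adjoin_mono ?_ hb
    rintro _ ⟨t, ht, rfl⟩
    exact Finset.mem_coe.2 (Finset.mem_union_left _ (Finset.mem_union_right _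
      (Finset.mem_image_of_mem φ₀ ht)))
  let φ₁ : B₀ →ₐ[S₀] R₁ := φ₀.codRestrict R₁ hφR
  let t₁ : Fin n → R₁ := fun i => ⟨εC (y i), Algebra.subset_adjoin (Finset.mem_coe.2
    (Finset.mem_union_right _ (Finset.mem_image.2 ⟨i, Finset.mem_univ _, rfl⟩)))⟩
  let u : R₁ ⊗[S₀] B₀ →+* B := (e.symm : R ⊗[S₀] B₀ →+* B).comp
    (Algebra.TensorProduct.map R₁.val (AlgHom.id S₀ B₀)).toRingHom
  have hue : ∀ z, e (u z) = Algebra.TensorProduct.map R₁.val (AlgHom.id S₀ B₀) z := fun z =>
    e.apply_symm_apply _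
  have huε : ∀ z, εB (u z) = (sect φ₁ z : R) := by
    intro z
    induction z with
    | zero => simp
    | add a b ha hb => simp only [map_add, ha, hb, Subalgebra.coe_add]
    | tmul a b =>
      show εB (e.symm ((a : R) ⊗ₜ[S₀] b)) = ((sect φ₁ (a ⊗ₜ b) : R₁) : R)
      rw [show (a : R) ⊗ₜ[S₀] b = algebraMap R (R ⊗[S₀] B₀) (a : R) * ((1 : R) ⊗ₜ b) by
        rw [Algebra.TensorProduct.algebraMap_apply, Algebra.TensorProduct.tmul_mul_tmul, mul_one,
          one_mul]; rfl,
        map_mul, AlgEquiv.commutes, map_mul, AlgHom.commutes]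
      simp [sect, φ₁]
      rfl
  have hlift : ∀ p ∈ polys, ∃ p₁, MvPolynomial.map u p₁ = p := by
    intro p hp
    refine MvPolynomial.mem_range_map_iff_coeffs_subset.2 fun b hb => ?_
    refine ⟨∑ z ∈ (comp b).attach, (⟨z.1.1, Algebra.subset_adjoin (Finset.mem_coe.2
      (Finset.mem_union_left _ (Finset.mem_union_left _ (Finset.mem_biUnion.2 ⟨p, hp,
        Finset.mem_biUnion.2 ⟨b, hb, Finset.mem_image_of_mem Prod.fst z.2⟩⟩))))⟩ : R₁) ⊗ₜ z.1.2,
      e.injective ?_⟩
    rw [hue, hcomp b, map_sum, ← Finset.sum_attach (comp b) fun z => z.1 ⊗ₜ[S₀] z.2]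
    simp
  have hG' : G ∈ polys := Finset.mem_union_right _ (Finset.mem_insert_self _ _)
  have hQ' : ∀ i, Q i ∈ polys := fun i => Finset.mem_union_right _
    (Finset.mem_insert_of_mem (Finset.mem_image.2 ⟨i, Finset.mem_univ _, rfl⟩))
  choose F₁ hF₁ using hlift
  let G₁ := F₁ G hG'
  let Q₁ : Fin n → MvPolynomial (Fin n) (R₁ ⊗[S₀] B₀) := fun i => F₁ (Q i) (hQ' i)
  let aR : R₁ →+* R₁ ⊗[S₀] B₀ := algebraMap R₁ (R₁ ⊗[S₀] B₀)
  let e₁ : Fin n → MvPolynomial (Fin n) (R₁ ⊗[S₀] B₀) := fun i =>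
    G₁ * (MvPolynomial.X i - MvPolynomial.C (aR (t₁ i))) - Q₁ i
  let Rel : Set (MvPolynomial (Fin n) (R₁ ⊗[S₀] B₀)) :=
    (Set.range fun p : Fs => F₁ p.1 (Finset.mem_union_left _ p.2)) ∪ Set.range e₁
  let C₁ := MvPolynomial (Fin n) (R₁ ⊗[S₀] B₀) ⧸ Ideal.span Rel
  letI : CommRing C₁ := Ideal.Quotient.commRing _
  let mk₁ : MvPolynomial (Fin n) (R₁ ⊗[S₀] B₀) →+* C₁ := Ideal.Quotient.mk (Ideal.span Rel)
  let ev₁ : MvPolynomial (Fin n) (R₁ ⊗[S₀] B₀) →+* R₁ :=
    MvPolynomial.eval₂Hom (sect φ₁).toRingHom t₁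
  have hev : ∀ p, (ev₁ p : R) = εC (π (MvPolynomial.map u p)) := by
    intro p
    have : (R₁.val.toRingHom.comp ev₁) = εC.toRingHom.comp (π.toRingHom.comp (MvPolynomial.map u)) := by
      refine MvPolynomial.ringHom_ext (fun b => ?_) fun i => ?_
      · show (ev₁ (MvPolynomial.C b) : R) = εC (π (MvPolynomial.map u (MvPolynomial.C b)))
        rw [MvPolynomial.map_C, show π (MvPolynomial.C (u b)) = algebraMap B C (u b) from π.commutes _,
          hεC, huε]
        simp [ev₁]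
      · show (ev₁ (MvPolynomial.X i) : R) = εC (π (MvPolynomial.map u (MvPolynomial.X i)))
        simp [ev₁, t₁, y]
    exact RingHom.congr_fun this p
  have hut : ∀ r : R₁, u (aR r) = algebraMap R B r := fun r => by
    apply e.injective
    rw [hue, AlgEquiv.commutes]
    simp [aR, Algebra.TensorProduct.algebraMap_apply]
  have hmape : ∀ i, π (MvPolynomial.map u (e₁ i)) = 0 := by
    intro i
    simp only [e₁, G₁, Q₁, map_sub, map_mul, hF₁, MvPolynomial.map_X, MvPolynomial.map_C, hut, hQ, hG]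
    rw [show π (MvPolynomial.C (algebraMap R B (t₁ i : R))) = algebraMap R C (εC (y i)) by
      rw [IsScalarTower.algebraMap_apply R B C]; exact π.commutes _]
    exact sub_self _
  have hRel : ∀ p ∈ Rel, π (MvPolynomial.map u p) = 0 := by
    rintro p (⟨q, rfl⟩ | ⟨i, rfl⟩)
    · rw [hF₁]
      exact (RingHom.mem_ker).1 (hFs.le (Submodule.subset_span q.2))
    · exact hmape i
  have hε0 : ∀ a ∈ Ideal.span Rel, ev₁ a = 0 := fun a ha => by
    refine (Ideal.span_le (I := RingHom.ker ev₁)).2 (fun p hp => ?_) ha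
    refine Subtype.ext ?_
    rw [hev, hRel p hp, map_zero]
    rfl
  let εC₁ : C₁ →+* R₁ := Ideal.Quotient.lift _ ev₁ hε0
  have hεC₁ : εC₁.comp (algebraMap (R₁ ⊗[S₀] B₀) C₁) = (sect φ₁).toRingHom := by
    refine RingHom.ext fun b => ?_
    show εC₁ (mk₁ (MvPolynomial.C b)) = _
    rw [Ideal.Quotient.lift_mk]
    exact MvPolynomial.eval₂Hom_C _ _ b
  have hg₁ : εC₁ (mk₁ G₁) = 1 := by
    rw [Ideal.Quotient.lift_mk]
    refine Subtype.ext ?_
    rw [hev, hF₁, hG, hgC]
    rfl
  set I₁ : Ideal (R₁ ⊗[S₀] B₀) := RingHom.ker (sect φ₁) with hI₁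
  have hQI₁ : ∀ i, mk₁ (Q₁ i) ∈ I₁.map (algebraMap (R₁ ⊗[S₀] B₀) C₁) := by
    intro i
    rw [show algebraMap (R₁ ⊗[S₀] B₀) C₁ = mk₁.comp MvPolynomial.C from rfl, ← Ideal.map_map]
    refine Ideal.mem_map_of_mem _ (MvPolynomial.mem_map_C_iff.2 fun m => ?_)
    rw [hI₁, RingHom.mem_ker]
    refine Subtype.ext ?_
    rw [← huε, ← MvPolynomial.coeff_map, hF₁]
    exact MvPolynomial.mem_map_C_iff.1 (hQI i) m
  have hgen : ∀ c : C₁, mk₁ G₁ * (c - algebraMap (R₁ ⊗[S₀] B₀) C₁ (aR (εC₁ c))) ∈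
      I₁.map (algebraMap (R₁ ⊗[S₀] B₀) C₁) := by
    intro c
    obtain ⟨p, rfl⟩ := Ideal.Quotient.mk_surjective c
    induction p using MvPolynomial.induction_on with
    | C b =>
      refine Ideal.mul_mem_left _ _ ?_
      show mk₁ (MvPolynomial.C b) - algebraMap (R₁ ⊗[S₀] B₀) C₁ (aR (ev₁ (MvPolynomial.C b))) ∈ _
      rw [MvPolynomial.eval₂Hom_C, show mk₁ (MvPolynomial.C b) = algebraMap (R₁ ⊗[S₀] B₀) C₁ b from rfl,
        ← map_sub]
      refine Ideal.mem_map_of_mem _ ?_
      rw [hI₁, RingHom.mem_ker, map_sub]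
      simp [aR, sect]
    | add p q hp hq =>
      rw [map_add, map_add, map_add, map_add, add_sub_add_comm, mul_add]
      exact Ideal.add_mem _ hp hq
    | mul_X p i hp =>
      rw [map_mul, map_mul, map_mul, map_mul, show mk₁ G₁ * (mk₁ p * mk₁ (MvPolynomial.X i) -
          algebraMap (R₁ ⊗[S₀] B₀) C₁ (aR (εC₁ (mk₁ p))) *
            algebraMap (R₁ ⊗[S₀] B₀) C₁ (aR (εC₁ (mk₁ (MvPolynomial.X i))))) =
        (mk₁ G₁ * (mk₁ p - algebraMap (R₁ ⊗[S₀] B₀) C₁ (aR (εC₁ (mk₁ p))))) * mk₁ (MvPolynomial.X i) +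
          algebraMap (R₁ ⊗[S₀] B₀) C₁ (aR (εC₁ (mk₁ p))) * (mk₁ G₁ * (mk₁ (MvPolynomial.X i) -
            algebraMap (R₁ ⊗[S₀] B₀) C₁ (aR (εC₁ (mk₁ (MvPolynomial.X i)))))) by ring]
      refine Ideal.add_mem _ (Ideal.mul_mem_right _ _ hp) (Ideal.mul_mem_left _ _ ?_)
      have h1 : mk₁ (e₁ i) = 0 :=
        Ideal.Quotient.eq_zero_iff_mem.2 (Ideal.subset_span (Or.inr ⟨i, rfl⟩))
      rw [map_sub, map_mul, map_sub, sub_eq_zero] at h1
      rw [show εC₁ (mk₁ (MvPolynomial.X i)) = t₁ i from MvPolynomial.eval₂Hom_X' _ _ i]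
      exact h1 ▸ hQI₁ i
  obtain ⟨J, hJ, E₀, _, ι₀, m₀, σ₀, het, hm₀, hσ₀⟩ :=
    UnitJet.exists_locus (d := P₀.dimension) (g := g) hg φ₁ εC₁ hεC₁ (mk₁ G₁) hg₁ hgen
  let I : Ideal R := J.map R₁.val
  refine ⟨I, Ideal.FG.map ((inferInstance : IsNoetherianRing R₁).noetherian J) _, ?_, ?_⟩
  · intro A _ _ H
    let ρ : R →ₐ[S₀] A := IsScalarTower.toAlgHom S₀ R A
    show Ideal.map (algebraMap R A) (J.map R₁.val.toRingHom) = ⊥
    rw [Ideal.map_map]
    refine hJ A (ρ.comp R₁.val) fun k ψ hψ => ?_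
    let θ : B →+* jetRing P₀.dimension k A :=
      (Algebra.TensorProduct.lift (((Algebra.ofId A (jetRing P₀.dimension k A)).restrictScalars S₀).comp ρ)
        ψ fun _ _ => Commute.all _ _).toRingHom.comp (e : B →+* R ⊗[S₀] B₀)
    have hθu : ∀ z, θ (u z) = jetC ψ (Algebra.TensorProduct.map (ρ.comp R₁.val) (AlgHom.id S₀ B₀) z) := by
      intro z
      show Algebra.TensorProduct.lift _ ψ (fun _ _ => Commute.all _ _) (e (u z)) = _
      rw [hue]
      induction z with
      | zero => simp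
      | add a b ha hb => simp only [map_add, ha, hb]
      | tmul a b => simp [jetC]
    have hq : ((ev0 P₀.dimension k A).toRingHom).comp θ = (algebraMap R A).comp εB.toRingHom := by
      refine RingHom.ext fun b => ?_
      obtain ⟨z, rfl⟩ := e.symm.surjective b
      show ev0 P₀.dimension k A (Algebra.TensorProduct.lift _ ψ (fun _ _ => Commute.all _ _) (e (e.symm z))) = algebraMap R A (εB (e.symm z))
      rw [AlgEquiv.apply_symm_apply]
      induction z with
      | zero => simp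
      | add a b ha hb => simp only [map_add, ha, hb]
      | tmul a b =>
        rw [Algebra.TensorProduct.lift_tmul, map_mul,
          show a ⊗ₜ[S₀] b = algebraMap R (R ⊗[S₀] B₀) a * ((1 : R) ⊗ₜ b) by
            rw [Algebra.TensorProduct.algebraMap_apply, Algebra.TensorProduct.tmul_mul_tmul, mul_one,
              one_mul]; rfl,
          map_mul, AlgEquiv.commutes, map_mul, AlgHom.commutes, map_mul, hψ.2]
        simp [ρ, φ₁, φ₀]
    have hsur : Function.Surjective (ev0 P₀.dimension k A).toRingHom :=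
      fun a => ⟨algebraMap A _ a, AlgHom.commutes _ a⟩
    have hθR : θ.comp (algebraMap R B) =
        (algebraMap A (jetRing P₀.dimension k A)).comp (algebraMap R A) := RingHom.ext fun r => by
      show Algebra.TensorProduct.lift _ ψ (fun _ _ => Commute.all _ _) (e (algebraMap R B r)) = _
      rw [AlgEquiv.commutes, Algebra.TensorProduct.algebraMap_apply, Algebra.TensorProduct.lift_tmul,
        map_one, mul_one]
      rfl
    obtain ⟨l, hl1, hl2⟩ := H _ _ θ _ hθR hsur isNilpotent_ker_ev0 hq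
    let l₁ : C₁ →+* jetRing P₀.dimension k A := Ideal.Quotient.lift _
      (l.comp (π.toRingHom.comp (MvPolynomial.map u))) fun a ha => by
        refine (Ideal.span_le (I := RingHom.ker (l.comp (π.toRingHom.comp (MvPolynomial.map u))))).2
          (fun p hp => ?_) ha
        show l (π (MvPolynomial.map u p)) = 0
        rw [hRel p hp, map_zero]
    refine ⟨l₁, RingHom.ext fun b => ?_, RingHom.ext fun c => ?_⟩
    · show l (π (MvPolynomial.map u (MvPolynomial.C b))) = _
      rw [MvPolynomial.map_C, show π (MvPolynomial.C (u b)) = algebraMap B C (u b) from π.commutes _,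
        show l (algebraMap B C (u b)) = θ (u b) from RingHom.congr_fun hl1 (u b), hθu]
      rfl
    · obtain ⟨p, rfl⟩ := Ideal.Quotient.mk_surjective c
      show (ev0 P₀.dimension k A) (l (π (MvPolynomial.map u p))) = algebraMap R A (εC₁ (mk₁ p) : R)
      rw [Ideal.Quotient.lift_mk, hev]
      exact RingHom.congr_fun hl2 _
  · let Bb := (R ⧸ I) ⊗[R] B
    let incB : B →ₐ[R] Bb := Algebra.TensorProduct.includeRight
    let κ : R₁ ⧸ J →+* R ⧸ I := Ideal.quotientMap I R₁.val.toRingHom Ideal.le_comap_map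
    let inB₀ : B₀ →ₐ[S₀] Bb :=
      (incB.restrictScalars S₀).comp ((e.symm.toAlgHom.restrictScalars S₀).comp
        Algebra.TensorProduct.includeRight)
    let inA : R₁ ⧸ J →ₐ[S₀] Bb :=
      { (Algebra.TensorProduct.includeLeft : R ⧸ I →ₐ[R] Bb).toRingHom.comp κ with
        commutes' := fun s => by
          show (Algebra.TensorProduct.includeLeft : R ⧸ I →ₐ[R] Bb)
            (κ (Ideal.Quotient.mk J (algebraMap S₀ R₁ s))) = _
          rw [Ideal.quotientMap_mk]
          exact ((Algebra.TensorProduct.includeLeft : R ⧸ I →ₐ[R] Bb).commutes (algebraMap S₀ R s)).trans rfl }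
    let ν₀ : (R₁ ⧸ J) ⊗[S₀] B₀ →ₐ[S₀] Bb :=
      Algebra.TensorProduct.lift inA inB₀ fun _ _ => Commute.all _ _
    let μ : R₁ ⊗[S₀] B₀ →ₐ[S₀] (R₁ ⧸ J) ⊗[S₀] B₀ :=
      Algebra.TensorProduct.map (Ideal.Quotient.mkₐ S₀ J) (AlgHom.id S₀ B₀)
    have hν₀ : ∀ z, ν₀ (μ z) = (1 : R ⧸ I) ⊗ₜ[R] u z := by
      intro z
      induction z with
      | zero => simp
      | add a b ha hb => simp only [map_add, ha, hb, TensorProduct.tmul_add]
      | tmul a b =>
        show (Algebra.TensorProduct.includeLeft : R ⧸ I →ₐ[R] Bb) (κ (Ideal.Quotient.mk J a)) *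
          incB (e.symm ((1 : R) ⊗ₜ b)) = _
        rw [Ideal.quotientMap_mk,
          show u (a ⊗ₜ b) = e.symm ((a : R) ⊗ₜ b) from rfl,
          show (a : R) ⊗ₜ[S₀] b = algebraMap R (R ⊗[S₀] B₀) (a : R) * ((1 : R) ⊗ₜ b) by
            rw [Algebra.TensorProduct.algebraMap_apply, Algebra.TensorProduct.tmul_mul_tmul, mul_one,
              one_mul]; rfl,
          map_mul, AlgEquiv.commutes]
        show _ = incB (algebraMap R B (a : R) * _)
        rw [map_mul, AlgHom.commutes]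
        congr 1
    let ν := Ideal.Quotient.lift (RingHom.ker μ.toRingHom) (ν₀.toRingHom.comp μ.toRingHom)
      (fun z hz => by
        show ν₀ (μ z) = 0
        rw [show μ z = 0 from hz, map_zero])
    let qb : Bb →ₐ[R] R ⧸ I :=
      Algebra.TensorProduct.lift (AlgHom.id R (R ⧸ I)) ((Ideal.Quotient.mkₐ R I).comp εB)
        fun _ _ => Commute.all _ _
    have hqb : ∀ b : B, qb ((1 : R ⧸ I) ⊗ₜ[R] b) = Ideal.Quotient.mk I (εB b) := fun b => by
      refine (Algebra.TensorProduct.lift_tmul _ _ _ _ _).trans ?_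
      rw [map_one, one_mul]
      rfl
    have hν : ∀ b, ν (Ideal.Quotient.mk _ b) = (1 : R ⧸ I) ⊗ₜ[R] u b := hν₀
    obtain ⟨E, _, ιE, jE, σ, hιet, hcomm, hσι, hσj⟩ :=
      exists_baseChange_point ν ι₀ het qb.toRingHom (κ.comp σ₀) fun x => by
        obtain ⟨b, rfl⟩ := Ideal.Quotient.mk_surjective x
        show qb (ν (Ideal.Quotient.mk _ b)) = κ (σ₀ (ι₀ (Ideal.Quotient.mk _ b)))
        rw [hν, hqb, huε, ← hm₀, hσ₀, show εC₁ (algebraMap (R₁ ⊗[S₀] B₀) C₁ b) = sect φ₁ b from
          RingHom.congr_fun hεC₁ b, Ideal.quotientMap_mk]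
        rfl
    let f : MvPolynomial (Fin n) B →+* E :=
      MvPolynomial.eval₂Hom (ιE.comp incB.toRingHom) fun i => jE (m₀ (mk₁ (MvPolynomial.X i)))
    have hf : ∀ p, f (MvPolynomial.map u p) = jE (m₀ (mk₁ p)) := by
      intro p
      induction p using MvPolynomial.induction_on with
      | C b =>
        rw [MvPolynomial.map_C, MvPolynomial.eval₂Hom_C,
          show mk₁ (MvPolynomial.C b) = algebraMap (R₁ ⊗[S₀] B₀) C₁ b from rfl, hm₀, ← hcomm, hν]
        rfl
      | add p q hp hq => simp only [map_add, hp, hq]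
      | mul_X p i hp =>
        simp only [map_mul, hp]
        congr 1
        rw [MvPolynomial.map_X, MvPolynomial.eval₂Hom_X']
    have hfker : ∀ p ∈ RingHom.ker π.toRingHom, f p = 0 := by
      intro p hp
      rw [← hFs] at hp
      refine (Ideal.span_le (I := RingHom.ker f)).2 (fun q hq => ?_) hp
      show f q = 0
      rw [← hF₁ q (Finset.mem_union_left _ hq), hf,
        show mk₁ (F₁ q (Finset.mem_union_left _ hq)) = 0 from
          Ideal.Quotient.eq_zero_iff_mem.2 (Ideal.subset_span (Or.inl ⟨⟨q, hq⟩, rfl⟩)),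
        map_zero, map_zero]
    let m : C →+* E := π.toRingHom.liftOfSurjective hπ ⟨f, fun p hp => RingHom.mem_ker.2 (hfker p hp)⟩
    have hm : ∀ p, m (π p) = f p := fun p =>
      RingHom.liftOfSurjective_comp_apply π.toRingHom hπ ⟨f, fun p hp => RingHom.mem_ker.2 (hfker p hp)⟩ p
    refine ⟨E, inferInstance, ιE, m, σ, hιet, fun b => ?_, fun c => ?_⟩
    · rw [show algebraMap B C b = π (MvPolynomial.C b) from (π.commutes b).symm, hm,
        MvPolynomial.eval₂Hom_C]
      rfl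
    · obtain ⟨p, rfl⟩ := hπ c
      rw [hm]
      induction p using MvPolynomial.induction_on with
      | C b =>
        rw [MvPolynomial.eval₂Hom_C, show π (MvPolynomial.C b) = algebraMap B C b from π.commutes b,
          hεC, ← hqb]
        exact hσι _
      | add p q hp hq => simp only [map_add, hp, hq]
      | mul_X p i hp =>
        simp only [map_mul, hp]
        congr 1
        rw [MvPolynomial.eval₂Hom_X', hσj]
        show κ (σ₀ (m₀ (mk₁ (MvPolynomial.X i)))) = _
        rw [hσ₀, Ideal.quotientMap_mk]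
        show Ideal.Quotient.mk I (εC₁ (mk₁ (MvPolynomial.X i)) : R) = _
        rw [Ideal.Quotient.lift_mk, MvPolynomial.eval₂Hom_X']

end Groth.Agent.Lib.SmWeil.UnitLocus
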